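import Cfsg.Agent.SchurG.Co1.Pres
import Cfsg.Agent.SchurG.Co1.Nets0
import Cfsg.Agent.SchurG.Co1.Nets1
import Cfsg.Agent.SchurG.Co1.Nets2
import Cfsg.Agent.SchurG.Co1.Nets3
import Cfsg.Agent.SchurG.Co1.Nets4
import Cfsg.Agent.SchurG.Co1.Nets5

set_option autoImplicit false
set_option maxRecDepth 100000

namespace Cfsg.Agent.SchurG.Co1
open Cfsg.Agent.Comp

noncomputable def T : List Net := [n0, n1, n2, n3, n4, n5, n6, n7, n8, n9, n10, n11, n12, n13, n14, n15]

theorem ok : TOK 98280 T :=
  (TOK.cons n0_ok (TOK.cons n1_ok (TOK.cons n2_ok (TOK.cons n3_ok (TOK.cons n4_ok (TOK.cons n5_ok (TOK.cons n6_ok (TOK.cons n7_ok (TOK.cons n8_ok (TOK.cons n9_ok (TOK.cons n10_ok (TOK.cons n11_ok (TOK.cons n12_ok (TOK.cons n13_ok (TOK.cons n14_ok (TOK.cons n15_ok (TOK.nil _)))))))))))))))))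

def E : List (List Nat × List Nat) :=
  []

theorem eqs : ∀ e ∈ E, ev (sig T) e.1 = ev (sig T) e.2 := eqs_nil _

def lowW1 : List (List Nat) := [[0],
   [1],
   [2],
   [3],
   [4],
   [5],
   [6],
   [7],
   [8],
   [9],
   [10],
   [11],
   [12],
   [13],
   [14]]

def lowW2 : List (List Nat) := [[0],
   [1],
   [2],
   [3],
   [4],
   [5],
   [6],
   [7],
   [8],
   [9],
   [10],
   [11],
   [12],
   [13]]

def lowW3 : List (List Nat) := [[0],
   [1],
   [2],
   [3],
   [4],
   [5],
   [6],
   [7],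
   [8],
   [9],
   [10],
   [11],
   [12]]

def lowW4 : List (List Nat) := [[0],
   [1],
   [2],
   [3],
   [4],
   [5],
   [6],
   [7],
   [8],
   [9],
   [10],
   [11]]

def lowW5 : List (List Nat) := [[0],
   [1],
   [2],
   [3],
   [4],
   [5],
   [6],
   [7],
   [8],
   [9],
   [10]]

def lowW6 : List (List Nat) := [[0],
   [1],
   [2],
   [3],
   [4],
   [5],
   [6],
   [7],
   [8],
   [9]]

def lowW7 : List (List Nat) := [[0],
   [1],
   [2],
   [3],
   [4],
   [5],
   [6],
   [7]]

def lowW8 : List (List Nat) := [[0],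
   [1],
   [2],
   [3]]

def lowW9 : List (List Nat) := [[0],
   [1],
   [2]]

def lowW10 : List (List Nat) := [[0],
   [1]]

def lowW11 : List (List Nat) := [[0]]

theorem low_11 : 2 ≤ Nat.card (genW (sig T) lowW11) :=
  chain_step (W' := []) (b := 4407) (n := 2) (m := 1) ok (le_of_subOK eqs (show subOK lowW11 [] E = true by decide +kernel)) (by decide +kernel)
    (le_ncard_of_orbGe ok (by norm_num) (show orbGe (nat_lit 98280) (nat_lit 17) T lowW11 [0] (nat_lit 4407) (nat_lit 2) = true by decide +kernel))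
    (chain_base ok [])

theorem low_10 : 4 ≤ Nat.card (genW (sig T) lowW10) :=
  chain_step (W' := lowW11) (b := 1750) (n := 2) (m := 2) ok (le_of_subOK eqs (show subOK lowW10 lowW11 E = true by decide +kernel)) (by decide +kernel)
    (le_ncard_of_orbGe ok (by norm_num) (show orbGe (nat_lit 98280) (nat_lit 17) T lowW10 [1] (nat_lit 1750) (nat_lit 2) = true by decide +kernel))
    low_11

theorem low_9 : 8 ≤ Nat.card (genW (sig T) lowW9) :=
  chain_step (W' := lowW10) (b := 286) (n := 2) (m := 4) ok (le_of_subOK eqs (show subOK lowW9 lowW10 E = true by decide +kernel)) (by decide +kernel)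
    (le_ncard_of_orbGe ok (by norm_num) (show orbGe (nat_lit 98280) (nat_lit 17) T lowW9 [2] (nat_lit 286) (nat_lit 2) = true by decide +kernel))
    low_10

theorem low_8 : 16 ≤ Nat.card (genW (sig T) lowW8) :=
  chain_step (W' := lowW9) (b := 3650) (n := 2) (m := 8) ok (le_of_subOK eqs (show subOK lowW8 lowW9 E = true by decide +kernel)) (by decide +kernel)
    (le_ncard_of_orbGe ok (by norm_num) (show orbGe (nat_lit 98280) (nat_lit 17) T lowW8 [3] (nat_lit 3650) (nat_lit 2) = true by decide +kernel))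
    low_9

theorem low_7 : 512 ≤ Nat.card (genW (sig T) lowW7) :=
  chain_step (W' := lowW8) (b := 3192) (n := 32) (m := 16) ok (le_of_subOK eqs (show subOK lowW7 lowW8 E = true by decide +kernel)) (by decide +kernel)
    (le_ncard_of_orbGe ok (by norm_num) (show orbGe (nat_lit 98280) (nat_lit 17) T lowW7 [4, 5, 6, 7, 0, 5] (nat_lit 3192) (nat_lit 32) = true by decide +kernel))
    low_8

theorem low_6 : 1536 ≤ Nat.card (genW (sig T) lowW6) :=
  chain_step (W' := lowW7) (b := 28) (n := 3) (m := 512) ok (le_of_subOK eqs (show subOK lowW6 lowW7 E = true by decide +kernel)) (by decide +kernel)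
    (le_ncard_of_orbGe ok (by norm_num) (show orbGe (nat_lit 98280) (nat_lit 17) T lowW6 [8, 8] (nat_lit 28) (nat_lit 3) = true by decide +kernel))
    low_7

theorem low_5 : 6144 ≤ Nat.card (genW (sig T) lowW5) :=
  chain_step (W' := lowW6) (b := 668) (n := 4) (m := 1536) ok (le_of_subOK eqs (show subOK lowW5 lowW6 E = true by decide +kernel)) (by decide +kernel)
    (le_ncard_of_orbGe ok (by norm_num) (show orbGe (nat_lit 98280) (nat_lit 17) T lowW5 [10, 8, 8] (nat_lit 668) (nat_lit 4) = true by decide +kernel))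
    low_6

theorem low_4 : 245760 ≤ Nat.card (genW (sig T) lowW4) :=
  chain_step (W' := lowW5) (b := 1) (n := 40) (m := 6144) ok (le_of_subOK eqs (show subOK lowW4 lowW5 E = true by decide +kernel)) (by decide +kernel)
    (le_ncard_of_orbGe ok (by norm_num) (show orbGe (nat_lit 98280) (nat_lit 17) T lowW4 [11, 0, 1, 2, 4, 6, 11] (nat_lit 1) (nat_lit 40) = true by decide +kernel))
    low_5

theorem low_3 : 10321920 ≤ Nat.card (genW (sig T) lowW3) :=
  chain_step (W' := lowW4) (b := 455) (n := 42) (m := 245760) ok (le_of_subOK eqs (show subOK lowW3 lowW4 E = true by decide +kernel)) (by decide +kernel)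
    (le_ncard_of_orbGe ok (by norm_num) (show orbGe (nat_lit 98280) (nat_lit 17) T lowW3 [12, 8, 10, 11, 12, 10, 4, 1, 12] (nat_lit 455) (nat_lit 42) = true by decide +kernel))
    low_4

theorem low_2 : 9196830720 ≤ Nat.card (genW (sig T) lowW2) :=
  chain_step (W' := lowW3) (b := 399) (n := 891) (m := 10321920) ok (le_of_subOK eqs (show subOK lowW2 lowW3 E = true by decide +kernel)) (by decide +kernel)
    (le_ncard_of_orbGe ok (by norm_num) (show orbGe (nat_lit 98280) (nat_lit 17) T lowW2 [13, 12, 8, 10, 11, 13, 12, 10, 8, 4, 11, 13, 12, 10, 8, 11, 12, 3, 0] (nat_lit 399) (nat_lit 891) = true by decide +kernel))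
    low_3

theorem low_1 : 42305421312000 ≤ Nat.card (genW (sig T) lowW1) :=
  chain_step (W' := lowW2) (b := 3095) (n := 4600) (m := 9196830720) ok (le_of_subOK eqs (show subOK lowW1 lowW2 E = true by decide +kernel)) (by decide +kernel)
    (le_ncard_of_ivl (a := 1) ok (by norm_num) (show Nat.beq (grow T lowW1 [14, 10, 11, 12, 14, 8, 10, 11, 8, 14, 12, 10, 13, 8, 11, 12, 10, 14, 3, 1] (pt (nat_lit 3095))) (ivl (nat_lit 1) (nat_lit 4600)) = true by decide +kernel))
    low_2

theorem low : 4157776806543360000 ≤ Nat.card (genW (sig T) (letters 16)) :=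
  chain_step (W' := lowW1) (b := 0) (n := 98280) (m := 42305421312000) ok (le_of_subOK eqs (show subOK (letters 16) lowW1 E = true by decide +kernel)) (by decide +kernel)
    (le_ncard_of_ivl (a := 0) ok (by norm_num) (show Nat.beq (grow T (letters 16) [15, 11, 12, 13, 10, 14, 15, 11, 12, 8, 6, 10, 14, 15, 12, 11, 13, 15, 14, 12, 11, 8, 1, 10, 0] (pt (nat_lit 0))) (ivl (nat_lit 0) (nat_lit 98280)) = true by decide +kernel))
    low_1


end Cfsg.Agent.SchurG.Co1
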