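import Cfsg.Agent.SchurG.Co1.SatD

set_option autoImplicit false
set_option maxRecDepth 100000

namespace Cfsg.Agent.SchurG.Co1
open Cfsg.Agent.Comp

theorem sat_45_0 : SatP 98280 0 17 T sat_45L :=
  satP_of_relsP ok (by norm_num) (by norm_num) (by norm_num) (show relsP (nat_lit 98280) (nat_lit 17) (nat_lit 0) (nat_lit 17) T sat_45L = true by decide +kernel)

theorem sat_46_0 : SatP 98280 0 17 T sat_46L :=
  satP_of_relsP ok (by norm_num) (by norm_num) (by norm_num) (show relsP (nat_lit 98280) (nat_lit 17) (nat_lit 0) (nat_lit 17) T sat_46L = true by decide +kernel)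

theorem sat_47_0 : SatP 98280 0 17 T sat_47L :=
  satP_of_relsP ok (by norm_num) (by norm_num) (by norm_num) (show relsP (nat_lit 98280) (nat_lit 17) (nat_lit 0) (nat_lit 17) T sat_47L = true by decide +kernel)

theorem sat_48_0 : SatP 98280 0 17 T sat_48L :=
  satP_of_relsP ok (by norm_num) (by norm_num) (by norm_num) (show relsP (nat_lit 98280) (nat_lit 17) (nat_lit 0) (nat_lit 17) T sat_48L = true by decide +kernel)

theorem sat_49_0 : SatP 98280 0 17 T sat_49L :=
  satP_of_relsP ok (by norm_num) (by norm_num) (by norm_num) (show relsP (nat_lit 98280) (nat_lit 17) (nat_lit 0) (nat_lit 17) T sat_49L = true by decide +kernel)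

theorem sat_50_0 : SatP 98280 0 17 T sat_50L :=
  satP_of_relsP ok (by norm_num) (by norm_num) (by norm_num) (show relsP (nat_lit 98280) (nat_lit 17) (nat_lit 0) (nat_lit 17) T sat_50L = true by decide +kernel)

theorem sat_51_0 : SatP 98280 0 17 T sat_51L :=
  satP_of_relsP ok (by norm_num) (by norm_num) (by norm_num) (show relsP (nat_lit 98280) (nat_lit 17) (nat_lit 0) (nat_lit 17) T sat_51L = true by decide +kernel)

theorem sat_52_0 : SatP 98280 0 17 T sat_52L :=
  satP_of_relsP ok (by norm_num) (by norm_num) (by norm_num) (show relsP (nat_lit 98280) (nat_lit 17) (nat_lit 0) (nat_lit 17) T sat_52L = true by decide +kernel)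

theorem sat_53_0 : SatP 98280 0 17 T sat_53L :=
  satP_of_relsP ok (by norm_num) (by norm_num) (by norm_num) (show relsP (nat_lit 98280) (nat_lit 17) (nat_lit 0) (nat_lit 17) T sat_53L = true by decide +kernel)

theorem sat_54_0 : SatP 98280 0 17 T sat_54L :=
  satP_of_relsP ok (by norm_num) (by norm_num) (by norm_num) (show relsP (nat_lit 98280) (nat_lit 17) (nat_lit 0) (nat_lit 17) T sat_54L = true by decide +kernel)

theorem sat_55_0 : SatP 98280 0 9 T sat_55L :=
  satP_of_relsP ok (by norm_num) (by norm_num) (by norm_num) (show relsP (nat_lit 98280) (nat_lit 17) (nat_lit 0) (nat_lit 9) T sat_55L = true by decide +kernel)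

theorem sat_55_9 : SatP 98280 9 17 T sat_55L :=
  satP_of_relsP ok (by norm_num) (by norm_num) (by norm_num) (show relsP (nat_lit 98280) (nat_lit 17) (nat_lit 9) (nat_lit 8) T sat_55L = true by decide +kernel)

theorem sat_56_0 : SatP 98280 0 17 T sat_56L :=
  satP_of_relsP ok (by norm_num) (by norm_num) (by norm_num) (show relsP (nat_lit 98280) (nat_lit 17) (nat_lit 0) (nat_lit 17) T sat_56L = true by decide +kernel)

theorem sat_57_0 : SatP 98280 0 17 T sat_57L :=
  satP_of_relsP ok (by norm_num) (by norm_num) (by norm_num) (show relsP (nat_lit 98280) (nat_lit 17) (nat_lit 0) (nat_lit 17) T sat_57L = true by decide +kernel)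

theorem sat_58_0 : SatP 98280 0 17 T sat_58L :=
  satP_of_relsP ok (by norm_num) (by norm_num) (by norm_num) (show relsP (nat_lit 98280) (nat_lit 17) (nat_lit 0) (nat_lit 17) T sat_58L = true by decide +kernel)

theorem sat_59_0 : SatP 98280 0 17 T sat_59L :=
  satP_of_relsP ok (by norm_num) (by norm_num) (by norm_num) (show relsP (nat_lit 98280) (nat_lit 17) (nat_lit 0) (nat_lit 17) T sat_59L = true by decide +kernel)

theorem sat_60_0 : SatP 98280 0 17 T sat_60L :=
  satP_of_relsP ok (by norm_num) (by norm_num) (by norm_num) (show relsP (nat_lit 98280) (nat_lit 17) (nat_lit 0) (nat_lit 17) T sat_60L = true by decide +kernel)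

theorem sat_61_0 : SatP 98280 0 17 T sat_61L :=
  satP_of_relsP ok (by norm_num) (by norm_num) (by norm_num) (show relsP (nat_lit 98280) (nat_lit 17) (nat_lit 0) (nat_lit 17) T sat_61L = true by decide +kernel)

theorem sat_62_0 : SatP 98280 0 17 T sat_62L :=
  satP_of_relsP ok (by norm_num) (by norm_num) (by norm_num) (show relsP (nat_lit 98280) (nat_lit 17) (nat_lit 0) (nat_lit 17) T sat_62L = true by decide +kernel)

theorem sat_63_0 : SatP 98280 0 17 T sat_63L :=
  satP_of_relsP ok (by norm_num) (by norm_num) (by norm_num) (show relsP (nat_lit 98280) (nat_lit 17) (nat_lit 0) (nat_lit 17) T sat_63L = true by decide +kernel)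

theorem sat_64_0 : SatP 98280 0 17 T sat_64L :=
  satP_of_relsP ok (by norm_num) (by norm_num) (by norm_num) (show relsP (nat_lit 98280) (nat_lit 17) (nat_lit 0) (nat_lit 17) T sat_64L = true by decide +kernel)

theorem sat_65_0 : SatP 98280 0 17 T sat_65L :=
  satP_of_relsP ok (by norm_num) (by norm_num) (by norm_num) (show relsP (nat_lit 98280) (nat_lit 17) (nat_lit 0) (nat_lit 17) T sat_65L = true by decide +kernel)

theorem sat_66_0 : SatP 98280 0 17 T sat_66L :=
  satP_of_relsP ok (by norm_num) (by norm_num) (by norm_num) (show relsP (nat_lit 98280) (nat_lit 17) (nat_lit 0) (nat_lit 17) T sat_66L = true by decide +kernel)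

theorem sat_67_0 : SatP 98280 0 17 T sat_67L :=
  satP_of_relsP ok (by norm_num) (by norm_num) (by norm_num) (show relsP (nat_lit 98280) (nat_lit 17) (nat_lit 0) (nat_lit 17) T sat_67L = true by decide +kernel)

theorem sat_68_0 : SatP 98280 0 17 T sat_68L :=
  satP_of_relsP ok (by norm_num) (by norm_num) (by norm_num) (show relsP (nat_lit 98280) (nat_lit 17) (nat_lit 0) (nat_lit 17) T sat_68L = true by decide +kernel)

theorem sat_69_0 : SatP 98280 0 17 T sat_69L :=
  satP_of_relsP ok (by norm_num) (by norm_num) (by norm_num) (show relsP (nat_lit 98280) (nat_lit 17) (nat_lit 0) (nat_lit 17) T sat_69L = true by decide +kernel)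

theorem sat_70_0 : SatP 98280 0 17 T sat_70L :=
  satP_of_relsP ok (by norm_num) (by norm_num) (by norm_num) (show relsP (nat_lit 98280) (nat_lit 17) (nat_lit 0) (nat_lit 17) T sat_70L = true by decide +kernel)

theorem sat_71_0 : SatP 98280 0 17 T sat_71L :=
  satP_of_relsP ok (by norm_num) (by norm_num) (by norm_num) (show relsP (nat_lit 98280) (nat_lit 17) (nat_lit 0) (nat_lit 17) T sat_71L = true by decide +kernel)

theorem sat_72_0 : SatP 98280 0 17 T sat_72L :=
  satP_of_relsP ok (by norm_num) (by norm_num) (by norm_num) (show relsP (nat_lit 98280) (nat_lit 17) (nat_lit 0) (nat_lit 17) T sat_72L = true by decide +kernel)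

theorem sat_73_0 : SatP 98280 0 17 T sat_73L :=
  satP_of_relsP ok (by norm_num) (by norm_num) (by norm_num) (show relsP (nat_lit 98280) (nat_lit 17) (nat_lit 0) (nat_lit 17) T sat_73L = true by decide +kernel)

theorem sat_74_0 : SatP 98280 0 17 T sat_74L :=
  satP_of_relsP ok (by norm_num) (by norm_num) (by norm_num) (show relsP (nat_lit 98280) (nat_lit 17) (nat_lit 0) (nat_lit 17) T sat_74L = true by decide +kernel)

theorem sat_75_0 : SatP 98280 0 17 T sat_75L :=
  satP_of_relsP ok (by norm_num) (by norm_num) (by norm_num) (show relsP (nat_lit 98280) (nat_lit 17) (nat_lit 0) (nat_lit 17) T sat_75L = true by decide +kernel)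

theorem sat_76_0 : SatP 98280 0 17 T sat_76L :=
  satP_of_relsP ok (by norm_num) (by norm_num) (by norm_num) (show relsP (nat_lit 98280) (nat_lit 17) (nat_lit 0) (nat_lit 17) T sat_76L = true by decide +kernel)

theorem sat_77_0 : SatP 98280 0 17 T sat_77L :=
  satP_of_relsP ok (by norm_num) (by norm_num) (by norm_num) (show relsP (nat_lit 98280) (nat_lit 17) (nat_lit 0) (nat_lit 17) T sat_77L = true by decide +kernel)

theorem sat_78_0 : SatP 98280 0 17 T sat_78L :=
  satP_of_relsP ok (by norm_num) (by norm_num) (by norm_num) (show relsP (nat_lit 98280) (nat_lit 17) (nat_lit 0) (nat_lit 17) T sat_78L = true by decide +kernel)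

theorem sat_79_0 : SatP 98280 0 17 T sat_79L :=
  satP_of_relsP ok (by norm_num) (by norm_num) (by norm_num) (show relsP (nat_lit 98280) (nat_lit 17) (nat_lit 0) (nat_lit 17) T sat_79L = true by decide +kernel)

theorem sat_80_0 : SatP 98280 0 17 T sat_80L :=
  satP_of_relsP ok (by norm_num) (by norm_num) (by norm_num) (show relsP (nat_lit 98280) (nat_lit 17) (nat_lit 0) (nat_lit 17) T sat_80L = true by decide +kernel)

theorem sat_81_0 : SatP 98280 0 17 T sat_81L :=
  satP_of_relsP ok (by norm_num) (by norm_num) (by norm_num) (show relsP (nat_lit 98280) (nat_lit 17) (nat_lit 0) (nat_lit 17) T sat_81L = true by decide +kernel)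

theorem sat_82_0 : SatP 98280 0 17 T sat_82L :=
  satP_of_relsP ok (by norm_num) (by norm_num) (by norm_num) (show relsP (nat_lit 98280) (nat_lit 17) (nat_lit 0) (nat_lit 17) T sat_82L = true by decide +kernel)

theorem sat_83_0 : SatP 98280 0 17 T sat_83L :=
  satP_of_relsP ok (by norm_num) (by norm_num) (by norm_num) (show relsP (nat_lit 98280) (nat_lit 17) (nat_lit 0) (nat_lit 17) T sat_83L = true by decide +kernel)

theorem sat_84_0 : SatP 98280 0 17 T sat_84L :=
  satP_of_relsP ok (by norm_num) (by norm_num) (by norm_num) (show relsP (nat_lit 98280) (nat_lit 17) (nat_lit 0) (nat_lit 17) T sat_84L = true by decide +kernel)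


end Cfsg.Agent.SchurG.Co1
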