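import Cfsg.Agent.SchurG.Co1.SatD

set_option autoImplicit false
set_option maxRecDepth 100000

namespace Cfsg.Agent.SchurG.Co1
open Cfsg.Agent.Comp

theorem sat_85_0 : SatP 98280 0 17 T sat_85L :=
  satP_of_relsP ok (by norm_num) (by norm_num) (by norm_num) (show relsP (nat_lit 98280) (nat_lit 17) (nat_lit 0) (nat_lit 17) T sat_85L = true by decide +kernel)

theorem sat_86_0 : SatP 98280 0 17 T sat_86L :=
  satP_of_relsP ok (by norm_num) (by norm_num) (by norm_num) (show relsP (nat_lit 98280) (nat_lit 17) (nat_lit 0) (nat_lit 17) T sat_86L = true by decide +kernel)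

theorem sat_87_0 : SatP 98280 0 17 T sat_87L :=
  satP_of_relsP ok (by norm_num) (by norm_num) (by norm_num) (show relsP (nat_lit 98280) (nat_lit 17) (nat_lit 0) (nat_lit 17) T sat_87L = true by decide +kernel)

theorem sat_88_0 : SatP 98280 0 17 T sat_88L :=
  satP_of_relsP ok (by norm_num) (by norm_num) (by norm_num) (show relsP (nat_lit 98280) (nat_lit 17) (nat_lit 0) (nat_lit 17) T sat_88L = true by decide +kernel)

theorem sat_89_0 : SatP 98280 0 17 T sat_89L :=
  satP_of_relsP ok (by norm_num) (by norm_num) (by norm_num) (show relsP (nat_lit 98280) (nat_lit 17) (nat_lit 0) (nat_lit 17) T sat_89L = true by decide +kernel)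

theorem sat_90_0 : SatP 98280 0 17 T sat_90L :=
  satP_of_relsP ok (by norm_num) (by norm_num) (by norm_num) (show relsP (nat_lit 98280) (nat_lit 17) (nat_lit 0) (nat_lit 17) T sat_90L = true by decide +kernel)

theorem sat_91_0 : SatP 98280 0 17 T sat_91L :=
  satP_of_relsP ok (by norm_num) (by norm_num) (by norm_num) (show relsP (nat_lit 98280) (nat_lit 17) (nat_lit 0) (nat_lit 17) T sat_91L = true by decide +kernel)

theorem sat_92_0 : SatP 98280 0 17 T sat_92L :=
  satP_of_relsP ok (by norm_num) (by norm_num) (by norm_num) (show relsP (nat_lit 98280) (nat_lit 17) (nat_lit 0) (nat_lit 17) T sat_92L = true by decide +kernel)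

theorem sat_93_0 : SatP 98280 0 17 T sat_93L :=
  satP_of_relsP ok (by norm_num) (by norm_num) (by norm_num) (show relsP (nat_lit 98280) (nat_lit 17) (nat_lit 0) (nat_lit 17) T sat_93L = true by decide +kernel)

theorem sat_94_0 : SatP 98280 0 17 T sat_94L :=
  satP_of_relsP ok (by norm_num) (by norm_num) (by norm_num) (show relsP (nat_lit 98280) (nat_lit 17) (nat_lit 0) (nat_lit 17) T sat_94L = true by decide +kernel)

theorem sat_95_0 : SatP 98280 0 17 T sat_95L :=
  satP_of_relsP ok (by norm_num) (by norm_num) (by norm_num) (show relsP (nat_lit 98280) (nat_lit 17) (nat_lit 0) (nat_lit 17) T sat_95L = true by decide +kernel)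

theorem sat_96_0 : SatP 98280 0 17 T sat_96L :=
  satP_of_relsP ok (by norm_num) (by norm_num) (by norm_num) (show relsP (nat_lit 98280) (nat_lit 17) (nat_lit 0) (nat_lit 17) T sat_96L = true by decide +kernel)

theorem sat_97_0 : SatP 98280 0 17 T sat_97L :=
  satP_of_relsP ok (by norm_num) (by norm_num) (by norm_num) (show relsP (nat_lit 98280) (nat_lit 17) (nat_lit 0) (nat_lit 17) T sat_97L = true by decide +kernel)

theorem sat_98_0 : SatP 98280 0 17 T sat_98L :=
  satP_of_relsP ok (by norm_num) (by norm_num) (by norm_num) (show relsP (nat_lit 98280) (nat_lit 17) (nat_lit 0) (nat_lit 17) T sat_98L = true by decide +kernel)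

theorem sat_99_0 : SatP 98280 0 17 T sat_99L :=
  satP_of_relsP ok (by norm_num) (by norm_num) (by norm_num) (show relsP (nat_lit 98280) (nat_lit 17) (nat_lit 0) (nat_lit 17) T sat_99L = true by decide +kernel)

theorem sat_100_0 : SatP 98280 0 17 T sat_100L :=
  satP_of_relsP ok (by norm_num) (by norm_num) (by norm_num) (show relsP (nat_lit 98280) (nat_lit 17) (nat_lit 0) (nat_lit 17) T sat_100L = true by decide +kernel)

theorem sat_101_0 : SatP 98280 0 17 T sat_101L :=
  satP_of_relsP ok (by norm_num) (by norm_num) (by norm_num) (show relsP (nat_lit 98280) (nat_lit 17) (nat_lit 0) (nat_lit 17) T sat_101L = true by decide +kernel)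

theorem sat_102_0 : SatP 98280 0 17 T sat_102L :=
  satP_of_relsP ok (by norm_num) (by norm_num) (by norm_num) (show relsP (nat_lit 98280) (nat_lit 17) (nat_lit 0) (nat_lit 17) T sat_102L = true by decide +kernel)

theorem sat_103_0 : SatP 98280 0 9 T sat_103L :=
  satP_of_relsP ok (by norm_num) (by norm_num) (by norm_num) (show relsP (nat_lit 98280) (nat_lit 17) (nat_lit 0) (nat_lit 9) T sat_103L = true by decide +kernel)

theorem sat_103_9 : SatP 98280 9 17 T sat_103L :=
  satP_of_relsP ok (by norm_num) (by norm_num) (by norm_num) (show relsP (nat_lit 98280) (nat_lit 17) (nat_lit 9) (nat_lit 8) T sat_103L = true by decide +kernel)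

theorem sat_104_0 : SatP 98280 0 17 T sat_104L :=
  satP_of_relsP ok (by norm_num) (by norm_num) (by norm_num) (show relsP (nat_lit 98280) (nat_lit 17) (nat_lit 0) (nat_lit 17) T sat_104L = true by decide +kernel)

theorem sat_105_0 : SatP 98280 0 17 T sat_105L :=
  satP_of_relsP ok (by norm_num) (by norm_num) (by norm_num) (show relsP (nat_lit 98280) (nat_lit 17) (nat_lit 0) (nat_lit 17) T sat_105L = true by decide +kernel)

theorem sat_106_0 : SatP 98280 0 17 T sat_106L :=
  satP_of_relsP ok (by norm_num) (by norm_num) (by norm_num) (show relsP (nat_lit 98280) (nat_lit 17) (nat_lit 0) (nat_lit 17) T sat_106L = true by decide +kernel)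

theorem sat_107_0 : SatP 98280 0 17 T sat_107L :=
  satP_of_relsP ok (by norm_num) (by norm_num) (by norm_num) (show relsP (nat_lit 98280) (nat_lit 17) (nat_lit 0) (nat_lit 17) T sat_107L = true by decide +kernel)

theorem sat_108_0 : SatP 98280 0 17 T sat_108L :=
  satP_of_relsP ok (by norm_num) (by norm_num) (by norm_num) (show relsP (nat_lit 98280) (nat_lit 17) (nat_lit 0) (nat_lit 17) T sat_108L = true by decide +kernel)

theorem sat_109_0 : SatP 98280 0 17 T sat_109L :=
  satP_of_relsP ok (by norm_num) (by norm_num) (by norm_num) (show relsP (nat_lit 98280) (nat_lit 17) (nat_lit 0) (nat_lit 17) T sat_109L = true by decide +kernel)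

theorem sat_110_0 : SatP 98280 0 17 T sat_110L :=
  satP_of_relsP ok (by norm_num) (by norm_num) (by norm_num) (show relsP (nat_lit 98280) (nat_lit 17) (nat_lit 0) (nat_lit 17) T sat_110L = true by decide +kernel)

theorem sat_111_0 : SatP 98280 0 17 T sat_111L :=
  satP_of_relsP ok (by norm_num) (by norm_num) (by norm_num) (show relsP (nat_lit 98280) (nat_lit 17) (nat_lit 0) (nat_lit 17) T sat_111L = true by decide +kernel)

theorem sat_112_0 : SatP 98280 0 17 T sat_112L :=
  satP_of_relsP ok (by norm_num) (by norm_num) (by norm_num) (show relsP (nat_lit 98280) (nat_lit 17) (nat_lit 0) (nat_lit 17) T sat_112L = true by decide +kernel)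

theorem sat_113_0 : SatP 98280 0 17 T sat_113L :=
  satP_of_relsP ok (by norm_num) (by norm_num) (by norm_num) (show relsP (nat_lit 98280) (nat_lit 17) (nat_lit 0) (nat_lit 17) T sat_113L = true by decide +kernel)

theorem sat_114_0 : SatP 98280 0 17 T sat_114L :=
  satP_of_relsP ok (by norm_num) (by norm_num) (by norm_num) (show relsP (nat_lit 98280) (nat_lit 17) (nat_lit 0) (nat_lit 17) T sat_114L = true by decide +kernel)

theorem sat_115_0 : SatP 98280 0 17 T sat_115L :=
  satP_of_relsP ok (by norm_num) (by norm_num) (by norm_num) (show relsP (nat_lit 98280) (nat_lit 17) (nat_lit 0) (nat_lit 17) T sat_115L = true by decide +kernel)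

theorem sat_116_0 : SatP 98280 0 17 T sat_116L :=
  satP_of_relsP ok (by norm_num) (by norm_num) (by norm_num) (show relsP (nat_lit 98280) (nat_lit 17) (nat_lit 0) (nat_lit 17) T sat_116L = true by decide +kernel)

theorem sat_117_0 : SatP 98280 0 17 T sat_117L :=
  satP_of_relsP ok (by norm_num) (by norm_num) (by norm_num) (show relsP (nat_lit 98280) (nat_lit 17) (nat_lit 0) (nat_lit 17) T sat_117L = true by decide +kernel)

theorem sat_118_0 : SatP 98280 0 17 T sat_118L :=
  satP_of_relsP ok (by norm_num) (by norm_num) (by norm_num) (show relsP (nat_lit 98280) (nat_lit 17) (nat_lit 0) (nat_lit 17) T sat_118L = true by decide +kernel)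

theorem sat_119_0 : SatP 98280 0 17 T sat_119L :=
  satP_of_relsP ok (by norm_num) (by norm_num) (by norm_num) (show relsP (nat_lit 98280) (nat_lit 17) (nat_lit 0) (nat_lit 17) T sat_119L = true by decide +kernel)

theorem sat_120_0 : SatP 98280 0 17 T sat_120L :=
  satP_of_relsP ok (by norm_num) (by norm_num) (by norm_num) (show relsP (nat_lit 98280) (nat_lit 17) (nat_lit 0) (nat_lit 17) T sat_120L = true by decide +kernel)

theorem sat_121_0 : SatP 98280 0 17 T sat_121L :=
  satP_of_relsP ok (by norm_num) (by norm_num) (by norm_num) (show relsP (nat_lit 98280) (nat_lit 17) (nat_lit 0) (nat_lit 17) T sat_121L = true by decide +kernel)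


end Cfsg.Agent.SchurG.Co1
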