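import Cfsg.Agent.SchurG.Co1.SatD

set_option autoImplicit false
set_option maxRecDepth 100000

namespace Cfsg.Agent.SchurG.Co1
open Cfsg.Agent.Comp

theorem sat_122_0 : SatP 98280 0 17 T sat_122L :=
  satP_of_relsP ok (by norm_num) (by norm_num) (by norm_num) (show relsP (nat_lit 98280) (nat_lit 17) (nat_lit 0) (nat_lit 17) T sat_122L = true by decide +kernel)

theorem sat_123_0 : SatP 98280 0 17 T sat_123L :=
  satP_of_relsP ok (by norm_num) (by norm_num) (by norm_num) (show relsP (nat_lit 98280) (nat_lit 17) (nat_lit 0) (nat_lit 17) T sat_123L = true by decide +kernel)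

theorem sat_124_0 : SatP 98280 0 17 T sat_124L :=
  satP_of_relsP ok (by norm_num) (by norm_num) (by norm_num) (show relsP (nat_lit 98280) (nat_lit 17) (nat_lit 0) (nat_lit 17) T sat_124L = true by decide +kernel)

theorem sat_125_0 : SatP 98280 0 17 T sat_125L :=
  satP_of_relsP ok (by norm_num) (by norm_num) (by norm_num) (show relsP (nat_lit 98280) (nat_lit 17) (nat_lit 0) (nat_lit 17) T sat_125L = true by decide +kernel)

theorem sat_126_0 : SatP 98280 0 17 T sat_126L :=
  satP_of_relsP ok (by norm_num) (by norm_num) (by norm_num) (show relsP (nat_lit 98280) (nat_lit 17) (nat_lit 0) (nat_lit 17) T sat_126L = true by decide +kernel)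

theorem sat_127_0 : SatP 98280 0 17 T sat_127L :=
  satP_of_relsP ok (by norm_num) (by norm_num) (by norm_num) (show relsP (nat_lit 98280) (nat_lit 17) (nat_lit 0) (nat_lit 17) T sat_127L = true by decide +kernel)

theorem sat_128_0 : SatP 98280 0 17 T sat_128L :=
  satP_of_relsP ok (by norm_num) (by norm_num) (by norm_num) (show relsP (nat_lit 98280) (nat_lit 17) (nat_lit 0) (nat_lit 17) T sat_128L = true by decide +kernel)

theorem sat_129_0 : SatP 98280 0 17 T sat_129L :=
  satP_of_relsP ok (by norm_num) (by norm_num) (by norm_num) (show relsP (nat_lit 98280) (nat_lit 17) (nat_lit 0) (nat_lit 17) T sat_129L = true by decide +kernel)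

theorem sat_130_0 : SatP 98280 0 17 T sat_130L :=
  satP_of_relsP ok (by norm_num) (by norm_num) (by norm_num) (show relsP (nat_lit 98280) (nat_lit 17) (nat_lit 0) (nat_lit 17) T sat_130L = true by decide +kernel)

theorem sat_131_0 : SatP 98280 0 17 T sat_131L :=
  satP_of_relsP ok (by norm_num) (by norm_num) (by norm_num) (show relsP (nat_lit 98280) (nat_lit 17) (nat_lit 0) (nat_lit 17) T sat_131L = true by decide +kernel)

theorem sat_132_0 : SatP 98280 0 17 T sat_132L :=
  satP_of_relsP ok (by norm_num) (by norm_num) (by norm_num) (show relsP (nat_lit 98280) (nat_lit 17) (nat_lit 0) (nat_lit 17) T sat_132L = true by decide +kernel)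

theorem sat_133_0 : SatP 98280 0 17 T sat_133L :=
  satP_of_relsP ok (by norm_num) (by norm_num) (by norm_num) (show relsP (nat_lit 98280) (nat_lit 17) (nat_lit 0) (nat_lit 17) T sat_133L = true by decide +kernel)

theorem sat_134_0 : SatP 98280 0 17 T sat_134L :=
  satP_of_relsP ok (by norm_num) (by norm_num) (by norm_num) (show relsP (nat_lit 98280) (nat_lit 17) (nat_lit 0) (nat_lit 17) T sat_134L = true by decide +kernel)

theorem sat_135_0 : SatP 98280 0 17 T sat_135L :=
  satP_of_relsP ok (by norm_num) (by norm_num) (by norm_num) (show relsP (nat_lit 98280) (nat_lit 17) (nat_lit 0) (nat_lit 17) T sat_135L = true by decide +kernel)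

theorem sat_136_0 : SatP 98280 0 17 T sat_136L :=
  satP_of_relsP ok (by norm_num) (by norm_num) (by norm_num) (show relsP (nat_lit 98280) (nat_lit 17) (nat_lit 0) (nat_lit 17) T sat_136L = true by decide +kernel)

theorem sat_137_0 : SatP 98280 0 17 T sat_137L :=
  satP_of_relsP ok (by norm_num) (by norm_num) (by norm_num) (show relsP (nat_lit 98280) (nat_lit 17) (nat_lit 0) (nat_lit 17) T sat_137L = true by decide +kernel)

theorem sat_138_0 : SatP 98280 0 17 T sat_138L :=
  satP_of_relsP ok (by norm_num) (by norm_num) (by norm_num) (show relsP (nat_lit 98280) (nat_lit 17) (nat_lit 0) (nat_lit 17) T sat_138L = true by decide +kernel)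

theorem sat_139_0 : SatP 98280 0 17 T sat_139L :=
  satP_of_relsP ok (by norm_num) (by norm_num) (by norm_num) (show relsP (nat_lit 98280) (nat_lit 17) (nat_lit 0) (nat_lit 17) T sat_139L = true by decide +kernel)

theorem sat_140_0 : SatP 98280 0 17 T sat_140L :=
  satP_of_relsP ok (by norm_num) (by norm_num) (by norm_num) (show relsP (nat_lit 98280) (nat_lit 17) (nat_lit 0) (nat_lit 17) T sat_140L = true by decide +kernel)

theorem sat_141_0 : SatP 98280 0 17 T sat_141L :=
  satP_of_relsP ok (by norm_num) (by norm_num) (by norm_num) (show relsP (nat_lit 98280) (nat_lit 17) (nat_lit 0) (nat_lit 17) T sat_141L = true by decide +kernel)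

theorem sat_142_0 : SatP 98280 0 17 T sat_142L :=
  satP_of_relsP ok (by norm_num) (by norm_num) (by norm_num) (show relsP (nat_lit 98280) (nat_lit 17) (nat_lit 0) (nat_lit 17) T sat_142L = true by decide +kernel)

theorem sat_143_0 : SatP 98280 0 17 T sat_143L :=
  satP_of_relsP ok (by norm_num) (by norm_num) (by norm_num) (show relsP (nat_lit 98280) (nat_lit 17) (nat_lit 0) (nat_lit 17) T sat_143L = true by decide +kernel)

theorem sat_144_0 : SatP 98280 0 17 T sat_144L :=
  satP_of_relsP ok (by norm_num) (by norm_num) (by norm_num) (show relsP (nat_lit 98280) (nat_lit 17) (nat_lit 0) (nat_lit 17) T sat_144L = true by decide +kernel)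

theorem sat_145_0 : SatP 98280 0 17 T sat_145L :=
  satP_of_relsP ok (by norm_num) (by norm_num) (by norm_num) (show relsP (nat_lit 98280) (nat_lit 17) (nat_lit 0) (nat_lit 17) T sat_145L = true by decide +kernel)

theorem sat_146_0 : SatP 98280 0 17 T sat_146L :=
  satP_of_relsP ok (by norm_num) (by norm_num) (by norm_num) (show relsP (nat_lit 98280) (nat_lit 17) (nat_lit 0) (nat_lit 17) T sat_146L = true by decide +kernel)

theorem sat_147_0 : SatP 98280 0 17 T sat_147L :=
  satP_of_relsP ok (by norm_num) (by norm_num) (by norm_num) (show relsP (nat_lit 98280) (nat_lit 17) (nat_lit 0) (nat_lit 17) T sat_147L = true by decide +kernel)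

theorem sat_148_0 : SatP 98280 0 17 T sat_148L :=
  satP_of_relsP ok (by norm_num) (by norm_num) (by norm_num) (show relsP (nat_lit 98280) (nat_lit 17) (nat_lit 0) (nat_lit 17) T sat_148L = true by decide +kernel)

theorem sat_149_0 : SatP 98280 0 17 T sat_149L :=
  satP_of_relsP ok (by norm_num) (by norm_num) (by norm_num) (show relsP (nat_lit 98280) (nat_lit 17) (nat_lit 0) (nat_lit 17) T sat_149L = true by decide +kernel)

theorem sat_150_0 : SatP 98280 0 17 T sat_150L :=
  satP_of_relsP ok (by norm_num) (by norm_num) (by norm_num) (show relsP (nat_lit 98280) (nat_lit 17) (nat_lit 0) (nat_lit 17) T sat_150L = true by decide +kernel)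

theorem sat_151_0 : SatP 98280 0 17 T sat_151L :=
  satP_of_relsP ok (by norm_num) (by norm_num) (by norm_num) (show relsP (nat_lit 98280) (nat_lit 17) (nat_lit 0) (nat_lit 17) T sat_151L = true by decide +kernel)

theorem sat_152_0 : SatP 98280 0 17 T sat_152L :=
  satP_of_relsP ok (by norm_num) (by norm_num) (by norm_num) (show relsP (nat_lit 98280) (nat_lit 17) (nat_lit 0) (nat_lit 17) T sat_152L = true by decide +kernel)

theorem sat_153_0 : SatP 98280 0 17 T sat_153L :=
  satP_of_relsP ok (by norm_num) (by norm_num) (by norm_num) (show relsP (nat_lit 98280) (nat_lit 17) (nat_lit 0) (nat_lit 17) T sat_153L = true by decide +kernel)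

theorem sat_154_0 : SatP 98280 0 17 T sat_154L :=
  satP_of_relsP ok (by norm_num) (by norm_num) (by norm_num) (show relsP (nat_lit 98280) (nat_lit 17) (nat_lit 0) (nat_lit 17) T sat_154L = true by decide +kernel)

theorem sat_155_0 : SatP 98280 0 17 T sat_155L :=
  satP_of_relsP ok (by norm_num) (by norm_num) (by norm_num) (show relsP (nat_lit 98280) (nat_lit 17) (nat_lit 0) (nat_lit 17) T sat_155L = true by decide +kernel)

theorem sat_156_0 : SatP 98280 0 17 T sat_156L :=
  satP_of_relsP ok (by norm_num) (by norm_num) (by norm_num) (show relsP (nat_lit 98280) (nat_lit 17) (nat_lit 0) (nat_lit 17) T sat_156L = true by decide +kernel)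

theorem sat_157_0 : SatP 98280 0 17 T sat_157L :=
  satP_of_relsP ok (by norm_num) (by norm_num) (by norm_num) (show relsP (nat_lit 98280) (nat_lit 17) (nat_lit 0) (nat_lit 17) T sat_157L = true by decide +kernel)

theorem sat_158_0 : SatP 98280 0 17 T sat_158L :=
  satP_of_relsP ok (by norm_num) (by norm_num) (by norm_num) (show relsP (nat_lit 98280) (nat_lit 17) (nat_lit 0) (nat_lit 17) T sat_158L = true by decide +kernel)

theorem sat_159_0 : SatP 98280 0 17 T sat_159L :=
  satP_of_relsP ok (by norm_num) (by norm_num) (by norm_num) (show relsP (nat_lit 98280) (nat_lit 17) (nat_lit 0) (nat_lit 17) T sat_159L = true by decide +kernel)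


end Cfsg.Agent.SchurG.Co1
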