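import Cfsg.Agent.SchurG.Co1.SatD

set_option autoImplicit false
set_option maxRecDepth 100000

namespace Cfsg.Agent.SchurG.Co1
open Cfsg.Agent.Comp

theorem sat_160_0 : SatP 98280 0 17 T sat_160L :=
  satP_of_relsP ok (by norm_num) (by norm_num) (by norm_num) (show relsP (nat_lit 98280) (nat_lit 17) (nat_lit 0) (nat_lit 17) T sat_160L = true by decide +kernel)

theorem sat_161_0 : SatP 98280 0 17 T sat_161L :=
  satP_of_relsP ok (by norm_num) (by norm_num) (by norm_num) (show relsP (nat_lit 98280) (nat_lit 17) (nat_lit 0) (nat_lit 17) T sat_161L = true by decide +kernel)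

theorem sat_162_0 : SatP 98280 0 17 T sat_162L :=
  satP_of_relsP ok (by norm_num) (by norm_num) (by norm_num) (show relsP (nat_lit 98280) (nat_lit 17) (nat_lit 0) (nat_lit 17) T sat_162L = true by decide +kernel)

theorem sat_163_0 : SatP 98280 0 17 T sat_163L :=
  satP_of_relsP ok (by norm_num) (by norm_num) (by norm_num) (show relsP (nat_lit 98280) (nat_lit 17) (nat_lit 0) (nat_lit 17) T sat_163L = true by decide +kernel)

theorem sat_164_0 : SatP 98280 0 17 T sat_164L :=
  satP_of_relsP ok (by norm_num) (by norm_num) (by norm_num) (show relsP (nat_lit 98280) (nat_lit 17) (nat_lit 0) (nat_lit 17) T sat_164L = true by decide +kernel)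

theorem sat_165_0 : SatP 98280 0 17 T sat_165L :=
  satP_of_relsP ok (by norm_num) (by norm_num) (by norm_num) (show relsP (nat_lit 98280) (nat_lit 17) (nat_lit 0) (nat_lit 17) T sat_165L = true by decide +kernel)

theorem sat_166_0 : SatP 98280 0 17 T sat_166L :=
  satP_of_relsP ok (by norm_num) (by norm_num) (by norm_num) (show relsP (nat_lit 98280) (nat_lit 17) (nat_lit 0) (nat_lit 17) T sat_166L = true by decide +kernel)

theorem sat_167_0 : SatP 98280 0 9 T sat_167L :=
  satP_of_relsP ok (by norm_num) (by norm_num) (by norm_num) (show relsP (nat_lit 98280) (nat_lit 17) (nat_lit 0) (nat_lit 9) T sat_167L = true by decide +kernel)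

theorem sat_167_9 : SatP 98280 9 17 T sat_167L :=
  satP_of_relsP ok (by norm_num) (by norm_num) (by norm_num) (show relsP (nat_lit 98280) (nat_lit 17) (nat_lit 9) (nat_lit 8) T sat_167L = true by decide +kernel)

theorem sat_168_0 : SatP 98280 0 9 T sat_168L :=
  satP_of_relsP ok (by norm_num) (by norm_num) (by norm_num) (show relsP (nat_lit 98280) (nat_lit 17) (nat_lit 0) (nat_lit 9) T sat_168L = true by decide +kernel)

theorem sat_168_9 : SatP 98280 9 17 T sat_168L :=
  satP_of_relsP ok (by norm_num) (by norm_num) (by norm_num) (show relsP (nat_lit 98280) (nat_lit 17) (nat_lit 9) (nat_lit 8) T sat_168L = true by decide +kernel)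

theorem sat_169_0 : SatP 98280 0 17 T sat_169L :=
  satP_of_relsP ok (by norm_num) (by norm_num) (by norm_num) (show relsP (nat_lit 98280) (nat_lit 17) (nat_lit 0) (nat_lit 17) T sat_169L = true by decide +kernel)

theorem sat_170_0 : SatP 98280 0 9 T sat_170L :=
  satP_of_relsP ok (by norm_num) (by norm_num) (by norm_num) (show relsP (nat_lit 98280) (nat_lit 17) (nat_lit 0) (nat_lit 9) T sat_170L = true by decide +kernel)

theorem sat_170_9 : SatP 98280 9 17 T sat_170L :=
  satP_of_relsP ok (by norm_num) (by norm_num) (by norm_num) (show relsP (nat_lit 98280) (nat_lit 17) (nat_lit 9) (nat_lit 8) T sat_170L = true by decide +kernel)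

theorem sat_171_0 : SatP 98280 0 9 T sat_171L :=
  satP_of_relsP ok (by norm_num) (by norm_num) (by norm_num) (show relsP (nat_lit 98280) (nat_lit 17) (nat_lit 0) (nat_lit 9) T sat_171L = true by decide +kernel)

theorem sat_171_9 : SatP 98280 9 17 T sat_171L :=
  satP_of_relsP ok (by norm_num) (by norm_num) (by norm_num) (show relsP (nat_lit 98280) (nat_lit 17) (nat_lit 9) (nat_lit 8) T sat_171L = true by decide +kernel)

theorem sat_172_0 : SatP 98280 0 17 T sat_172L :=
  satP_of_relsP ok (by norm_num) (by norm_num) (by norm_num) (show relsP (nat_lit 98280) (nat_lit 17) (nat_lit 0) (nat_lit 17) T sat_172L = true by decide +kernel)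

theorem sat_173_0 : SatP 98280 0 17 T sat_173L :=
  satP_of_relsP ok (by norm_num) (by norm_num) (by norm_num) (show relsP (nat_lit 98280) (nat_lit 17) (nat_lit 0) (nat_lit 17) T sat_173L = true by decide +kernel)

theorem sat_174_0 : SatP 98280 0 17 T sat_174L :=
  satP_of_relsP ok (by norm_num) (by norm_num) (by norm_num) (show relsP (nat_lit 98280) (nat_lit 17) (nat_lit 0) (nat_lit 17) T sat_174L = true by decide +kernel)

theorem sat_175_0 : SatP 98280 0 9 T sat_175L :=
  satP_of_relsP ok (by norm_num) (by norm_num) (by norm_num) (show relsP (nat_lit 98280) (nat_lit 17) (nat_lit 0) (nat_lit 9) T sat_175L = true by decide +kernel)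

theorem sat_175_9 : SatP 98280 9 17 T sat_175L :=
  satP_of_relsP ok (by norm_num) (by norm_num) (by norm_num) (show relsP (nat_lit 98280) (nat_lit 17) (nat_lit 9) (nat_lit 8) T sat_175L = true by decide +kernel)

theorem sat_176_0 : SatP 98280 0 9 T sat_176L :=
  satP_of_relsP ok (by norm_num) (by norm_num) (by norm_num) (show relsP (nat_lit 98280) (nat_lit 17) (nat_lit 0) (nat_lit 9) T sat_176L = true by decide +kernel)

theorem sat_176_9 : SatP 98280 9 17 T sat_176L :=
  satP_of_relsP ok (by norm_num) (by norm_num) (by norm_num) (show relsP (nat_lit 98280) (nat_lit 17) (nat_lit 9) (nat_lit 8) T sat_176L = true by decide +kernel)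

theorem sat_177_0 : SatP 98280 0 9 T sat_177L :=
  satP_of_relsP ok (by norm_num) (by norm_num) (by norm_num) (show relsP (nat_lit 98280) (nat_lit 17) (nat_lit 0) (nat_lit 9) T sat_177L = true by decide +kernel)

theorem sat_177_9 : SatP 98280 9 17 T sat_177L :=
  satP_of_relsP ok (by norm_num) (by norm_num) (by norm_num) (show relsP (nat_lit 98280) (nat_lit 17) (nat_lit 9) (nat_lit 8) T sat_177L = true by decide +kernel)

theorem sat_178_0 : SatP 98280 0 9 T sat_178L :=
  satP_of_relsP ok (by norm_num) (by norm_num) (by norm_num) (show relsP (nat_lit 98280) (nat_lit 17) (nat_lit 0) (nat_lit 9) T sat_178L = true by decide +kernel)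

theorem sat_178_9 : SatP 98280 9 17 T sat_178L :=
  satP_of_relsP ok (by norm_num) (by norm_num) (by norm_num) (show relsP (nat_lit 98280) (nat_lit 17) (nat_lit 9) (nat_lit 8) T sat_178L = true by decide +kernel)

theorem sat_179_0 : SatP 98280 0 9 T sat_179L :=
  satP_of_relsP ok (by norm_num) (by norm_num) (by norm_num) (show relsP (nat_lit 98280) (nat_lit 17) (nat_lit 0) (nat_lit 9) T sat_179L = true by decide +kernel)

theorem sat_179_9 : SatP 98280 9 17 T sat_179L :=
  satP_of_relsP ok (by norm_num) (by norm_num) (by norm_num) (show relsP (nat_lit 98280) (nat_lit 17) (nat_lit 9) (nat_lit 8) T sat_179L = true by decide +kernel)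


end Cfsg.Agent.SchurG.Co1
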