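import Cfsg.Agent.SchurG.Co1.Sat0
import Cfsg.Agent.SchurG.Co1.Sat1
import Cfsg.Agent.SchurG.Co1.Sat2
import Cfsg.Agent.SchurG.Co1.Sat3
import Cfsg.Agent.SchurG.Co1.Sat4

set_option autoImplicit false
set_option maxRecDepth 100000

namespace Cfsg.Agent.SchurG.Co1
open Cfsg.Agent.Comp

theorem sat_0 : Sat (sig T) sat_0L := SatP.sat sat_0_0 ok (by norm_num)

theorem sat_1 : Sat (sig T) sat_1L := SatP.sat sat_1_0 ok (by norm_num)

theorem sat_2 : Sat (sig T) sat_2L := SatP.sat sat_2_0 ok (by norm_num)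

theorem sat_3 : Sat (sig T) sat_3L := SatP.sat sat_3_0 ok (by norm_num)

theorem sat_4 : Sat (sig T) sat_4L := SatP.sat sat_4_0 ok (by norm_num)

theorem sat_5 : Sat (sig T) sat_5L := SatP.sat sat_5_0 ok (by norm_num)

theorem sat_6 : Sat (sig T) sat_6L := SatP.sat sat_6_0 ok (by norm_num)

theorem sat_7 : Sat (sig T) sat_7L := SatP.sat sat_7_0 ok (by norm_num)

theorem sat_8 : Sat (sig T) sat_8L := SatP.sat sat_8_0 ok (by norm_num)

theorem sat_9 : Sat (sig T) sat_9L := SatP.sat sat_9_0 ok (by norm_num)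

theorem sat_10 : Sat (sig T) sat_10L := SatP.sat sat_10_0 ok (by norm_num)

theorem sat_11 : Sat (sig T) sat_11L := SatP.sat sat_11_0 ok (by norm_num)

theorem sat_12 : Sat (sig T) sat_12L := SatP.sat sat_12_0 ok (by norm_num)

theorem sat_13 : Sat (sig T) sat_13L := SatP.sat sat_13_0 ok (by norm_num)

theorem sat_14 : Sat (sig T) sat_14L := SatP.sat sat_14_0 ok (by norm_num)

theorem sat_15 : Sat (sig T) sat_15L := SatP.sat sat_15_0 ok (by norm_num)

theorem sat_16 : Sat (sig T) sat_16L := SatP.sat sat_16_0 ok (by norm_num)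

theorem sat_17 : Sat (sig T) sat_17L := SatP.sat sat_17_0 ok (by norm_num)

theorem sat_18 : Sat (sig T) sat_18L := SatP.sat sat_18_0 ok (by norm_num)

theorem sat_19 : Sat (sig T) sat_19L := SatP.sat sat_19_0 ok (by norm_num)

theorem sat_20 : Sat (sig T) sat_20L := SatP.sat sat_20_0 ok (by norm_num)

theorem sat_21 : Sat (sig T) sat_21L := SatP.sat sat_21_0 ok (by norm_num)

theorem sat_22 : Sat (sig T) sat_22L := SatP.sat sat_22_0 ok (by norm_num)

theorem sat_23 : Sat (sig T) sat_23L := SatP.sat sat_23_0 ok (by norm_num)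

theorem sat_24 : Sat (sig T) sat_24L := SatP.sat sat_24_0 ok (by norm_num)

theorem sat_25 : Sat (sig T) sat_25L := SatP.sat sat_25_0 ok (by norm_num)

theorem sat_26 : Sat (sig T) sat_26L := SatP.sat sat_26_0 ok (by norm_num)

theorem sat_27 : Sat (sig T) sat_27L := SatP.sat sat_27_0 ok (by norm_num)

theorem sat_28 : Sat (sig T) sat_28L := SatP.sat sat_28_0 ok (by norm_num)

theorem sat_29 : Sat (sig T) sat_29L := SatP.sat sat_29_0 ok (by norm_num)

theorem sat_30 : Sat (sig T) sat_30L := SatP.sat sat_30_0 ok (by norm_num)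

theorem sat_31 : Sat (sig T) sat_31L := SatP.sat sat_31_0 ok (by norm_num)

theorem sat_32 : Sat (sig T) sat_32L := SatP.sat sat_32_0 ok (by norm_num)

theorem sat_33 : Sat (sig T) sat_33L := SatP.sat sat_33_0 ok (by norm_num)

theorem sat_34 : Sat (sig T) sat_34L := SatP.sat sat_34_0 ok (by norm_num)

theorem sat_35 : Sat (sig T) sat_35L := SatP.sat sat_35_0 ok (by norm_num)

theorem sat_36 : Sat (sig T) sat_36L := SatP.sat sat_36_0 ok (by norm_num)

theorem sat_37 : Sat (sig T) sat_37L := SatP.sat sat_37_0 ok (by norm_num)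

theorem sat_38 : Sat (sig T) sat_38L := SatP.sat sat_38_0 ok (by norm_num)

theorem sat_39 : Sat (sig T) sat_39L := SatP.sat sat_39_0 ok (by norm_num)

theorem sat_40 : Sat (sig T) sat_40L := SatP.sat sat_40_0 ok (by norm_num)

theorem sat_41 : Sat (sig T) sat_41L := SatP.sat sat_41_0 ok (by norm_num)

theorem sat_42 : Sat (sig T) sat_42L := SatP.sat sat_42_0 ok (by norm_num)

theorem sat_43 : Sat (sig T) sat_43L := SatP.sat sat_43_0 ok (by norm_num)

theorem sat_44 : Sat (sig T) sat_44L := SatP.sat sat_44_0 ok (by norm_num)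

theorem sat_45 : Sat (sig T) sat_45L := SatP.sat sat_45_0 ok (by norm_num)

theorem sat_46 : Sat (sig T) sat_46L := SatP.sat sat_46_0 ok (by norm_num)

theorem sat_47 : Sat (sig T) sat_47L := SatP.sat sat_47_0 ok (by norm_num)

theorem sat_48 : Sat (sig T) sat_48L := SatP.sat sat_48_0 ok (by norm_num)

theorem sat_49 : Sat (sig T) sat_49L := SatP.sat sat_49_0 ok (by norm_num)

theorem sat_50 : Sat (sig T) sat_50L := SatP.sat sat_50_0 ok (by norm_num)

theorem sat_51 : Sat (sig T) sat_51L := SatP.sat sat_51_0 ok (by norm_num)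

theorem sat_52 : Sat (sig T) sat_52L := SatP.sat sat_52_0 ok (by norm_num)

theorem sat_53 : Sat (sig T) sat_53L := SatP.sat sat_53_0 ok (by norm_num)

theorem sat_54 : Sat (sig T) sat_54L := SatP.sat sat_54_0 ok (by norm_num)

theorem sat_55 : Sat (sig T) sat_55L := SatP.sat (SatP.join sat_55_0 sat_55_9) ok (by norm_num)

theorem sat_56 : Sat (sig T) sat_56L := SatP.sat sat_56_0 ok (by norm_num)

theorem sat_57 : Sat (sig T) sat_57L := SatP.sat sat_57_0 ok (by norm_num)

theorem sat_58 : Sat (sig T) sat_58L := SatP.sat sat_58_0 ok (by norm_num)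

theorem sat_59 : Sat (sig T) sat_59L := SatP.sat sat_59_0 ok (by norm_num)

theorem sat_60 : Sat (sig T) sat_60L := SatP.sat sat_60_0 ok (by norm_num)

theorem sat_61 : Sat (sig T) sat_61L := SatP.sat sat_61_0 ok (by norm_num)

theorem sat_62 : Sat (sig T) sat_62L := SatP.sat sat_62_0 ok (by norm_num)

theorem sat_63 : Sat (sig T) sat_63L := SatP.sat sat_63_0 ok (by norm_num)

theorem sat_64 : Sat (sig T) sat_64L := SatP.sat sat_64_0 ok (by norm_num)

theorem sat_65 : Sat (sig T) sat_65L := SatP.sat sat_65_0 ok (by norm_num)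

theorem sat_66 : Sat (sig T) sat_66L := SatP.sat sat_66_0 ok (by norm_num)

theorem sat_67 : Sat (sig T) sat_67L := SatP.sat sat_67_0 ok (by norm_num)

theorem sat_68 : Sat (sig T) sat_68L := SatP.sat sat_68_0 ok (by norm_num)

theorem sat_69 : Sat (sig T) sat_69L := SatP.sat sat_69_0 ok (by norm_num)

theorem sat_70 : Sat (sig T) sat_70L := SatP.sat sat_70_0 ok (by norm_num)

theorem sat_71 : Sat (sig T) sat_71L := SatP.sat sat_71_0 ok (by norm_num)

theorem sat_72 : Sat (sig T) sat_72L := SatP.sat sat_72_0 ok (by norm_num)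

theorem sat_73 : Sat (sig T) sat_73L := SatP.sat sat_73_0 ok (by norm_num)

theorem sat_74 : Sat (sig T) sat_74L := SatP.sat sat_74_0 ok (by norm_num)

theorem sat_75 : Sat (sig T) sat_75L := SatP.sat sat_75_0 ok (by norm_num)

theorem sat_76 : Sat (sig T) sat_76L := SatP.sat sat_76_0 ok (by norm_num)

theorem sat_77 : Sat (sig T) sat_77L := SatP.sat sat_77_0 ok (by norm_num)

theorem sat_78 : Sat (sig T) sat_78L := SatP.sat sat_78_0 ok (by norm_num)

theorem sat_79 : Sat (sig T) sat_79L := SatP.sat sat_79_0 ok (by norm_num)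

theorem sat_80 : Sat (sig T) sat_80L := SatP.sat sat_80_0 ok (by norm_num)

theorem sat_81 : Sat (sig T) sat_81L := SatP.sat sat_81_0 ok (by norm_num)

theorem sat_82 : Sat (sig T) sat_82L := SatP.sat sat_82_0 ok (by norm_num)

theorem sat_83 : Sat (sig T) sat_83L := SatP.sat sat_83_0 ok (by norm_num)

theorem sat_84 : Sat (sig T) sat_84L := SatP.sat sat_84_0 ok (by norm_num)

theorem sat_85 : Sat (sig T) sat_85L := SatP.sat sat_85_0 ok (by norm_num)

theorem sat_86 : Sat (sig T) sat_86L := SatP.sat sat_86_0 ok (by norm_num)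

theorem sat_87 : Sat (sig T) sat_87L := SatP.sat sat_87_0 ok (by norm_num)

theorem sat_88 : Sat (sig T) sat_88L := SatP.sat sat_88_0 ok (by norm_num)

theorem sat_89 : Sat (sig T) sat_89L := SatP.sat sat_89_0 ok (by norm_num)

theorem sat_90 : Sat (sig T) sat_90L := SatP.sat sat_90_0 ok (by norm_num)

theorem sat_91 : Sat (sig T) sat_91L := SatP.sat sat_91_0 ok (by norm_num)

theorem sat_92 : Sat (sig T) sat_92L := SatP.sat sat_92_0 ok (by norm_num)

theorem sat_93 : Sat (sig T) sat_93L := SatP.sat sat_93_0 ok (by norm_num)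

theorem sat_94 : Sat (sig T) sat_94L := SatP.sat sat_94_0 ok (by norm_num)

theorem sat_95 : Sat (sig T) sat_95L := SatP.sat sat_95_0 ok (by norm_num)

theorem sat_96 : Sat (sig T) sat_96L := SatP.sat sat_96_0 ok (by norm_num)

theorem sat_97 : Sat (sig T) sat_97L := SatP.sat sat_97_0 ok (by norm_num)

theorem sat_98 : Sat (sig T) sat_98L := SatP.sat sat_98_0 ok (by norm_num)

theorem sat_99 : Sat (sig T) sat_99L := SatP.sat sat_99_0 ok (by norm_num)

theorem sat_100 : Sat (sig T) sat_100L := SatP.sat sat_100_0 ok (by norm_num)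

theorem sat_101 : Sat (sig T) sat_101L := SatP.sat sat_101_0 ok (by norm_num)

theorem sat_102 : Sat (sig T) sat_102L := SatP.sat sat_102_0 ok (by norm_num)

theorem sat_103 : Sat (sig T) sat_103L := SatP.sat (SatP.join sat_103_0 sat_103_9) ok (by norm_num)

theorem sat_104 : Sat (sig T) sat_104L := SatP.sat sat_104_0 ok (by norm_num)

theorem sat_105 : Sat (sig T) sat_105L := SatP.sat sat_105_0 ok (by norm_num)

theorem sat_106 : Sat (sig T) sat_106L := SatP.sat sat_106_0 ok (by norm_num)

theorem sat_107 : Sat (sig T) sat_107L := SatP.sat sat_107_0 ok (by norm_num)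

theorem sat_108 : Sat (sig T) sat_108L := SatP.sat sat_108_0 ok (by norm_num)

theorem sat_109 : Sat (sig T) sat_109L := SatP.sat sat_109_0 ok (by norm_num)

theorem sat_110 : Sat (sig T) sat_110L := SatP.sat sat_110_0 ok (by norm_num)

theorem sat_111 : Sat (sig T) sat_111L := SatP.sat sat_111_0 ok (by norm_num)

theorem sat_112 : Sat (sig T) sat_112L := SatP.sat sat_112_0 ok (by norm_num)

theorem sat_113 : Sat (sig T) sat_113L := SatP.sat sat_113_0 ok (by norm_num)

theorem sat_114 : Sat (sig T) sat_114L := SatP.sat sat_114_0 ok (by norm_num)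

theorem sat_115 : Sat (sig T) sat_115L := SatP.sat sat_115_0 ok (by norm_num)

theorem sat_116 : Sat (sig T) sat_116L := SatP.sat sat_116_0 ok (by norm_num)

theorem sat_117 : Sat (sig T) sat_117L := SatP.sat sat_117_0 ok (by norm_num)

theorem sat_118 : Sat (sig T) sat_118L := SatP.sat sat_118_0 ok (by norm_num)

theorem sat_119 : Sat (sig T) sat_119L := SatP.sat sat_119_0 ok (by norm_num)

theorem sat_120 : Sat (sig T) sat_120L := SatP.sat sat_120_0 ok (by norm_num)

theorem sat_121 : Sat (sig T) sat_121L := SatP.sat sat_121_0 ok (by norm_num)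

theorem sat_122 : Sat (sig T) sat_122L := SatP.sat sat_122_0 ok (by norm_num)

theorem sat_123 : Sat (sig T) sat_123L := SatP.sat sat_123_0 ok (by norm_num)

theorem sat_124 : Sat (sig T) sat_124L := SatP.sat sat_124_0 ok (by norm_num)

theorem sat_125 : Sat (sig T) sat_125L := SatP.sat sat_125_0 ok (by norm_num)

theorem sat_126 : Sat (sig T) sat_126L := SatP.sat sat_126_0 ok (by norm_num)

theorem sat_127 : Sat (sig T) sat_127L := SatP.sat sat_127_0 ok (by norm_num)

theorem sat_128 : Sat (sig T) sat_128L := SatP.sat sat_128_0 ok (by norm_num)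

theorem sat_129 : Sat (sig T) sat_129L := SatP.sat sat_129_0 ok (by norm_num)

theorem sat_130 : Sat (sig T) sat_130L := SatP.sat sat_130_0 ok (by norm_num)

theorem sat_131 : Sat (sig T) sat_131L := SatP.sat sat_131_0 ok (by norm_num)

theorem sat_132 : Sat (sig T) sat_132L := SatP.sat sat_132_0 ok (by norm_num)

theorem sat_133 : Sat (sig T) sat_133L := SatP.sat sat_133_0 ok (by norm_num)

theorem sat_134 : Sat (sig T) sat_134L := SatP.sat sat_134_0 ok (by norm_num)

theorem sat_135 : Sat (sig T) sat_135L := SatP.sat sat_135_0 ok (by norm_num)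

theorem sat_136 : Sat (sig T) sat_136L := SatP.sat sat_136_0 ok (by norm_num)

theorem sat_137 : Sat (sig T) sat_137L := SatP.sat sat_137_0 ok (by norm_num)

theorem sat_138 : Sat (sig T) sat_138L := SatP.sat sat_138_0 ok (by norm_num)

theorem sat_139 : Sat (sig T) sat_139L := SatP.sat sat_139_0 ok (by norm_num)

theorem sat_140 : Sat (sig T) sat_140L := SatP.sat sat_140_0 ok (by norm_num)

theorem sat_141 : Sat (sig T) sat_141L := SatP.sat sat_141_0 ok (by norm_num)

theorem sat_142 : Sat (sig T) sat_142L := SatP.sat sat_142_0 ok (by norm_num)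

theorem sat_143 : Sat (sig T) sat_143L := SatP.sat sat_143_0 ok (by norm_num)

theorem sat_144 : Sat (sig T) sat_144L := SatP.sat sat_144_0 ok (by norm_num)

theorem sat_145 : Sat (sig T) sat_145L := SatP.sat sat_145_0 ok (by norm_num)

theorem sat_146 : Sat (sig T) sat_146L := SatP.sat sat_146_0 ok (by norm_num)

theorem sat_147 : Sat (sig T) sat_147L := SatP.sat sat_147_0 ok (by norm_num)

theorem sat_148 : Sat (sig T) sat_148L := SatP.sat sat_148_0 ok (by norm_num)

theorem sat_149 : Sat (sig T) sat_149L := SatP.sat sat_149_0 ok (by norm_num)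

theorem sat_150 : Sat (sig T) sat_150L := SatP.sat sat_150_0 ok (by norm_num)

theorem sat_151 : Sat (sig T) sat_151L := SatP.sat sat_151_0 ok (by norm_num)

theorem sat_152 : Sat (sig T) sat_152L := SatP.sat sat_152_0 ok (by norm_num)

theorem sat_153 : Sat (sig T) sat_153L := SatP.sat sat_153_0 ok (by norm_num)

theorem sat_154 : Sat (sig T) sat_154L := SatP.sat sat_154_0 ok (by norm_num)

theorem sat_155 : Sat (sig T) sat_155L := SatP.sat sat_155_0 ok (by norm_num)

theorem sat_156 : Sat (sig T) sat_156L := SatP.sat sat_156_0 ok (by norm_num)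

theorem sat_157 : Sat (sig T) sat_157L := SatP.sat sat_157_0 ok (by norm_num)

theorem sat_158 : Sat (sig T) sat_158L := SatP.sat sat_158_0 ok (by norm_num)

theorem sat_159 : Sat (sig T) sat_159L := SatP.sat sat_159_0 ok (by norm_num)

theorem sat_160 : Sat (sig T) sat_160L := SatP.sat sat_160_0 ok (by norm_num)

theorem sat_161 : Sat (sig T) sat_161L := SatP.sat sat_161_0 ok (by norm_num)

theorem sat_162 : Sat (sig T) sat_162L := SatP.sat sat_162_0 ok (by norm_num)

theorem sat_163 : Sat (sig T) sat_163L := SatP.sat sat_163_0 ok (by norm_num)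

theorem sat_164 : Sat (sig T) sat_164L := SatP.sat sat_164_0 ok (by norm_num)

theorem sat_165 : Sat (sig T) sat_165L := SatP.sat sat_165_0 ok (by norm_num)

theorem sat_166 : Sat (sig T) sat_166L := SatP.sat sat_166_0 ok (by norm_num)

theorem sat_167 : Sat (sig T) sat_167L := SatP.sat (SatP.join sat_167_0 sat_167_9) ok (by norm_num)

theorem sat_168 : Sat (sig T) sat_168L := SatP.sat (SatP.join sat_168_0 sat_168_9) ok (by norm_num)

theorem sat_169 : Sat (sig T) sat_169L := SatP.sat sat_169_0 ok (by norm_num)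

theorem sat_170 : Sat (sig T) sat_170L := SatP.sat (SatP.join sat_170_0 sat_170_9) ok (by norm_num)

theorem sat_171 : Sat (sig T) sat_171L := SatP.sat (SatP.join sat_171_0 sat_171_9) ok (by norm_num)

theorem sat_172 : Sat (sig T) sat_172L := SatP.sat sat_172_0 ok (by norm_num)

theorem sat_173 : Sat (sig T) sat_173L := SatP.sat sat_173_0 ok (by norm_num)

theorem sat_174 : Sat (sig T) sat_174L := SatP.sat sat_174_0 ok (by norm_num)

theorem sat_175 : Sat (sig T) sat_175L := SatP.sat (SatP.join sat_175_0 sat_175_9) ok (by norm_num)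

theorem sat_176 : Sat (sig T) sat_176L := SatP.sat (SatP.join sat_176_0 sat_176_9) ok (by norm_num)

theorem sat_177 : Sat (sig T) sat_177L := SatP.sat (SatP.join sat_177_0 sat_177_9) ok (by norm_num)

theorem sat_178 : Sat (sig T) sat_178L := SatP.sat (SatP.join sat_178_0 sat_178_9) ok (by norm_num)

theorem sat_179 : Sat (sig T) sat_179L := SatP.sat (SatP.join sat_179_0 sat_179_9) ok (by norm_num)

theorem sat : Sat (sig T) R :=
  (show (sat_0L ++ (sat_1L ++ (sat_2L ++ (sat_3L ++ (sat_4L ++ (sat_5L ++ (sat_6L ++ (sat_7L ++ (sat_8L ++ (sat_9L ++ (sat_10L ++ (sat_11L ++ (sat_12L ++ (sat_13L ++ (sat_14L ++ (sat_15L ++ (sat_16L ++ (sat_17L ++ (sat_18L ++ (sat_19L ++ (sat_20L ++ (sat_21L ++ (sat_22L ++ (sat_23L ++ (sat_24L ++ (sat_25L ++ (sat_26L ++ (sat_27L ++ (sat_28L ++ (sat_29L ++ (sat_30L ++ (sat_31L ++ (sat_32L ++ (sat_33L ++ (sat_34L ++ (sat_35L ++ (sat_36L ++ (sat_37L ++ (sat_38L ++ (sat_39L ++ (sat_40L ++ (sat_41L ++ (sat_42L ++ (sat_43L ++ (sat_44L ++ (sat_45L ++ (sat_46L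 ++ (sat_47L ++ (sat_48L ++ (sat_49L ++ (sat_50L ++ (sat_51L ++ (sat_52L ++ (sat_53L ++ (sat_54L ++ (sat_55L ++ (sat_56L ++ (sat_57L ++ (sat_58L ++ (sat_59L ++ (sat_60L ++ (sat_61L ++ (sat_62L ++ (sat_63L ++ (sat_64L ++ (sat_65L ++ (sat_66L ++ (sat_67L ++ (sat_68L ++ (sat_69L ++ (sat_70L ++ (sat_71L ++ (sat_72L ++ (sat_73L ++ (sat_74L ++ (sat_75L ++ (sat_76L ++ (sat_77L ++ (sat_78L ++ (sat_79L ++ (sat_80L ++ (sat_81L ++ (sat_82L ++ (sat_83L ++ (sat_84L ++ (sat_85L ++ (sat_86L ++ (sat_87L ++ (sat_88L ++ (sat_89L ++ (sat_90L ++ (sat_91L ++ (sat_92L ++ (sat_93L ++ (sat_94L ++ (sat_95L ++ (sat_96L ++ (sat_97L ++ (sat_98L ++ (sat_99L ++ (sat_100L ++ (sat_101L ++ (sat_102L ++ (sat_103L ++ (sat_104L ++ (sat_105L ++ (sat_106L ++ (sat_107L ++ (sat_108L ++ (sat_109L ++ (sat_110L ++ (sat_111L ++ (sat_112L ++ (sat_113L ++ (sat_114L ++ (sat_115L ++ (sat_116L ++ (sat_117L ++ (sat_118L ++ (sat_119L ++ (sat_120L ++ (sat_121L ++ (sat_122L ++ (sat_123L ++ (sat_124L ++ (sat_125L ++ (sat_126L ++ (sat_127L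 ++ (sat_128L ++ (sat_129L ++ (sat_130L ++ (sat_131L ++ (sat_132L ++ (sat_133L ++ (sat_134L ++ (sat_135L ++ (sat_136L ++ (sat_137L ++ (sat_138L ++ (sat_139L ++ (sat_140L ++ (sat_141L ++ (sat_142L ++ (sat_143L ++ (sat_144L ++ (sat_145L ++ (sat_146L ++ (sat_147L ++ (sat_148L ++ (sat_149L ++ (sat_150L ++ (sat_151L ++ (sat_152L ++ (sat_153L ++ (sat_154L ++ (sat_155L ++ (sat_156L ++ (sat_157L ++ (sat_158L ++ (sat_159L ++ (sat_160L ++ (sat_161L ++ (sat_162L ++ (sat_163L ++ (sat_164L ++ (sat_165L ++ (sat_166L ++ (sat_167L ++ (sat_168L ++ (sat_169L ++ (sat_170L ++ (sat_171L ++ (sat_172L ++ (sat_173L ++ (sat_174L ++ (sat_175L ++ (sat_176L ++ (sat_177L ++ (sat_178L ++ sat_179L))))))))))))))))))))))))))))))))))))))))))))))))))))))))))))))))))))))))))))))))))))))))))))))))))))))))))))))))))))))))))))))))))))))))))))))))))))))))))))))))))))))))))))))))))) = R by decide +kernel) ▸ (Sat.append sat_0 (Sat.append sat_1 (Sat.append sat_2 (Sat.append sat_3 (Sat.append sat_4 (Sat.append sat_5 (Sat.append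 sat_6 (Sat.append sat_7 (Sat.append sat_8 (Sat.append sat_9 (Sat.append sat_10 (Sat.append sat_11 (Sat.append sat_12 (Sat.append sat_13 (Sat.append sat_14 (Sat.append sat_15 (Sat.append sat_16 (Sat.append sat_17 (Sat.append sat_18 (Sat.append sat_19 (Sat.append sat_20 (Sat.append sat_21 (Sat.append sat_22 (Sat.append sat_23 (Sat.append sat_24 (Sat.append sat_25 (Sat.append sat_26 (Sat.append sat_27 (Sat.append sat_28 (Sat.append sat_29 (Sat.append sat_30 (Sat.append sat_31 (Sat.append sat_32 (Sat.append sat_33 (Sat.append sat_34 (Sat.append sat_35 (Sat.append sat_36 (Sat.append sat_37 (Sat.append sat_38 (Sat.append sat_39 (Sat.append sat_40 (Sat.append sat_41 (Sat.append sat_42 (Sat.append sat_43 (Sat.append sat_44 (Sat.append sat_45 (Sat.append sat_46 (Sat.append sat_47 (Sat.append sat_48 (Sat.append sat_49 (Sat.append sat_50 (Sat.append sat_51 (Sat.append sat_52 (Sat.append sat_53 (Sat.append sat_54 (Sat.append sat_55 (Sat.append sat_56 (Sat.append sat_57 (Sat.append sat_58 (Sat.append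 sat_59 (Sat.append sat_60 (Sat.append sat_61 (Sat.append sat_62 (Sat.append sat_63 (Sat.append sat_64 (Sat.append sat_65 (Sat.append sat_66 (Sat.append sat_67 (Sat.append sat_68 (Sat.append sat_69 (Sat.append sat_70 (Sat.append sat_71 (Sat.append sat_72 (Sat.append sat_73 (Sat.append sat_74 (Sat.append sat_75 (Sat.append sat_76 (Sat.append sat_77 (Sat.append sat_78 (Sat.append sat_79 (Sat.append sat_80 (Sat.append sat_81 (Sat.append sat_82 (Sat.append sat_83 (Sat.append sat_84 (Sat.append sat_85 (Sat.append sat_86 (Sat.append sat_87 (Sat.append sat_88 (Sat.append sat_89 (Sat.append sat_90 (Sat.append sat_91 (Sat.append sat_92 (Sat.append sat_93 (Sat.append sat_94 (Sat.append sat_95 (Sat.append sat_96 (Sat.append sat_97 (Sat.append sat_98 (Sat.append sat_99 (Sat.append sat_100 (Sat.append sat_101 (Sat.append sat_102 (Sat.append sat_103 (Sat.append sat_104 (Sat.append sat_105 (Sat.append sat_106 (Sat.append sat_107 (Sat.append sat_108 (Sat.append sat_109 (Sat.append sat_110 (Sat.append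 sat_111 (Sat.append sat_112 (Sat.append sat_113 (Sat.append sat_114 (Sat.append sat_115 (Sat.append sat_116 (Sat.append sat_117 (Sat.append sat_118 (Sat.append sat_119 (Sat.append sat_120 (Sat.append sat_121 (Sat.append sat_122 (Sat.append sat_123 (Sat.append sat_124 (Sat.append sat_125 (Sat.append sat_126 (Sat.append sat_127 (Sat.append sat_128 (Sat.append sat_129 (Sat.append sat_130 (Sat.append sat_131 (Sat.append sat_132 (Sat.append sat_133 (Sat.append sat_134 (Sat.append sat_135 (Sat.append sat_136 (Sat.append sat_137 (Sat.append sat_138 (Sat.append sat_139 (Sat.append sat_140 (Sat.append sat_141 (Sat.append sat_142 (Sat.append sat_143 (Sat.append sat_144 (Sat.append sat_145 (Sat.append sat_146 (Sat.append sat_147 (Sat.append sat_148 (Sat.append sat_149 (Sat.append sat_150 (Sat.append sat_151 (Sat.append sat_152 (Sat.append sat_153 (Sat.append sat_154 (Sat.append sat_155 (Sat.append sat_156 (Sat.append sat_157 (Sat.append sat_158 (Sat.append sat_159 (Sat.append sat_160 (Sat.append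 sat_161 (Sat.append sat_162 (Sat.append sat_163 (Sat.append sat_164 (Sat.append sat_165 (Sat.append sat_166 (Sat.append sat_167 (Sat.append sat_168 (Sat.append sat_169 (Sat.append sat_170 (Sat.append sat_171 (Sat.append sat_172 (Sat.append sat_173 (Sat.append sat_174 (Sat.append sat_175 (Sat.append sat_176 (Sat.append sat_177 (Sat.append sat_178 sat_179)))))))))))))))))))))))))))))))))))))))))))))))))))))))))))))))))))))))))))))))))))))))))))))))))))))))))))))))))))))))))))))))))))))))))))))))))))))))))))))))))))))))))))))))))))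


end Cfsg.Agent.SchurG.Co1
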