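import Cfsg.Agent.SchurG.Co1.SatD

set_option autoImplicit false
set_option maxRecDepth 100000

namespace Cfsg.Agent.SchurG.Co1
open Cfsg.Agent.Comp

theorem sat_0_0 : SatP 98280 0 17 T sat_0L :=
  satP_of_relsP ok (by norm_num) (by norm_num) (by norm_num) (show relsP (nat_lit 98280) (nat_lit 17) (nat_lit 0) (nat_lit 17) T sat_0L = true by decide +kernel)

theorem sat_1_0 : SatP 98280 0 17 T sat_1L :=
  satP_of_relsP ok (by norm_num) (by norm_num) (by norm_num) (show relsP (nat_lit 98280) (nat_lit 17) (nat_lit 0) (nat_lit 17) T sat_1L = true by decide +kernel)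

theorem sat_2_0 : SatP 98280 0 17 T sat_2L :=
  satP_of_relsP ok (by norm_num) (by norm_num) (by norm_num) (show relsP (nat_lit 98280) (nat_lit 17) (nat_lit 0) (nat_lit 17) T sat_2L = true by decide +kernel)

theorem sat_3_0 : SatP 98280 0 17 T sat_3L :=
  satP_of_relsP ok (by norm_num) (by norm_num) (by norm_num) (show relsP (nat_lit 98280) (nat_lit 17) (nat_lit 0) (nat_lit 17) T sat_3L = true by decide +kernel)

theorem sat_4_0 : SatP 98280 0 17 T sat_4L :=
  satP_of_relsP ok (by norm_num) (by norm_num) (by norm_num) (show relsP (nat_lit 98280) (nat_lit 17) (nat_lit 0) (nat_lit 17) T sat_4L = true by decide +kernel)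

theorem sat_5_0 : SatP 98280 0 17 T sat_5L :=
  satP_of_relsP ok (by norm_num) (by norm_num) (by norm_num) (show relsP (nat_lit 98280) (nat_lit 17) (nat_lit 0) (nat_lit 17) T sat_5L = true by decide +kernel)

theorem sat_6_0 : SatP 98280 0 17 T sat_6L :=
  satP_of_relsP ok (by norm_num) (by norm_num) (by norm_num) (show relsP (nat_lit 98280) (nat_lit 17) (nat_lit 0) (nat_lit 17) T sat_6L = true by decide +kernel)

theorem sat_7_0 : SatP 98280 0 17 T sat_7L :=
  satP_of_relsP ok (by norm_num) (by norm_num) (by norm_num) (show relsP (nat_lit 98280) (nat_lit 17) (nat_lit 0) (nat_lit 17) T sat_7L = true by decide +kernel)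

theorem sat_8_0 : SatP 98280 0 17 T sat_8L :=
  satP_of_relsP ok (by norm_num) (by norm_num) (by norm_num) (show relsP (nat_lit 98280) (nat_lit 17) (nat_lit 0) (nat_lit 17) T sat_8L = true by decide +kernel)

theorem sat_9_0 : SatP 98280 0 17 T sat_9L :=
  satP_of_relsP ok (by norm_num) (by norm_num) (by norm_num) (show relsP (nat_lit 98280) (nat_lit 17) (nat_lit 0) (nat_lit 17) T sat_9L = true by decide +kernel)

theorem sat_10_0 : SatP 98280 0 17 T sat_10L :=
  satP_of_relsP ok (by norm_num) (by norm_num) (by norm_num) (show relsP (nat_lit 98280) (nat_lit 17) (nat_lit 0) (nat_lit 17) T sat_10L = true by decide +kernel)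

theorem sat_11_0 : SatP 98280 0 17 T sat_11L :=
  satP_of_relsP ok (by norm_num) (by norm_num) (by norm_num) (show relsP (nat_lit 98280) (nat_lit 17) (nat_lit 0) (nat_lit 17) T sat_11L = true by decide +kernel)

theorem sat_12_0 : SatP 98280 0 17 T sat_12L :=
  satP_of_relsP ok (by norm_num) (by norm_num) (by norm_num) (show relsP (nat_lit 98280) (nat_lit 17) (nat_lit 0) (nat_lit 17) T sat_12L = true by decide +kernel)

theorem sat_13_0 : SatP 98280 0 17 T sat_13L :=
  satP_of_relsP ok (by norm_num) (by norm_num) (by norm_num) (show relsP (nat_lit 98280) (nat_lit 17) (nat_lit 0) (nat_lit 17) T sat_13L = true by decide +kernel)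

theorem sat_14_0 : SatP 98280 0 17 T sat_14L :=
  satP_of_relsP ok (by norm_num) (by norm_num) (by norm_num) (show relsP (nat_lit 98280) (nat_lit 17) (nat_lit 0) (nat_lit 17) T sat_14L = true by decide +kernel)

theorem sat_15_0 : SatP 98280 0 17 T sat_15L :=
  satP_of_relsP ok (by norm_num) (by norm_num) (by norm_num) (show relsP (nat_lit 98280) (nat_lit 17) (nat_lit 0) (nat_lit 17) T sat_15L = true by decide +kernel)

theorem sat_16_0 : SatP 98280 0 17 T sat_16L :=
  satP_of_relsP ok (by norm_num) (by norm_num) (by norm_num) (show relsP (nat_lit 98280) (nat_lit 17) (nat_lit 0) (nat_lit 17) T sat_16L = true by decide +kernel)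

theorem sat_17_0 : SatP 98280 0 17 T sat_17L :=
  satP_of_relsP ok (by norm_num) (by norm_num) (by norm_num) (show relsP (nat_lit 98280) (nat_lit 17) (nat_lit 0) (nat_lit 17) T sat_17L = true by decide +kernel)

theorem sat_18_0 : SatP 98280 0 17 T sat_18L :=
  satP_of_relsP ok (by norm_num) (by norm_num) (by norm_num) (show relsP (nat_lit 98280) (nat_lit 17) (nat_lit 0) (nat_lit 17) T sat_18L = true by decide +kernel)

theorem sat_19_0 : SatP 98280 0 17 T sat_19L :=
  satP_of_relsP ok (by norm_num) (by norm_num) (by norm_num) (show relsP (nat_lit 98280) (nat_lit 17) (nat_lit 0) (nat_lit 17) T sat_19L = true by decide +kernel)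

theorem sat_20_0 : SatP 98280 0 17 T sat_20L :=
  satP_of_relsP ok (by norm_num) (by norm_num) (by norm_num) (show relsP (nat_lit 98280) (nat_lit 17) (nat_lit 0) (nat_lit 17) T sat_20L = true by decide +kernel)

theorem sat_21_0 : SatP 98280 0 17 T sat_21L :=
  satP_of_relsP ok (by norm_num) (by norm_num) (by norm_num) (show relsP (nat_lit 98280) (nat_lit 17) (nat_lit 0) (nat_lit 17) T sat_21L = true by decide +kernel)

theorem sat_22_0 : SatP 98280 0 17 T sat_22L :=
  satP_of_relsP ok (by norm_num) (by norm_num) (by norm_num) (show relsP (nat_lit 98280) (nat_lit 17) (nat_lit 0) (nat_lit 17) T sat_22L = true by decide +kernel)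

theorem sat_23_0 : SatP 98280 0 17 T sat_23L :=
  satP_of_relsP ok (by norm_num) (by norm_num) (by norm_num) (show relsP (nat_lit 98280) (nat_lit 17) (nat_lit 0) (nat_lit 17) T sat_23L = true by decide +kernel)

theorem sat_24_0 : SatP 98280 0 17 T sat_24L :=
  satP_of_relsP ok (by norm_num) (by norm_num) (by norm_num) (show relsP (nat_lit 98280) (nat_lit 17) (nat_lit 0) (nat_lit 17) T sat_24L = true by decide +kernel)

theorem sat_25_0 : SatP 98280 0 17 T sat_25L :=
  satP_of_relsP ok (by norm_num) (by norm_num) (by norm_num) (show relsP (nat_lit 98280) (nat_lit 17) (nat_lit 0) (nat_lit 17) T sat_25L = true by decide +kernel)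

theorem sat_26_0 : SatP 98280 0 17 T sat_26L :=
  satP_of_relsP ok (by norm_num) (by norm_num) (by norm_num) (show relsP (nat_lit 98280) (nat_lit 17) (nat_lit 0) (nat_lit 17) T sat_26L = true by decide +kernel)

theorem sat_27_0 : SatP 98280 0 17 T sat_27L :=
  satP_of_relsP ok (by norm_num) (by norm_num) (by norm_num) (show relsP (nat_lit 98280) (nat_lit 17) (nat_lit 0) (nat_lit 17) T sat_27L = true by decide +kernel)

theorem sat_28_0 : SatP 98280 0 17 T sat_28L :=
  satP_of_relsP ok (by norm_num) (by norm_num) (by norm_num) (show relsP (nat_lit 98280) (nat_lit 17) (nat_lit 0) (nat_lit 17) T sat_28L = true by decide +kernel)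

theorem sat_29_0 : SatP 98280 0 17 T sat_29L :=
  satP_of_relsP ok (by norm_num) (by norm_num) (by norm_num) (show relsP (nat_lit 98280) (nat_lit 17) (nat_lit 0) (nat_lit 17) T sat_29L = true by decide +kernel)

theorem sat_30_0 : SatP 98280 0 17 T sat_30L :=
  satP_of_relsP ok (by norm_num) (by norm_num) (by norm_num) (show relsP (nat_lit 98280) (nat_lit 17) (nat_lit 0) (nat_lit 17) T sat_30L = true by decide +kernel)

theorem sat_31_0 : SatP 98280 0 17 T sat_31L :=
  satP_of_relsP ok (by norm_num) (by norm_num) (by norm_num) (show relsP (nat_lit 98280) (nat_lit 17) (nat_lit 0) (nat_lit 17) T sat_31L = true by decide +kernel)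

theorem sat_32_0 : SatP 98280 0 17 T sat_32L :=
  satP_of_relsP ok (by norm_num) (by norm_num) (by norm_num) (show relsP (nat_lit 98280) (nat_lit 17) (nat_lit 0) (nat_lit 17) T sat_32L = true by decide +kernel)

theorem sat_33_0 : SatP 98280 0 17 T sat_33L :=
  satP_of_relsP ok (by norm_num) (by norm_num) (by norm_num) (show relsP (nat_lit 98280) (nat_lit 17) (nat_lit 0) (nat_lit 17) T sat_33L = true by decide +kernel)

theorem sat_34_0 : SatP 98280 0 17 T sat_34L :=
  satP_of_relsP ok (by norm_num) (by norm_num) (by norm_num) (show relsP (nat_lit 98280) (nat_lit 17) (nat_lit 0) (nat_lit 17) T sat_34L = true by decide +kernel)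

theorem sat_35_0 : SatP 98280 0 17 T sat_35L :=
  satP_of_relsP ok (by norm_num) (by norm_num) (by norm_num) (show relsP (nat_lit 98280) (nat_lit 17) (nat_lit 0) (nat_lit 17) T sat_35L = true by decide +kernel)

theorem sat_36_0 : SatP 98280 0 17 T sat_36L :=
  satP_of_relsP ok (by norm_num) (by norm_num) (by norm_num) (show relsP (nat_lit 98280) (nat_lit 17) (nat_lit 0) (nat_lit 17) T sat_36L = true by decide +kernel)

theorem sat_37_0 : SatP 98280 0 17 T sat_37L :=
  satP_of_relsP ok (by norm_num) (by norm_num) (by norm_num) (show relsP (nat_lit 98280) (nat_lit 17) (nat_lit 0) (nat_lit 17) T sat_37L = true by decide +kernel)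

theorem sat_38_0 : SatP 98280 0 17 T sat_38L :=
  satP_of_relsP ok (by norm_num) (by norm_num) (by norm_num) (show relsP (nat_lit 98280) (nat_lit 17) (nat_lit 0) (nat_lit 17) T sat_38L = true by decide +kernel)

theorem sat_39_0 : SatP 98280 0 17 T sat_39L :=
  satP_of_relsP ok (by norm_num) (by norm_num) (by norm_num) (show relsP (nat_lit 98280) (nat_lit 17) (nat_lit 0) (nat_lit 17) T sat_39L = true by decide +kernel)

theorem sat_40_0 : SatP 98280 0 17 T sat_40L :=
  satP_of_relsP ok (by norm_num) (by norm_num) (by norm_num) (show relsP (nat_lit 98280) (nat_lit 17) (nat_lit 0) (nat_lit 17) T sat_40L = true by decide +kernel)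

theorem sat_41_0 : SatP 98280 0 17 T sat_41L :=
  satP_of_relsP ok (by norm_num) (by norm_num) (by norm_num) (show relsP (nat_lit 98280) (nat_lit 17) (nat_lit 0) (nat_lit 17) T sat_41L = true by decide +kernel)

theorem sat_42_0 : SatP 98280 0 17 T sat_42L :=
  satP_of_relsP ok (by norm_num) (by norm_num) (by norm_num) (show relsP (nat_lit 98280) (nat_lit 17) (nat_lit 0) (nat_lit 17) T sat_42L = true by decide +kernel)

theorem sat_43_0 : SatP 98280 0 17 T sat_43L :=
  satP_of_relsP ok (by norm_num) (by norm_num) (by norm_num) (show relsP (nat_lit 98280) (nat_lit 17) (nat_lit 0) (nat_lit 17) T sat_43L = true by decide +kernel)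

theorem sat_44_0 : SatP 98280 0 17 T sat_44L :=
  satP_of_relsP ok (by norm_num) (by norm_num) (by norm_num) (show relsP (nat_lit 98280) (nat_lit 17) (nat_lit 0) (nat_lit 17) T sat_44L = true by decide +kernel)


end Cfsg.Agent.SchurG.Co1
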