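import Cfsg.Agent.SchurG.Co1.Nets

set_option autoImplicit false
set_option maxRecDepth 100000

namespace Cfsg.Agent.SchurG.Co1
open Cfsg.Agent.Comp

def sat_0L : List (List Nat) :=
  [[0, 0],
   [1, 1],
   [2, 2],
   [3, 3],
   [4, 4],
   [5, 5],
   [6, 6]]

def sat_1L : List (List Nat) :=
  [[7, 7],
   [8, 9],
   [9, 8],
   [10, 10],
   [11, 11],
   [12, 12],
   [13, 13]]

def sat_2L : List (List Nat) :=
  [[14, 14],
   [15, 15],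
   [0, 1, 0, 1],
   [0, 2, 0, 2]]

def sat_3L : List (List Nat) :=
  [[1, 2, 1, 2],
   [0, 3, 0, 3],
   [1, 3, 1, 3]]

def sat_4L : List (List Nat) :=
  [[2, 3, 2, 3],
   [0, 4, 0, 4],
   [1, 4, 1, 4]]

def sat_5L : List (List Nat) :=
  [[3, 4, 3, 4],
   [1, 5, 1, 5],
   [2, 5, 2, 5]]

def sat_6L : List (List Nat) :=
  [[3, 5, 3, 5],
   [4, 5, 4, 5],
   [0, 6, 0, 6]]

def sat_7L : List (List Nat) :=
  [[1, 6, 1, 6],
   [2, 6, 2, 6],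
   [4, 6, 4, 6]]

def sat_8L : List (List Nat) :=
  [[5, 6, 5, 6],
   [0, 7, 0, 7],
   [2, 7, 2, 7]]

def sat_9L : List (List Nat) :=
  [[3, 7, 3, 7],
   [4, 7, 4, 7],
   [5, 7, 5, 7]]

def sat_10L : List (List Nat) :=
  [[6, 7, 6, 7],
   [0, 2, 4, 2, 5, 0, 5, 4]]

def sat_11L : List (List Nat) :=
  [[2, 3, 4, 2, 6, 3, 6, 4]]

def sat_12L : List (List Nat) :=
  [[1, 2, 4, 2, 7, 1, 7, 4],
   [8, 8, 8]]

def sat_13L : List (List Nat) :=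
  [[5, 9, 6, 8],
   [4, 9, 5, 7, 8],
   [5, 6, 8, 6, 9]]

def sat_14L : List (List Nat) :=
  [[1, 6, 9, 2, 8],
   [1, 2, 6, 8, 2, 9]]

def sat_15L : List (List Nat) :=
  [[0, 1, 4, 8, 3, 4, 9],
   [0, 1, 3, 9, 3, 4, 8]]

def sat_16L : List (List Nat) :=
  [[0, 8, 0, 8, 0, 8],
   [3, 10, 3, 10]]

def sat_17L : List (List Nat) :=
  [[3, 4, 10, 4, 10],
   [1, 4, 10, 5, 10]]

def sat_18L : List (List Nat) :=
  [[8, 10, 8, 10, 8, 10],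
   [0, 10, 1, 3, 7, 1, 10]]

def sat_19L : List (List Nat) :=
  [[0, 2, 10, 0, 2, 10],
   [1, 8, 7, 9, 2, 10, 6, 10]]

def sat_20L : List (List Nat) :=
  [[5, 11, 5, 11, 5, 11],
   [0, 10, 2, 11, 5, 4, 1, 11]]

def sat_21L : List (List Nat) :=
  [[0, 4, 5, 10, 7, 1, 10]]

def sat_22L : List (List Nat) :=
  [[0, 11, 0, 11, 0, 11, 0, 11]]

def sat_23L : List (List Nat) :=
  [[0, 11, 2, 11, 0, 11, 2, 11]]

def sat_24L : List (List Nat) :=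
  [[2, 11, 2, 11, 2, 11, 2, 11]]

def sat_25L : List (List Nat) :=
  [[3, 11, 10, 11, 3, 11, 10, 11]]

def sat_26L : List (List Nat) :=
  [[10, 11, 10, 11, 10, 11, 10, 11]]

def sat_27L : List (List Nat) :=
  [[1, 5, 9, 10, 8, 4, 11, 3, 11]]

def sat_28L : List (List Nat) :=
  [[0, 5, 11, 8, 5, 11, 8, 7, 10]]

def sat_29L : List (List Nat) :=
  [[0, 11, 2, 3, 11, 0, 11, 7, 11]]

def sat_30L : List (List Nat) :=
  [[2, 5, 11, 2, 11, 5, 11, 2, 11]]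

def sat_31L : List (List Nat) :=
  [[0, 2, 6, 11, 0, 11, 1, 11, 0, 11],
   [2, 12, 2, 12]]

def sat_32L : List (List Nat) :=
  [[0, 5, 0, 12, 3, 12],
   [1, 3, 4, 12, 4, 12]]

def sat_33L : List (List Nat) :=
  [[3, 6, 12, 5, 12, 6],
   [0, 12, 1, 6, 3, 7, 12]]

def sat_34L : List (List Nat) :=
  [[1, 2, 7, 12, 7, 1, 12]]

def sat_35L : List (List Nat) :=
  [[0, 11, 2, 12, 11, 0, 11, 12, 11]]

def sat_36L : List (List Nat) :=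
  [[3, 5, 12, 3, 5, 12]]

def sat_37L : List (List Nat) :=
  [[2, 3, 7, 11, 12, 7, 3, 12, 11]]

def sat_38L : List (List Nat) :=
  [[0, 5, 10, 3, 7, 10, 5]]

def sat_39L : List (List Nat) :=
  [[0, 1, 2, 12, 11, 8, 11, 9, 11, 12]]

def sat_40L : List (List Nat) :=
  [[1, 8, 3, 11, 4, 2, 12, 9, 10, 12, 11]]

def sat_41L : List (List Nat) :=
  [[1, 2, 11, 9, 12, 11, 1, 12, 11, 9, 12, 11]]

def sat_42L : List (List Nat) :=
  [[4, 13, 4, 13],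
   [5, 13, 5, 13],
   [6, 13, 6, 13]]

def sat_43L : List (List Nat) :=
  [[7, 13, 7, 13],
   [11, 13, 11, 13],
   [0, 7, 13, 0, 13]]

def sat_44L : List (List Nat) :=
  [[2, 7, 13, 2, 13],
   [3, 7, 13, 3, 13]]

def sat_45L : List (List Nat) :=
  [[7, 8, 7, 13, 9, 13],
   [0, 7, 10, 0, 7, 10]]

def sat_46L : List (List Nat) :=
  [[1, 2, 9, 1, 5, 8],
   [1, 4, 3, 12, 4, 12]]

def sat_47L : List (List Nat) :=
  [[1, 5, 12, 1, 5, 12],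
   [1, 8, 1, 8, 1, 8]]

def sat_48L : List (List Nat) :=
  [[1, 8, 13, 9, 1, 13],
   [1, 10, 3, 4, 5, 10]]

def sat_49L : List (List Nat) :=
  [[2, 7, 10, 2, 7, 10],
   [4, 5, 6, 9, 7, 8]]

def sat_50L : List (List Nat) :=
  [[0, 1, 4, 8, 4, 3, 9],
   [0, 1, 8, 3, 4, 9, 4]]

def sat_51L : List (List Nat) :=
  [[0, 1, 10, 9, 4, 8, 10],
   [0, 1, 12, 5, 7, 6, 12]]

def sat_52L : List (List Nat) :=
  [[0, 3, 5, 10, 7, 10, 5],
   [0, 5, 12, 1, 6, 7, 12]]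

def sat_53L : List (List Nat) :=
  [[0, 10, 7, 10, 12, 5, 12]]

def sat_54L : List (List Nat) :=
  [[12, 13, 12, 13, 12, 13, 12, 13]]

def sat_55L : List (List Nat) :=
  [[7, 8, 13, 12, 8, 13, 12, 9, 13, 9, 12, 13, 8, 12, 13, 8, 12]]

def sat_56L : List (List Nat) :=
  [[1, 14, 1, 14],
   [4, 14, 4, 14],
   [5, 14, 5, 14]]

def sat_57L : List (List Nat) :=
  [[6, 14, 6, 14],
   [7, 14, 7, 14],
   [13, 14, 13, 14]]

def sat_58L : List (List Nat) :=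
  [[0, 4, 6, 14, 0, 14],
   [2, 5, 6, 14, 2, 14]]

def sat_59L : List (List Nat) :=
  [[2, 7, 10, 7, 2, 10],
   [0, 7, 10, 13, 0, 13, 10]]

def sat_60L : List (List Nat) :=
  [[0, 10, 7, 12, 5, 12, 10]]

def sat_61L : List (List Nat) :=
  [[0, 3, 4, 5, 0, 14, 3, 14],
   [5, 6, 9, 5, 8]]

def sat_62L : List (List Nat) :=
  [[1, 9, 14, 2, 14, 8],
   [4, 5, 9, 7, 8, 6]]

def sat_63L : List (List Nat) :=
  [[0, 1, 12, 6, 5, 7, 12],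
   [0, 12, 3, 7, 1, 6, 12]]

def sat_64L : List (List Nat) :=
  [[12, 14, 12, 14, 12, 14, 12, 14]]

def sat_65L : List (List Nat) :=
  [[0, 10, 13, 12, 5, 12, 13, 10],
   [0, 2, 13, 2, 0, 13]]

def sat_66L : List (List Nat) :=
  [[7, 12, 13, 12, 7, 12, 13, 12]]

def sat_67L : List (List Nat) :=
  [[1, 10, 14, 12, 5, 12, 14, 10],
   [1, 3, 10, 5, 4, 10]]

def sat_68L : List (List Nat) :=
  [[10, 13, 10, 13, 10, 13, 10, 14, 13, 14]]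

def sat_69L : List (List Nat) :=
  [[11, 14, 11, 14, 11, 14, 11, 14, 11, 14]]

def sat_70L : List (List Nat) :=
  [[0, 1, 2, 14, 10, 11, 10, 2, 0, 11, 10, 14]]

def sat_71L : List (List Nat) :=
  [[1, 11, 14, 1, 13, 6, 14, 10, 11, 10, 6, 13]]

def sat_72L : List (List Nat) :=
  [[0, 8, 14, 11, 5, 10, 11, 10, 5, 11, 14, 9]]

def sat_73L : List (List Nat) :=
  [[0, 12, 13, 12, 10, 14, 4, 14, 10, 12, 13, 12]]

def sat_74L : List (List Nat) :=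
  [[0, 11, 14, 13, 14, 11, 0, 14, 3, 13, 3, 14]]

def sat_75L : List (List Nat) :=
  [[0, 13, 0, 14, 2, 11, 14, 13, 14, 11, 2, 14]]

def sat_76L : List (List Nat) :=
  [[0, 4, 2, 4, 11, 14, 0, 5, 6, 3, 7, 14, 11]]

def sat_77L : List (List Nat) :=
  [[1, 2, 8, 2, 5, 9],
   [1, 2, 8, 2, 9, 6]]

def sat_78L : List (List Nat) :=
  [[2, 5, 14, 2, 14, 6],
   [0, 12, 1, 6, 7, 3, 12]]

def sat_79L : List (List Nat) :=
  [[1, 7, 9, 11, 4, 2, 14, 12, 14, 11, 14, 12, 14]]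

def sat_80L : List (List Nat) :=
  [[0, 5, 11, 5, 0, 11, 14, 4, 10, 0, 10, 14, 11]]

def sat_81L : List (List Nat) :=
  [[0, 3, 6, 3, 14, 11, 7, 8, 11, 9, 7, 11, 14]]

def sat_82L : List (List Nat) :=
  [[1, 11, 14, 13, 14, 11, 6, 12, 14, 3, 14, 12, 13]]

def sat_83L : List (List Nat) :=
  [[1, 6, 14, 11, 12, 9, 11, 2, 11, 8, 12, 11, 14]]

def sat_84L : List (List Nat) :=
  [[0, 10, 13, 3, 10, 14, 10, 13, 10, 14, 10, 13, 10, 14]]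

def sat_85L : List (List Nat) :=
  [[0, 2, 14, 11, 10, 14, 5, 2, 4, 0, 14, 11, 1, 14]]

def sat_86L : List (List Nat) :=
  [[0, 6, 10, 14, 11, 5, 7, 11, 7, 5, 11, 14, 1, 10]]

def sat_87L : List (List Nat) :=
  [[1, 13, 6, 14, 11, 5, 10, 12, 3, 12, 11, 10, 14, 13]]

def sat_88L : List (List Nat) :=
  [[0, 5, 6, 3, 7, 14, 11, 12, 9, 0, 8, 12, 11, 14]]

def sat_89L : List (List Nat) :=
  [[0, 2, 4, 5, 14, 11, 2, 14, 10, 2, 10, 14, 11, 14]]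

def sat_90L : List (List Nat) :=
  [[1, 2, 10, 7, 10, 14, 12, 10, 13, 1, 13, 10, 12, 14]]

def sat_91L : List (List Nat) :=
  [[3, 12, 5, 13, 12, 14, 12, 13, 12, 14, 12, 13, 12, 14]]

def sat_92L : List (List Nat) :=
  [[0, 4, 14, 0, 14, 6],
   [1, 6, 2, 8, 2, 9]]

def sat_93L : List (List Nat) :=
  [[1, 10, 4, 3, 5, 10],
   [4, 8, 6, 8, 7, 8]]

def sat_94L : List (List Nat) :=
  [[0, 3, 1, 9, 3, 4, 8],
   [0, 4, 10, 1, 7, 10, 5]]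

def sat_95L : List (List Nat) :=
  [[1, 2, 5, 9, 1, 8, 6],
   [1, 2, 13, 10, 6, 10, 13]]

def sat_96L : List (List Nat) :=
  [[1, 4, 5, 14, 10, 11, 10, 12, 7, 12, 5, 11, 10, 14]]

def sat_97L : List (List Nat) :=
  [[0, 2, 10, 11, 12, 10, 14, 3, 6, 3, 14, 10, 12, 11]]

def sat_98L : List (List Nat) :=
  [[0, 3, 4, 14, 11, 5, 12, 8, 12, 9, 12, 5, 11, 14]]

def sat_99L : List (List Nat) :=
  [[3, 5, 8, 12, 11, 14, 7, 3, 6, 14, 11, 8, 12, 10]]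

def sat_100L : List (List Nat) :=
  [[0, 3, 4, 14, 11, 12, 3, 8, 12, 9, 3, 12, 11, 14]]

def sat_101L : List (List Nat) :=
  [[4, 9, 12, 11, 14, 8, 7, 9, 14, 11, 12, 8, 4, 12]]

def sat_102L : List (List Nat) :=
  [[1, 13, 12, 8, 12, 14, 2, 3, 5, 14, 12, 9, 12, 13]]

def sat_103L : List (List Nat) :=
  [[0, 3, 5, 8, 12, 8, 13, 12, 9, 13, 12, 8, 14, 8, 14]]

def sat_104L : List (List Nat) :=
  [[1, 15, 1, 15],
   [3, 15, 3, 15],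
   [4, 15, 4, 15]]

def sat_105L : List (List Nat) :=
  [[5, 15, 5, 15],
   [8, 15, 8, 15],
   [5, 6, 15, 6, 15]]

def sat_106L : List (List Nat) :=
  [[5, 10, 5, 15, 10, 15],
   [0, 2, 13, 0, 2, 13]]

def sat_107L : List (List Nat) :=
  [[0, 3, 4, 15, 0, 15],
   [0, 3, 13, 0, 3, 13]]

def sat_108L : List (List Nat) :=
  [[0, 3, 15, 0, 15, 4],
   [0, 3, 15, 4, 0, 15]]

def sat_109L : List (List Nat) :=
  [[0, 7, 10, 7, 0, 10],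
   [1, 2, 5, 15, 2, 15]]

def sat_110L : List (List Nat) :=
  [[0, 2, 10, 2, 0, 10],
   [1, 2, 8, 5, 2, 9]]

def sat_111L : List (List Nat) :=
  [[1, 2, 9, 5, 1, 8],
   [1, 2, 15, 2, 15, 5]]

def sat_112L : List (List Nat) :=
  [[1, 2, 15, 5, 2, 15],
   [1, 3, 12, 1, 3, 12]]

def sat_113L : List (List Nat) :=
  [[1, 3, 12, 3, 1, 12],
   [1, 5, 9, 2, 5, 8]]

def sat_114L : List (List Nat) :=
  [[1, 5, 9, 5, 2, 8],
   [1, 5, 12, 5, 1, 12]]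

def sat_115L : List (List Nat) :=
  [[1, 9, 2, 5, 6, 8],
   [1, 9, 2, 6, 5, 8]]

def sat_116L : List (List Nat) :=
  [[1, 9, 5, 2, 6, 8],
   [2, 3, 13, 2, 3, 13]]

def sat_117L : List (List Nat) :=
  [[2, 5, 14, 6, 2, 14],
   [3, 5, 12, 5, 3, 12]]

def sat_118L : List (List Nat) :=
  [[4, 6, 9, 7, 6, 8],
   [5, 8, 15, 6, 8, 15]]

def sat_119L : List (List Nat) :=
  [[5, 8, 15, 6, 15, 9],
   [5, 10, 15, 5, 10, 15]]

def sat_120L : List (List Nat) :=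
  [[6, 9, 15, 6, 9, 15],
   [6, 9, 15, 6, 15, 8]]

def sat_121L : List (List Nat) :=
  [[7, 8, 13, 7, 9, 13],
   [0, 1, 3, 9, 4, 3, 8]]

def sat_122L : List (List Nat) :=
  [[0, 1, 4, 0, 10, 5, 10],
   [0, 1, 6, 0, 9, 2, 8]]

def sat_123L : List (List Nat) :=
  [[0, 1, 9, 3, 4, 8, 3],
   [0, 1, 9, 4, 3, 8, 3]]

def sat_124L : List (List Nat) :=
  [[0, 1, 12, 5, 6, 7, 12],
   [0, 1, 12, 6, 7, 5, 12]]

def sat_125L : List (List Nat) :=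
  [[0, 1, 12, 7, 6, 5, 12],
   [0, 3, 4, 0, 10, 4, 10]]

def sat_126L : List (List Nat) :=
  [[0, 3, 6, 10, 7, 10, 6],
   [0, 3, 10, 1, 7, 1, 10]]

def sat_127L : List (List Nat) :=
  [[0, 4, 1, 8, 3, 4, 9],
   [0, 4, 10, 15, 7, 15, 10]]

def sat_128L : List (List Nat) :=
  [[0, 5, 3, 10, 7, 10, 5],
   [0, 5, 7, 13, 5, 0, 13]]

def sat_129L : List (List Nat) :=
  [[0, 5, 12, 1, 7, 6, 12],
   [0, 5, 12, 6, 1, 7, 12]]

def sat_130L : List (List Nat) :=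
  [[0, 6, 3, 6, 10, 7, 10],
   [0, 8, 7, 13, 9, 0, 13]]

def sat_131L : List (List Nat) :=
  [[0, 9, 7, 13, 8, 0, 13],
   [0, 10, 4, 10, 15, 0, 15]]

def sat_132L : List (List Nat) :=
  [[0, 10, 6, 3, 6, 7, 10],
   [0, 10, 6, 3, 7, 6, 10]]

def sat_133L : List (List Nat) :=
  [[0, 12, 1, 7, 6, 3, 12],
   [0, 12, 6, 1, 3, 7, 12]]

def sat_134L : List (List Nat) :=
  [[0, 12, 6, 3, 1, 7, 12],
   [1, 2, 4, 9, 7, 1, 8]]

def sat_135L : List (List Nat) :=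
  [[1, 2, 5, 6, 9, 1, 8],
   [1, 2, 6, 15, 2, 6, 15]]

def sat_136L : List (List Nat) :=
  [[1, 2, 12, 1, 7, 12, 7],
   [1, 2, 14, 9, 1, 8, 14]]

def sat_137L : List (List Nat) :=
  [[1, 3, 10, 1, 5, 10, 5],
   [1, 3, 10, 1, 15, 10, 15]]

def sat_138L : List (List Nat) :=
  [[1, 3, 10, 15, 1, 10, 15],
   [1, 3, 15, 10, 1, 15, 10]]

def sat_139L : List (List Nat) :=
  [[1, 4, 2, 9, 1, 7, 8],
   [1, 4, 5, 9, 2, 7, 8]]

def sat_140L : List (List Nat) :=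
  [[1, 4, 5, 9, 7, 2, 8],
   [1, 4, 5, 10, 5, 10, 5]]

def sat_141L : List (List Nat) :=
  [[1, 4, 5, 15, 10, 15, 10],
   [1, 4, 6, 10, 5, 10, 6]]

def sat_142L : List (List Nat) :=
  [[1, 4, 7, 1, 15, 7, 15],
   [0, 4, 1, 8, 4, 3, 9]]

def sat_143L : List (List Nat) :=
  [[1, 4, 7, 15, 1, 7, 15],
   [1, 4, 9, 6, 2, 7, 8]]

def sat_144L : List (List Nat) :=
  [[1, 4, 9, 6, 7, 2, 8],
   [1, 4, 10, 15, 10, 15, 5]]

def sat_145L : List (List Nat) :=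
  [[1, 4, 14, 10, 5, 10, 14],
   [1, 4, 15, 7, 1, 15, 7]]

def sat_146L : List (List Nat) :=
  [[1, 4, 15, 7, 15, 1, 7],
   [1, 4, 15, 10, 15, 10, 5]]

def sat_147L : List (List Nat) :=
  [[1, 5, 3, 10, 5, 1, 10],
   [1, 5, 6, 2, 9, 1, 8]]

def sat_148L : List (List Nat) :=
  [[1, 5, 15, 4, 10, 15, 10]]

def sat_149L : List (List Nat) :=
  [[12, 15, 12, 15, 12, 15, 12, 15]]

def sat_150L : List (List Nat) :=
  [[13, 15, 13, 15, 13, 15, 13, 15]]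

def sat_151L : List (List Nat) :=
  [[13, 15, 14, 15, 13, 15, 14, 15],
   [2, 3, 13, 3, 2, 13]]

def sat_152L : List (List Nat) :=
  [[6, 9, 15, 14, 13, 15, 8, 14, 13]]

def sat_153L : List (List Nat) :=
  [[1, 3, 12, 4, 12, 4]]

def sat_154L : List (List Nat) :=
  [[5, 11, 5, 15, 11, 5, 15, 11, 15]]

def sat_155L : List (List Nat) :=
  [[12, 14, 15, 12, 15, 14, 12, 14, 15, 12, 15, 14]]

def sat_156L : List (List Nat) :=
  [[0, 9, 11, 12, 15, 1, 15, 12, 11, 8, 0, 11]]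

def sat_157L : List (List Nat) :=
  [[2, 11, 15, 12, 10, 12, 9, 15, 12, 10, 12, 15, 11]]

def sat_158L : List (List Nat) :=
  [[0, 4, 14, 6, 0, 14],
   [2, 8, 2, 8, 2, 8]]

def sat_159L : List (List Nat) :=
  [[0, 5, 4, 10, 7, 1, 10],
   [0, 10, 1, 7, 1, 3, 10]]

def sat_160L : List (List Nat) :=
  [[1, 2, 6, 9, 1, 8, 5],
   [1, 5, 4, 9, 2, 7, 8]]

def sat_161L : List (List Nat) :=
  [[1, 6, 2, 15, 2, 6, 15],
   [1, 6, 14, 9, 2, 8, 14]]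

def sat_162L : List (List Nat) :=
  [[1, 7, 2, 12, 7, 1, 12],
   [1, 7, 9, 2, 4, 7, 8]]

def sat_163L : List (List Nat) :=
  [[1, 7, 9, 2, 7, 4, 8],
   [0, 3, 1, 9, 4, 3, 8]]

def sat_164L : List (List Nat) :=
  [[1, 7, 9, 7, 2, 4, 8],
   [1, 7, 13, 1, 9, 13, 8]]

def sat_165L : List (List Nat) :=
  [[0, 1, 14, 11, 10, 2, 0, 11, 14, 2]]

def sat_166L : List (List Nat) :=
  [[8, 13, 15, 13, 12, 8, 15, 12, 13, 15, 9, 12, 13, 12]]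

def sat_167L : List (List Nat) :=
  [[0, 8, 0, 15, 12, 8, 15, 13, 12, 15, 13, 15, 13, 12, 13]]

def sat_168L : List (List Nat) :=
  [[3, 12, 5, 10, 14, 10, 12, 15, 12, 10, 15, 14, 15, 10, 12, 15]]

def sat_169L : List (List Nat) :=
  [[0, 3, 13, 3, 0, 13]]

def sat_170L : List (List Nat) :=
  [[3, 11, 15, 11, 4, 14, 9, 11, 9, 6, 11, 10, 14, 11, 15, 11]]

def sat_171L : List (List Nat) :=
  [[0, 10, 9, 7, 10, 15, 11, 6, 14, 8, 11, 10, 7, 11, 14, 11, 15]]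

def sat_172L : List (List Nat) :=
  [[1, 3, 10, 4, 5, 10],
   [1, 2, 5, 8, 2, 6, 9]]

def sat_173L : List (List Nat) :=
  [[1, 4, 9, 2, 6, 7, 8],
   [1, 8, 1, 14, 2, 14, 9]]

def sat_174L : List (List Nat) :=
  [[1, 8, 6, 15, 2, 8, 15]]

def sat_175L : List (List Nat) :=
  [[0, 3, 11, 0, 9, 14, 0, 11, 15, 0, 4, 8, 1, 15, 11, 14, 11]]

def sat_176L : List (List Nat) :=
  [[0, 9, 10, 0, 15, 11, 1, 2, 14, 11, 1, 8, 11, 9, 14, 11, 15]]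

def sat_177L : List (List Nat) :=
  [[0, 9, 10, 7, 15, 11, 14, 11, 4, 6, 5, 11, 8, 14, 5, 11, 15]]

def sat_178L : List (List Nat) :=
  [[0, 3, 11, 2, 9, 14, 11, 15, 0, 8, 7, 10, 15, 11, 6, 14, 11]]

def sat_179L : List (List Nat) :=
  [[1, 8, 1, 11, 3, 13, 12, 11, 2, 4, 13, 15, 11, 13, 12, 13, 11, 15]]


end Cfsg.Agent.SchurG.Co1
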