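import Cfsg.Agent.Comp.TC
import Cfsg.Agent.SchurG.Co1.Pres
import Cfsg.Agent.SchurG.Co1.TopT0
import Cfsg.Agent.SchurG.Co1.TopT1
import Cfsg.Agent.SchurG.Co1.TopT2
import Cfsg.Agent.SchurG.Co1.TopT3

set_option autoImplicit false
set_option maxRecDepth 100000

namespace Cfsg.Agent.SchurG.Co1.Top
open Cfsg.Agent.Comp

noncomputable def T : Tr := (Tr.node (nat_lit 3071) (Tr.node (nat_lit 1535) (Tr.node (nat_lit 767) (Tr.node (nat_lit 383) (Tr.node (nat_lit 191) (Tr.node (nat_lit 63) t0 (Tr.node (nat_lit 127) t1 t2)) (Tr.node (nat_lit 255) t3 (Tr.node (nat_lit 319) t4 t5))) (Tr.node (nat_lit 575) (Tr.node (nat_lit 447) t6 (Tr.node (nat_lit 511) t7 t8)) (Tr.node (nat_lit 639) t9 (Tr.node (nat_lit 703) t10 t11)))) (Tr.node (nat_lit 1151) (Tr.node (nat_lit 959) (Tr.node (nat_lit 831) t12 (Tr.node (nat_lit 895) t13 t14)) (Tr.node (nat_lit 1023) t15 (Tr.node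 (nat_lit 1087) t16 t17))) (Tr.node (nat_lit 1343) (Tr.node (nat_lit 1215) t18 (Tr.node (nat_lit 1279) t19 t20)) (Tr.node (nat_lit 1407) t21 (Tr.node (nat_lit 1471) t22 t23))))) (Tr.node (nat_lit 2303) (Tr.node (nat_lit 1919) (Tr.node (nat_lit 1727) (Tr.node (nat_lit 1599) t24 (Tr.node (nat_lit 1663) t25 t26)) (Tr.node (nat_lit 1791) t27 (Tr.node (nat_lit 1855) t28 t29))) (Tr.node (nat_lit 2111) (Tr.node (nat_lit 1983) t30 (Tr.node (nat_lit 2047) t31 t32)) (Tr.node (nat_lit 2175) t33 (Tr.node (nat_lit 2239) t34 t35)))) (Tr.node (nat_lit 2687) (Tr.node (nat_lit 2495) (Tr.node (nat_lit 2367) t36 (Tr.node (nat_lit 2431) t37 t38)) (Tr.node (nat_lit 2559) t39 (Tr.node (nat_lit 2623) t40 t41))) (Tr.node (nat_lit 2879) (Tr.node (nat_lit 2751) t42 (Tr.node (nat_lit 2815) t43 t44)) (Tr.node (nat_lit 2943) t45 (Tr.node (nat_lit 3007) t46 t47)))))) (Tr.node (nat_lit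 4607) (Tr.node (nat_lit 3839) (Tr.node (nat_lit 3455) (Tr.node (nat_lit 3263) (Tr.node (nat_lit 3135) t48 (Tr.node (nat_lit 3199) t49 t50)) (Tr.node (nat_lit 3327) t51 (Tr.node (nat_lit 3391) t52 t53))) (Tr.node (nat_lit 3647) (Tr.node (nat_lit 3519) t54 (Tr.node (nat_lit 3583) t55 t56)) (Tr.node (nat_lit 3711) t57 (Tr.node (nat_lit 3775) t58 t59)))) (Tr.node (nat_lit 4223) (Tr.node (nat_lit 4031) (Tr.node (nat_lit 3903) t60 (Tr.node (nat_lit 3967) t61 t62)) (Tr.node (nat_lit 4095) t63 (Tr.node (nat_lit 4159) t64 t65))) (Tr.node (nat_lit 4415) (Tr.node (nat_lit 4287) t66 (Tr.node (nat_lit 4351) t67 t68)) (Tr.node (nat_lit 4479) t69 (Tr.node (nat_lit 4543) t70 t71))))) (Tr.node (nat_lit 5375) (Tr.node (nat_lit 4991) (Tr.node (nat_lit 4799) (Tr.node (nat_lit 4671) t72 (Tr.node (nat_lit 4735) t73 t74)) (Tr.node (nat_lit 4863) t75 (Tr.node (nat_lit 4927)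 t76 t77))) (Tr.node (nat_lit 5183) (Tr.node (nat_lit 5055) t78 (Tr.node (nat_lit 5119) t79 t80)) (Tr.node (nat_lit 5247) t81 (Tr.node (nat_lit 5311) t82 t83)))) (Tr.node (nat_lit 5759) (Tr.node (nat_lit 5567) (Tr.node (nat_lit 5439) t84 (Tr.node (nat_lit 5503) t85 t86)) (Tr.node (nat_lit 5631) t87 (Tr.node (nat_lit 5695) t88 t89))) (Tr.node (nat_lit 5951) (Tr.node (nat_lit 5823) t90 (Tr.node (nat_lit 5887) t91 t92)) (Tr.node (nat_lit 6015) t93 (Tr.node (nat_lit 6079) t94 t95)))))))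

def RT : List (List (List Nat)) := [
  [[nat_lit 1, nat_lit 0, nat_lit 1],
   [nat_lit 4, nat_lit 0, nat_lit 4],
   [nat_lit 6, nat_lit 0, nat_lit 6],
   [nat_lit 3, nat_lit 0, nat_lit 3],
   [nat_lit 7, nat_lit 0, nat_lit 7],
   [nat_lit 2, nat_lit 0, nat_lit 2],
   [nat_lit 13, nat_lit 0, nat_lit 13, nat_lit 7],
   [nat_lit 7, nat_lit 13, nat_lit 0, nat_lit 13],
   [nat_lit 13, nat_lit 7, nat_lit 0, nat_lit 13],
   [nat_lit 14, nat_lit 4, nat_lit 0, nat_lit 6, nat_lit 14],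
   [nat_lit 14, nat_lit 6, nat_lit 0, nat_lit 4, nat_lit 14],
   [nat_lit 15, nat_lit 4, nat_lit 0, nat_lit 3, nat_lit 15],
   [nat_lit 3, nat_lit 4, nat_lit 15, nat_lit 0, nat_lit 15],
   [nat_lit 7, nat_lit 10, nat_lit 0, nat_lit 7, nat_lit 10],
   [nat_lit 15, nat_lit 0, nat_lit 15, nat_lit 4, nat_lit 3],
   [nat_lit 3, nat_lit 13, nat_lit 0, nat_lit 3, nat_lit 13],
   [nat_lit 14, nat_lit 0, nat_lit 6, nat_lit 14, nat_lit 4],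
   [nat_lit 15, nat_lit 3, nat_lit 0, nat_lit 4, nat_lit 15],
   [nat_lit 15, nat_lit 0, nat_lit 3, nat_lit 15, nat_lit 4],
   [nat_lit 4, nat_lit 6, nat_lit 14, nat_lit 0, nat_lit 14],
   [nat_lit 9, nat_lit 0, nat_lit 9, nat_lit 0, nat_lit 9],
   [nat_lit 15, nat_lit 0, nat_lit 3, nat_lit 4, nat_lit 15],
   [nat_lit 10, nat_lit 7, nat_lit 12, nat_lit 5, nat_lit 12, nat_lit 10],
   [nat_lit 13, nat_lit 10, nat_lit 7, nat_lit 0, nat_lit 10, nat_lit 13],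
   [nat_lit 13, nat_lit 0, nat_lit 7, nat_lit 13],
   [nat_lit 7, nat_lit 10, nat_lit 13, nat_lit 0, nat_lit 13, nat_lit 10],
   [nat_lit 4, nat_lit 10, nat_lit 15, nat_lit 7, nat_lit 15, nat_lit 10],
   [nat_lit 1, nat_lit 10, nat_lit 9, nat_lit 4, nat_lit 8, nat_lit 10],
   [nat_lit 12, nat_lit 6, nat_lit 7, nat_lit 1, nat_lit 12, nat_lit 5],
   [nat_lit 1, nat_lit 12, nat_lit 6, nat_lit 5, nat_lit 7, nat_lit 12],
   [nat_lit 13, nat_lit 10, nat_lit 0, nat_lit 7, nat_lit 10, nat_lit 13],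
   [nat_lit 5, nat_lit 12, nat_lit 6, nat_lit 1, nat_lit 7, nat_lit 12],
   [nat_lit 3, nat_lit 9, nat_lit 4, nat_lit 3, nat_lit 8, nat_lit 1],
   [nat_lit 4, nat_lit 8, nat_lit 4, nat_lit 3, nat_lit 9, nat_lit 1],
   [nat_lit 1, nat_lit 4, nat_lit 8, nat_lit 3, nat_lit 4, nat_lit 9],
   [nat_lit 12, nat_lit 1, nat_lit 7, nat_lit 6, nat_lit 3, nat_lit 12],
   [nat_lit 5, nat_lit 10, nat_lit 7, nat_lit 3, nat_lit 10, nat_lit 5],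
   [nat_lit 12, nat_lit 7, nat_lit 5, nat_lit 6, nat_lit 12, nat_lit 1],
   [nat_lit 1, nat_lit 12, nat_lit 5, nat_lit 6, nat_lit 7, nat_lit 12],
   [nat_lit 12, nat_lit 3, nat_lit 7, nat_lit 1, nat_lit 6, nat_lit 12],
   [nat_lit 10, nat_lit 1, nat_lit 7, nat_lit 1, nat_lit 3, nat_lit 10],
   [nat_lit 12, nat_lit 3, nat_lit 7, nat_lit 6, nat_lit 1, nat_lit 12],
   [nat_lit 5, nat_lit 12, nat_lit 1, nat_lit 6, nat_lit 7, nat_lit 12],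
   [nat_lit 10, nat_lit 13, nat_lit 12, nat_lit 5, nat_lit 12, nat_lit 13, nat_lit 10],
   [nat_lit 11, nat_lit 2, nat_lit 11, nat_lit 0, nat_lit 11, nat_lit 2, nat_lit 11],
   [nat_lit 11, nat_lit 0, nat_lit 11, nat_lit 0, nat_lit 11, nat_lit 0, nat_lit 11],
   [nat_lit 11, nat_lit 2, nat_lit 12, nat_lit 11, nat_lit 0, nat_lit 11, nat_lit 12, nat_lit 11],
   [nat_lit 11, nat_lit 7, nat_lit 11, nat_lit 0, nat_lit 11, nat_lit 2, nat_lit 3, nat_lit 11],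
   [nat_lit 17],
   [nat_lit 11, nat_lit 12, nat_lit 2, nat_lit 11, nat_lit 0, nat_lit 11, nat_lit 12, nat_lit 11],
   [nat_lit 15, nat_lit 10, nat_lit 4, nat_lit 10, nat_lit 0, nat_lit 15],
   [nat_lit 12, nat_lit 13, nat_lit 12, nat_lit 10, nat_lit 14, nat_lit 4, nat_lit 14, nat_lit 10, nat_lit 12, nat_lit 13, nat_lit 12],
   [nat_lit 15, nat_lit 4, nat_lit 3, nat_lit 0, nat_lit 15],
   [nat_lit 12, nat_lit 6, nat_lit 3, nat_lit 1, nat_lit 7, nat_lit 12],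
   [nat_lit 8, nat_lit 4, nat_lit 3, nat_lit 9, nat_lit 4, nat_lit 1],
   [nat_lit 14, nat_lit 6, nat_lit 4, nat_lit 0, nat_lit 14],
   [nat_lit 12, nat_lit 6, nat_lit 1, nat_lit 3, nat_lit 7, nat_lit 12],
   [nat_lit 10, nat_lit 3, nat_lit 1, nat_lit 7, nat_lit 1, nat_lit 10],
   [nat_lit 10, nat_lit 15, nat_lit 7, nat_lit 15, nat_lit 10, nat_lit 4],
   [nat_lit 9, nat_lit 4, nat_lit 3, nat_lit 8, nat_lit 3, nat_lit 1],
   [nat_lit 1, nat_lit 9, nat_lit 4, nat_lit 3, nat_lit 8, nat_lit 3],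
   [nat_lit 10, nat_lit 1, nat_lit 7, nat_lit 3, nat_lit 1, nat_lit 10],
   [nat_lit 10, nat_lit 0, nat_lit 7, nat_lit 10, nat_lit 7],
   [nat_lit 12, nat_lit 7, nat_lit 3, nat_lit 1, nat_lit 6, nat_lit 12],
   [nat_lit 12, nat_lit 7, nat_lit 6, nat_lit 5, nat_lit 12, nat_lit 1],
   [nat_lit 5, nat_lit 12, nat_lit 1, nat_lit 7, nat_lit 6, nat_lit 12],
   [nat_lit 10, nat_lit 7, nat_lit 6, nat_lit 3, nat_lit 6, nat_lit 10],
   [nat_lit 12, nat_lit 7, nat_lit 1, nat_lit 3, nat_lit 6, nat_lit 12],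
   [nat_lit 12, nat_lit 6, nat_lit 1, nat_lit 7, nat_lit 3, nat_lit 12],
   [nat_lit 10, nat_lit 7, nat_lit 0, nat_lit 10, nat_lit 7],
   [nat_lit 15, nat_lit 0, nat_lit 10, nat_lit 4, nat_lit 10, nat_lit 15],
   [nat_lit 11, nat_lit 3, nat_lit 2, nat_lit 11, nat_lit 0, nat_lit 11, nat_lit 7, nat_lit 11],
   [nat_lit 1, nat_lit 14, nat_lit 11, nat_lit 10, nat_lit 2, nat_lit 0, nat_lit 11, nat_lit 14, nat_lit 2],
   [nat_lit 2, nat_lit 14, nat_lit 11, nat_lit 0, nat_lit 2, nat_lit 10, nat_lit 11, nat_lit 14, nat_lit 1],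
   [nat_lit 5, nat_lit 2, nat_lit 4, nat_lit 2, nat_lit 0, nat_lit 4, nat_lit 5],
   [nat_lit 8, nat_lit 12, nat_lit 11, nat_lit 14, nat_lit 0, nat_lit 5, nat_lit 6, nat_lit 3, nat_lit 7, nat_lit 14, nat_lit 11, nat_lit 12, nat_lit 9],
   [nat_lit 8, nat_lit 12, nat_lit 11, nat_lit 14, nat_lit 7, nat_lit 3, nat_lit 6, nat_lit 5, nat_lit 0, nat_lit 14, nat_lit 11, nat_lit 12, nat_lit 9],
   [nat_lit 8, nat_lit 0, nat_lit 8, nat_lit 0, nat_lit 8],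
   [nat_lit 12, nat_lit 7, nat_lit 3, nat_lit 6, nat_lit 1, nat_lit 12],
   [nat_lit 10, nat_lit 5, nat_lit 10, nat_lit 0, nat_lit 4, nat_lit 1],
   [nat_lit 12, nat_lit 1, nat_lit 6, nat_lit 3, nat_lit 7, nat_lit 12],
   [nat_lit 11, nat_lit 12, nat_lit 11, nat_lit 0, nat_lit 11, nat_lit 12, nat_lit 2, nat_lit 11],
   [nat_lit 1, nat_lit 12, nat_lit 5, nat_lit 7, nat_lit 6, nat_lit 12],
   [nat_lit 4, nat_lit 3, nat_lit 0, nat_lit 10, nat_lit 4, nat_lit 10],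
   [nat_lit 7, nat_lit 10, nat_lit 7, nat_lit 0, nat_lit 10],
   [nat_lit 14, nat_lit 0, nat_lit 4, nat_lit 6, nat_lit 14],
   [nat_lit 15, nat_lit 0, nat_lit 4, nat_lit 15, nat_lit 3],
   [nat_lit 14, nat_lit 0, nat_lit 4, nat_lit 14, nat_lit 6],
   [nat_lit 3, nat_lit 15, nat_lit 4, nat_lit 0, nat_lit 15],
   [nat_lit 6, nat_lit 14, nat_lit 4, nat_lit 0, nat_lit 14],
   [nat_lit 2, nat_lit 10, nat_lit 2, nat_lit 0, nat_lit 10],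
   [nat_lit 2, nat_lit 10, nat_lit 0, nat_lit 2, nat_lit 10],
   [nat_lit 10, nat_lit 0, nat_lit 2, nat_lit 10, nat_lit 2],
   [nat_lit 10, nat_lit 2, nat_lit 0, nat_lit 10, nat_lit 2],
   [nat_lit 4, nat_lit 15, nat_lit 0, nat_lit 15, nat_lit 3],
   [nat_lit 4, nat_lit 15, nat_lit 3, nat_lit 0, nat_lit 15],
   [nat_lit 12, nat_lit 7, nat_lit 1, nat_lit 6, nat_lit 12, nat_lit 5],
   [nat_lit 4, nat_lit 14, nat_lit 6, nat_lit 0, nat_lit 14],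
   [nat_lit 10, nat_lit 1, nat_lit 3, nat_lit 7, nat_lit 1, nat_lit 10],
   [nat_lit 3, nat_lit 10, nat_lit 1, nat_lit 7, nat_lit 1, nat_lit 10],
   [nat_lit 12, nat_lit 3, nat_lit 6, nat_lit 7, nat_lit 1, nat_lit 12],
   [nat_lit 5, nat_lit 10, nat_lit 7, nat_lit 1, nat_lit 10, nat_lit 4],
   [nat_lit 1, nat_lit 12, nat_lit 6, nat_lit 7, nat_lit 5, nat_lit 12],
   [nat_lit 12, nat_lit 6, nat_lit 7, nat_lit 5, nat_lit 12, nat_lit 1],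
   [nat_lit 12, nat_lit 5, nat_lit 6, nat_lit 7, nat_lit 12, nat_lit 1],
   [nat_lit 12, nat_lit 3, nat_lit 12, nat_lit 0, nat_lit 5],
   [nat_lit 1, nat_lit 12, nat_lit 7, nat_lit 6, nat_lit 5, nat_lit 12],
   [nat_lit 6, nat_lit 14, nat_lit 0, nat_lit 14, nat_lit 4],
   [nat_lit 4, nat_lit 10, nat_lit 1, nat_lit 7, nat_lit 10, nat_lit 5],
   [nat_lit 10, nat_lit 6, nat_lit 3, nat_lit 6, nat_lit 7, nat_lit 10],
   [nat_lit 10, nat_lit 12, nat_lit 5, nat_lit 12, nat_lit 7, nat_lit 10],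
   [nat_lit 10, nat_lit 6, nat_lit 3, nat_lit 7, nat_lit 6, nat_lit 10],
   [nat_lit 1, nat_lit 4, nat_lit 8, nat_lit 4, nat_lit 3, nat_lit 9],
   [nat_lit 5, nat_lit 0, nat_lit 12, nat_lit 3, nat_lit 12],
   [nat_lit 12, nat_lit 1, nat_lit 6, nat_lit 7, nat_lit 3, nat_lit 12],
   [nat_lit 12, nat_lit 5, nat_lit 7, nat_lit 6, nat_lit 12, nat_lit 1],
   [nat_lit 2, nat_lit 13, nat_lit 0, nat_lit 2, nat_lit 13],
   [nat_lit 4, nat_lit 1, nat_lit 8, nat_lit 3, nat_lit 4, nat_lit 9],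
   [nat_lit 1, nat_lit 3, nat_lit 9, nat_lit 4, nat_lit 3, nat_lit 8],
   [nat_lit 12, nat_lit 7, nat_lit 6, nat_lit 1, nat_lit 12, nat_lit 5],
   [nat_lit 4, nat_lit 1, nat_lit 8, nat_lit 4, nat_lit 3, nat_lit 9],
   [nat_lit 9, nat_lit 3, nat_lit 4, nat_lit 8, nat_lit 3, nat_lit 1],
   [nat_lit 9, nat_lit 4, nat_lit 3, nat_lit 8, nat_lit 1, nat_lit 3],
   [nat_lit 3, nat_lit 1, nat_lit 9, nat_lit 4, nat_lit 3, nat_lit 8],
   [nat_lit 1, nat_lit 3, nat_lit 9, nat_lit 3, nat_lit 4, nat_lit 8],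
   [nat_lit 3, nat_lit 9, nat_lit 3, nat_lit 4, nat_lit 8, nat_lit 1],
   [nat_lit 9, nat_lit 3, nat_lit 4, nat_lit 8, nat_lit 1, nat_lit 3],
   [nat_lit 1, nat_lit 9, nat_lit 3, nat_lit 4, nat_lit 8, nat_lit 3],
   [nat_lit 4, nat_lit 5, nat_lit 10, nat_lit 7, nat_lit 1, nat_lit 10],
   [nat_lit 13, nat_lit 2, nat_lit 0, nat_lit 13, nat_lit 2],
   [nat_lit 10, nat_lit 6, nat_lit 7, nat_lit 3, nat_lit 6, nat_lit 10],
   [nat_lit 3, nat_lit 15, nat_lit 0, nat_lit 15, nat_lit 4],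
   [nat_lit 8, nat_lit 3, nat_lit 4, nat_lit 9, nat_lit 4, nat_lit 1],
   [nat_lit 1, nat_lit 8, nat_lit 3, nat_lit 4, nat_lit 9, nat_lit 4],
   [nat_lit 8, nat_lit 4, nat_lit 3, nat_lit 9, nat_lit 1, nat_lit 4],
   [nat_lit 14, nat_lit 0, nat_lit 14, nat_lit 6, nat_lit 4],
   [nat_lit 10, nat_lit 9, nat_lit 4, nat_lit 8, nat_lit 10, nat_lit 1],
   [nat_lit 8, nat_lit 3, nat_lit 4, nat_lit 9, nat_lit 1, nat_lit 4],
   [nat_lit 3, nat_lit 1, nat_lit 9, nat_lit 3, nat_lit 4, nat_lit 8],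
   [nat_lit 9, nat_lit 13, nat_lit 7, nat_lit 8, nat_lit 0, nat_lit 13],
   [nat_lit 8, nat_lit 13, nat_lit 7, nat_lit 9, nat_lit 0, nat_lit 13],
   [nat_lit 5, nat_lit 10, nat_lit 3, nat_lit 7, nat_lit 10, nat_lit 5],
   [nat_lit 2, nat_lit 13, nat_lit 2, nat_lit 0, nat_lit 13],
   [nat_lit 10, nat_lit 4, nat_lit 10, nat_lit 0, nat_lit 3, nat_lit 4],
   [nat_lit 14, nat_lit 3, nat_lit 14, nat_lit 0, nat_lit 3, nat_lit 4, nat_lit 5],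
   [nat_lit 13, nat_lit 0, nat_lit 3, nat_lit 13, nat_lit 3],
   [nat_lit 11, nat_lit 12, nat_lit 11, nat_lit 0, nat_lit 11, nat_lit 2, nat_lit 12, nat_lit 11],
   [nat_lit 10, nat_lit 2, nat_lit 11, nat_lit 5, nat_lit 4, nat_lit 1, nat_lit 11],
   [nat_lit 11, nat_lit 1, nat_lit 4, nat_lit 5, nat_lit 11, nat_lit 2, nat_lit 10],
   [nat_lit 5, nat_lit 10, nat_lit 7, nat_lit 10, nat_lit 3, nat_lit 5],
   [nat_lit 6, nat_lit 10, nat_lit 7, nat_lit 10, nat_lit 6, nat_lit 3],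
   [nat_lit 2, nat_lit 4, nat_lit 2, nat_lit 5, nat_lit 0, nat_lit 5, nat_lit 4],
   [nat_lit 2, nat_lit 10, nat_lit 11, nat_lit 14, nat_lit 1, nat_lit 0, nat_lit 2, nat_lit 14, nat_lit 11],
   [nat_lit 11, nat_lit 6, nat_lit 2, nat_lit 0, nat_lit 11, nat_lit 0, nat_lit 11, nat_lit 1, nat_lit 11],
   [nat_lit 3, nat_lit 6, nat_lit 10, nat_lit 7, nat_lit 10, nat_lit 6],
   [nat_lit 5, nat_lit 4, nat_lit 0, nat_lit 2, nat_lit 4, nat_lit 2, nat_lit 5],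
   [nat_lit 5, nat_lit 3, nat_lit 10, nat_lit 7, nat_lit 10, nat_lit 5],
   [nat_lit 10, nat_lit 7, nat_lit 10, nat_lit 12, nat_lit 5, nat_lit 12],
   [nat_lit 4, nat_lit 1, nat_lit 0, nat_lit 10, nat_lit 5, nat_lit 10],
   [nat_lit 10, nat_lit 1, nat_lit 7, nat_lit 1, nat_lit 10, nat_lit 3],
   [nat_lit 5, nat_lit 4, nat_lit 10, nat_lit 7, nat_lit 1, nat_lit 10],
   [nat_lit 5, nat_lit 10, nat_lit 7, nat_lit 10, nat_lit 5, nat_lit 3],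
   [nat_lit 4, nat_lit 5, nat_lit 0, nat_lit 5, nat_lit 2, nat_lit 4, nat_lit 2],
   [nat_lit 2, nat_lit 10, nat_lit 11, nat_lit 10, nat_lit 14, nat_lit 2, nat_lit 1, nat_lit 0, nat_lit 14, nat_lit 10, nat_lit 11],
   [nat_lit 8, nat_lit 14, nat_lit 11, nat_lit 5, nat_lit 10, nat_lit 11, nat_lit 10, nat_lit 5, nat_lit 11, nat_lit 14, nat_lit 9],
   [nat_lit 10, nat_lit 1, nat_lit 7, nat_lit 10, nat_lit 4, nat_lit 5],
   [nat_lit 12, nat_lit 5, nat_lit 12, nat_lit 10, nat_lit 7, nat_lit 10],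
   [nat_lit 11, nat_lit 0, nat_lit 2, nat_lit 6, nat_lit 11, nat_lit 0, nat_lit 11, nat_lit 1, nat_lit 11],
   [nat_lit 11, nat_lit 2, nat_lit 3, nat_lit 11, nat_lit 0, nat_lit 11, nat_lit 7, nat_lit 11],
   [nat_lit 13, nat_lit 3, nat_lit 0, nat_lit 13, nat_lit 3],
   [nat_lit 3, nat_lit 5, nat_lit 10, nat_lit 7, nat_lit 10, nat_lit 5],
   [nat_lit 9, nat_lit 2, nat_lit 8, nat_lit 0, nat_lit 1, nat_lit 6],
   [nat_lit 5, nat_lit 11, nat_lit 5, nat_lit 0, nat_lit 11, nat_lit 14, nat_lit 4, nat_lit 10, nat_lit 0, nat_lit 10, nat_lit 14, nat_lit 11],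
   [nat_lit 11, nat_lit 7, nat_lit 11, nat_lit 0, nat_lit 11, nat_lit 3, nat_lit 2, nat_lit 11],
   [nat_lit 8, nat_lit 7, nat_lit 13, nat_lit 9, nat_lit 0, nat_lit 13],
   [nat_lit 13, nat_lit 0, nat_lit 8, nat_lit 7, nat_lit 13, nat_lit 9],
   [nat_lit 9, nat_lit 2, nat_lit 8, nat_lit 0, nat_lit 6, nat_lit 1],
   [nat_lit 11, nat_lit 1, nat_lit 11, nat_lit 0, nat_lit 11, nat_lit 0, nat_lit 2, nat_lit 6, nat_lit 11],
   [nat_lit 11, nat_lit 1, nat_lit 11, nat_lit 0, nat_lit 11, nat_lit 6, nat_lit 2, nat_lit 0, nat_lit 11],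
   [nat_lit 10, nat_lit 14, nat_lit 11, nat_lit 0, nat_lit 5, nat_lit 11, nat_lit 5, nat_lit 0, nat_lit 11, nat_lit 14, nat_lit 4, nat_lit 10],
   [nat_lit 4, nat_lit 14, nat_lit 0, nat_lit 14, nat_lit 6],
   [nat_lit 3, nat_lit 11, nat_lit 2, nat_lit 9, nat_lit 14, nat_lit 11, nat_lit 15, nat_lit 0, nat_lit 8, nat_lit 7, nat_lit 10, nat_lit 15, nat_lit 11, nat_lit 6, nat_lit 14, nat_lit 11],
   [nat_lit 10, nat_lit 8, nat_lit 0, nat_lit 15, nat_lit 11, nat_lit 14, nat_lit 8, nat_lit 11, nat_lit 9, nat_lit 1, nat_lit 11, nat_lit 14, nat_lit 2, nat_lit 1, nat_lit 11, nat_lit 15],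
   [nat_lit 3, nat_lit 11, nat_lit 0, nat_lit 9, nat_lit 14, nat_lit 0, nat_lit 11, nat_lit 15, nat_lit 0, nat_lit 4, nat_lit 8, nat_lit 1, nat_lit 15, nat_lit 11, nat_lit 14, nat_lit 11],
   [nat_lit 6, nat_lit 10, nat_lit 14, nat_lit 11, nat_lit 5, nat_lit 7, nat_lit 11, nat_lit 7, nat_lit 5, nat_lit 11, nat_lit 14, nat_lit 1, nat_lit 10],
   [nat_lit 3, nat_lit 13, nat_lit 3, nat_lit 0, nat_lit 13],
   [nat_lit 3, nat_lit 5, nat_lit 8, nat_lit 12, nat_lit 8, nat_lit 13, nat_lit 12, nat_lit 9, nat_lit 13, nat_lit 12, nat_lit 8, nat_lit 14, nat_lit 8, nat_lit 14],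
   [nat_lit 5, nat_lit 11, nat_lit 8, nat_lit 5, nat_lit 11, nat_lit 8, nat_lit 7, nat_lit 10],
   [nat_lit 13, nat_lit 0, nat_lit 2, nat_lit 13, nat_lit 2],
   [nat_lit 1, nat_lit 4, nat_lit 0, nat_lit 10, nat_lit 5, nat_lit 10],
   [nat_lit 14, nat_lit 3, nat_lit 14, nat_lit 0, nat_lit 5, nat_lit 4, nat_lit 3],
   [nat_lit 10, nat_lit 7, nat_lit 9, nat_lit 11, nat_lit 5, nat_lit 9, nat_lit 11, nat_lit 5],
   [nat_lit 6, nat_lit 3, nat_lit 6, nat_lit 10, nat_lit 7, nat_lit 10],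
   [nat_lit 10, nat_lit 7, nat_lit 10, nat_lit 6, nat_lit 3, nat_lit 6],
   [nat_lit 1, nat_lit 6, nat_lit 0, nat_lit 9, nat_lit 2, nat_lit 8],
   [nat_lit 13, nat_lit 0, nat_lit 5, nat_lit 13, nat_lit 7, nat_lit 5],
   [nat_lit 10, nat_lit 5, nat_lit 10, nat_lit 0, nat_lit 1, nat_lit 4],
   [nat_lit 11, nat_lit 14, nat_lit 11, nat_lit 15, nat_lit 1, nat_lit 9, nat_lit 4, nat_lit 0, nat_lit 15, nat_lit 11, nat_lit 0, nat_lit 14, nat_lit 8, nat_lit 0, nat_lit 11, nat_lit 3],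
   [nat_lit 10, nat_lit 1, nat_lit 7, nat_lit 10, nat_lit 5, nat_lit 4],
   [nat_lit 11, nat_lit 14, nat_lit 6, nat_lit 11, nat_lit 15, nat_lit 10, nat_lit 7, nat_lit 9, nat_lit 0, nat_lit 15, nat_lit 11, nat_lit 14, nat_lit 8, nat_lit 2, nat_lit 11, nat_lit 3],
   [nat_lit 11, nat_lit 14, nat_lit 2, nat_lit 0, nat_lit 1, nat_lit 14, nat_lit 11, nat_lit 10, nat_lit 2],
   [nat_lit 15, nat_lit 0, nat_lit 15, nat_lit 10, nat_lit 4, nat_lit 10],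
   [nat_lit 4, nat_lit 8, nat_lit 1, nat_lit 15, nat_lit 11, nat_lit 14, nat_lit 11, nat_lit 0, nat_lit 3, nat_lit 11, nat_lit 0, nat_lit 9, nat_lit 14, nat_lit 0, nat_lit 11, nat_lit 15],
   [nat_lit 5, nat_lit 13, nat_lit 7, nat_lit 5, nat_lit 0, nat_lit 13],
   [nat_lit 1, nat_lit 2, nat_lit 14, nat_lit 10, nat_lit 11, nat_lit 10, nat_lit 2, nat_lit 0, nat_lit 11, nat_lit 10, nat_lit 14],
   [nat_lit 6, nat_lit 1, nat_lit 0, nat_lit 9, nat_lit 2, nat_lit 8],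
   [nat_lit 10, nat_lit 13, nat_lit 0, nat_lit 13, nat_lit 10, nat_lit 7],
   [nat_lit 10, nat_lit 4, nat_lit 10, nat_lit 15, nat_lit 0, nat_lit 15],
   [nat_lit 10, nat_lit 4, nat_lit 10, nat_lit 0, nat_lit 4, nat_lit 3],
   [nat_lit 5, nat_lit 4, nat_lit 3, nat_lit 0, nat_lit 14, nat_lit 3, nat_lit 14],
   [nat_lit 11, nat_lit 0, nat_lit 11, nat_lit 1, nat_lit 11, nat_lit 0, nat_lit 11, nat_lit 6, nat_lit 2],
   [nat_lit 3, nat_lit 4, nat_lit 5, nat_lit 0, nat_lit 14, nat_lit 3, nat_lit 14],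
   [nat_lit 13, nat_lit 0, nat_lit 8, nat_lit 13, nat_lit 7, nat_lit 9]],
  [[nat_lit 2, nat_lit 1, nat_lit 2],
   [nat_lit 6, nat_lit 1, nat_lit 6],
   [nat_lit 14, nat_lit 1, nat_lit 14],
   [nat_lit 15, nat_lit 1, nat_lit 15],
   [nat_lit 3, nat_lit 1, nat_lit 3],
   [nat_lit 0, nat_lit 1, nat_lit 0],
   [nat_lit 4, nat_lit 1, nat_lit 4],
   [nat_lit 5, nat_lit 1, nat_lit 5],
   [nat_lit 6, nat_lit 9, nat_lit 2, nat_lit 8],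
   [nat_lit 4, nat_lit 10, nat_lit 5, nat_lit 10],
   [nat_lit 9, nat_lit 2, nat_lit 8, nat_lit 6],
   [nat_lit 9, nat_lit 14, nat_lit 2, nat_lit 14, nat_lit 8],
   [nat_lit 5, nat_lit 8, nat_lit 2, nat_lit 1, nat_lit 9],
   [nat_lit 3, nat_lit 12, nat_lit 4, nat_lit 12, nat_lit 4],
   [nat_lit 8, nat_lit 13, nat_lit 9, nat_lit 1, nat_lit 13],
   [nat_lit 8, nat_lit 1, nat_lit 8, nat_lit 1, nat_lit 8],
   [nat_lit 13, nat_lit 1, nat_lit 8, nat_lit 13, nat_lit 9],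
   [nat_lit 12, nat_lit 5, nat_lit 1, nat_lit 12, nat_lit 5],
   [nat_lit 5, nat_lit 12, nat_lit 1, nat_lit 5, nat_lit 12],
   [nat_lit 12, nat_lit 1, nat_lit 3, nat_lit 12, nat_lit 3],
   [nat_lit 2, nat_lit 5, nat_lit 15, nat_lit 2, nat_lit 15],
   [nat_lit 5, nat_lit 12, nat_lit 5, nat_lit 1, nat_lit 12],
   [nat_lit 12, nat_lit 3, nat_lit 1, nat_lit 12, nat_lit 3],
   [nat_lit 9, nat_lit 5, nat_lit 1, nat_lit 8, nat_lit 2],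
   [nat_lit 2, nat_lit 9, nat_lit 1, nat_lit 5, nat_lit 8],
   [nat_lit 3, nat_lit 12, nat_lit 1, nat_lit 3, nat_lit 12],
   [nat_lit 8, nat_lit 2, nat_lit 1, nat_lit 9, nat_lit 5],
   [nat_lit 9, nat_lit 1, nat_lit 9, nat_lit 1, nat_lit 9],
   [nat_lit 8, nat_lit 5, nat_lit 2, nat_lit 9, nat_lit 2],
   [nat_lit 12, nat_lit 1, nat_lit 5, nat_lit 12, nat_lit 5],
   [nat_lit 3, nat_lit 12, nat_lit 3, nat_lit 1, nat_lit 12],
   [nat_lit 2, nat_lit 15, nat_lit 5, nat_lit 2, nat_lit 15],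
   [nat_lit 2, nat_lit 13, nat_lit 10, nat_lit 6, nat_lit 10, nat_lit 13],
   [nat_lit 4, nat_lit 15, nat_lit 7, nat_lit 1, nat_lit 15, nat_lit 7],
   [nat_lit 6, nat_lit 7, nat_lit 12, nat_lit 0, nat_lit 5, nat_lit 12],
   [nat_lit 10, nat_lit 15, nat_lit 3, nat_lit 1, nat_lit 10, nat_lit 15],
   [nat_lit 2, nat_lit 14, nat_lit 9, nat_lit 1, nat_lit 8, nat_lit 14],
   [nat_lit 10, nat_lit 15, nat_lit 10, nat_lit 4, nat_lit 15, nat_lit 5],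
   [nat_lit 3, nat_lit 6, nat_lit 12, nat_lit 0, nat_lit 12, nat_lit 7],
   [nat_lit 4, nat_lit 7, nat_lit 15, nat_lit 1, nat_lit 7, nat_lit 15],
   [nat_lit 3, nat_lit 10, nat_lit 15, nat_lit 1, nat_lit 10, nat_lit 15],
   [nat_lit 0, nat_lit 8, nat_lit 4, nat_lit 3, nat_lit 9, nat_lit 4],
   [nat_lit 12, nat_lit 6, nat_lit 7, nat_lit 5, nat_lit 12, nat_lit 0],
   [nat_lit 8, nat_lit 14, nat_lit 1, nat_lit 2, nat_lit 14, nat_lit 9],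
   [nat_lit 9, nat_lit 4, nat_lit 7, nat_lit 2, nat_lit 8, nat_lit 7],
   [nat_lit 3, nat_lit 9, nat_lit 4, nat_lit 3, nat_lit 8, nat_lit 0],
   [nat_lit 0, nat_lit 12, nat_lit 7, nat_lit 5, nat_lit 6, nat_lit 12],
   [nat_lit 7, nat_lit 10, nat_lit 5, nat_lit 0, nat_lit 4, nat_lit 10],
   [nat_lit 9, nat_lit 13, nat_lit 8, nat_lit 1, nat_lit 7, nat_lit 13],
   [nat_lit 8, nat_lit 14, nat_lit 2, nat_lit 1, nat_lit 14, nat_lit 9],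
   [nat_lit 12, nat_lit 1, nat_lit 7, nat_lit 2, nat_lit 12, nat_lit 7],
   [nat_lit 12, nat_lit 5, nat_lit 7, nat_lit 6, nat_lit 12, nat_lit 0],
   [nat_lit 0, nat_lit 12, nat_lit 6, nat_lit 7, nat_lit 5, nat_lit 12],
   [nat_lit 3, nat_lit 15, nat_lit 10, nat_lit 1, nat_lit 15, nat_lit 10],
   [nat_lit 7, nat_lit 12, nat_lit 0, nat_lit 12, nat_lit 6, nat_lit 3],
   [nat_lit 8, nat_lit 14, nat_lit 2, nat_lit 14, nat_lit 1, nat_lit 9],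
   [nat_lit 3, nat_lit 9, nat_lit 3, nat_lit 4, nat_lit 8, nat_lit 0],
   [nat_lit 10, nat_lit 14, nat_lit 12, nat_lit 5, nat_lit 12, nat_lit 14, nat_lit 10],
   [nat_lit 4, nat_lit 5, nat_lit 11, nat_lit 2, nat_lit 10, nat_lit 0, nat_lit 11],
   [nat_lit 7, nat_lit 15, nat_lit 1, nat_lit 4, nat_lit 7, nat_lit 15],
   [nat_lit 17],
   [nat_lit 10, nat_lit 5, nat_lit 10, nat_lit 4],
   [nat_lit 11, nat_lit 0, nat_lit 11, nat_lit 0, nat_lit 2, nat_lit 6, nat_lit 11, nat_lit 0, nat_lit 11],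
   [nat_lit 7, nat_lit 15, nat_lit 1, nat_lit 7, nat_lit 15, nat_lit 4],
   [nat_lit 12, nat_lit 6, nat_lit 5, nat_lit 7, nat_lit 12, nat_lit 0],
   [nat_lit 8, nat_lit 1, nat_lit 2, nat_lit 9, nat_lit 5],
   [nat_lit 4, nat_lit 12, nat_lit 4, nat_lit 12, nat_lit 3],
   [nat_lit 4, nat_lit 9, nat_lit 6, nat_lit 2, nat_lit 7, nat_lit 8],
   [nat_lit 6, nat_lit 8, nat_lit 2, nat_lit 9, nat_lit 2],
   [nat_lit 12, nat_lit 4, nat_lit 12, nat_lit 4, nat_lit 3],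
   [nat_lit 7, nat_lit 9, nat_lit 7, nat_lit 2, nat_lit 4, nat_lit 8],
   [nat_lit 7, nat_lit 1, nat_lit 10, nat_lit 0, nat_lit 10, nat_lit 3],
   [nat_lit 6, nat_lit 7, nat_lit 3, nat_lit 12, nat_lit 0, nat_lit 12],
   [nat_lit 7, nat_lit 3, nat_lit 1, nat_lit 10, nat_lit 0, nat_lit 10],
   [nat_lit 13, nat_lit 12, nat_lit 8, nat_lit 12, nat_lit 14, nat_lit 2, nat_lit 3, nat_lit 5, nat_lit 14, nat_lit 12, nat_lit 9, nat_lit 12, nat_lit 13],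
   [nat_lit 2, nat_lit 9, nat_lit 5, nat_lit 1, nat_lit 8],
   [nat_lit 5, nat_lit 8, nat_lit 1, nat_lit 2, nat_lit 9],
   [nat_lit 9, nat_lit 1, nat_lit 5, nat_lit 8, nat_lit 2],
   [nat_lit 6, nat_lit 14, nat_lit 9, nat_lit 2, nat_lit 8, nat_lit 14],
   [nat_lit 3, nat_lit 10, nat_lit 5, nat_lit 4, nat_lit 10],
   [nat_lit 15, nat_lit 10, nat_lit 3, nat_lit 1, nat_lit 15, nat_lit 10],
   [nat_lit 11, nat_lit 0, nat_lit 10, nat_lit 2, nat_lit 11, nat_lit 5, nat_lit 4],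
   [nat_lit 10, nat_lit 3, nat_lit 4, nat_lit 5, nat_lit 10],
   [nat_lit 5, nat_lit 15, nat_lit 2, nat_lit 15, nat_lit 2],
   [nat_lit 5, nat_lit 9, nat_lit 2, nat_lit 5, nat_lit 8],
   [nat_lit 4, nat_lit 3, nat_lit 12, nat_lit 4, nat_lit 12],
   [nat_lit 10, nat_lit 4, nat_lit 3, nat_lit 5, nat_lit 10],
   [nat_lit 3, nat_lit 4, nat_lit 12, nat_lit 4, nat_lit 12],
   [nat_lit 10, nat_lit 5, nat_lit 4, nat_lit 3, nat_lit 10],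
   [nat_lit 6, nat_lit 2, nat_lit 8, nat_lit 2, nat_lit 9],
   [nat_lit 2, nat_lit 6, nat_lit 8, nat_lit 2, nat_lit 9],
   [nat_lit 8, nat_lit 2, nat_lit 5, nat_lit 9, nat_lit 2],
   [nat_lit 9, nat_lit 6, nat_lit 5, nat_lit 2, nat_lit 8],
   [nat_lit 9, nat_lit 2, nat_lit 5, nat_lit 6, nat_lit 8],
   [nat_lit 9, nat_lit 2, nat_lit 6, nat_lit 5, nat_lit 8],
   [nat_lit 12, nat_lit 4, nat_lit 12, nat_lit 3, nat_lit 4],
   [nat_lit 9, nat_lit 6, nat_lit 2, nat_lit 5, nat_lit 8],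
   [nat_lit 9, nat_lit 5, nat_lit 6, nat_lit 2, nat_lit 8],
   [nat_lit 2, nat_lit 8, nat_lit 5, nat_lit 2, nat_lit 9],
   [nat_lit 10, nat_lit 5, nat_lit 3, nat_lit 4, nat_lit 10],
   [nat_lit 2, nat_lit 8, nat_lit 2, nat_lit 5, nat_lit 9],
   [nat_lit 10, nat_lit 4, nat_lit 5, nat_lit 10, nat_lit 3],
   [nat_lit 3, nat_lit 10, nat_lit 4, nat_lit 5, nat_lit 10],
   [nat_lit 8, nat_lit 6, nat_lit 5, nat_lit 2, nat_lit 1, nat_lit 9],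
   [nat_lit 0, nat_lit 12, nat_lit 5, nat_lit 6, nat_lit 7, nat_lit 12],
   [nat_lit 9, nat_lit 2, nat_lit 5, nat_lit 8, nat_lit 5],
   [nat_lit 8, nat_lit 2, nat_lit 9, nat_lit 2, nat_lit 6],
   [nat_lit 8, nat_lit 6, nat_lit 2, nat_lit 1, nat_lit 5, nat_lit 9],
   [nat_lit 13, nat_lit 10, nat_lit 6, nat_lit 10, nat_lit 13, nat_lit 2],
   [nat_lit 7, nat_lit 9, nat_lit 2, nat_lit 7, nat_lit 4, nat_lit 8],
   [nat_lit 2, nat_lit 8, nat_lit 2, nat_lit 9, nat_lit 6],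
   [nat_lit 9, nat_lit 5, nat_lit 2, nat_lit 6, nat_lit 8],
   [nat_lit 15, nat_lit 7, nat_lit 1, nat_lit 4, nat_lit 15, nat_lit 7],
   [nat_lit 0, nat_lit 10, nat_lit 9, nat_lit 4, nat_lit 8, nat_lit 10],
   [nat_lit 7, nat_lit 15, nat_lit 4, nat_lit 1, nat_lit 7, nat_lit 15],
   [nat_lit 12, nat_lit 5, nat_lit 6, nat_lit 7, nat_lit 12, nat_lit 0],
   [nat_lit 8, nat_lit 2, nat_lit 6, nat_lit 5, nat_lit 1, nat_lit 9],
   [nat_lit 8, nat_lit 5, nat_lit 2, nat_lit 1, nat_lit 6, nat_lit 9],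
   [nat_lit 12, nat_lit 1, nat_lit 2, nat_lit 7, nat_lit 12, nat_lit 7],
   [nat_lit 8, nat_lit 2, nat_lit 9, nat_lit 6, nat_lit 2],
   [nat_lit 7, nat_lit 10, nat_lit 5, nat_lit 4, nat_lit 0, nat_lit 10],
   [nat_lit 7, nat_lit 10, nat_lit 4, nat_lit 5, nat_lit 0, nat_lit 10],
   [nat_lit 7, nat_lit 13, nat_lit 1, nat_lit 9, nat_lit 13, nat_lit 8],
   [nat_lit 7, nat_lit 12, nat_lit 7, nat_lit 2, nat_lit 1, nat_lit 12],
   [nat_lit 8, nat_lit 2, nat_lit 4, nat_lit 1, nat_lit 9, nat_lit 7],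
   [nat_lit 8, nat_lit 1, nat_lit 5, nat_lit 6, nat_lit 2, nat_lit 9],
   [nat_lit 9, nat_lit 13, nat_lit 8, nat_lit 1, nat_lit 13, nat_lit 7],
   [nat_lit 0, nat_lit 12, nat_lit 5, nat_lit 7, nat_lit 6, nat_lit 12],
   [nat_lit 2, nat_lit 4, nat_lit 9, nat_lit 7, nat_lit 1, nat_lit 8],
   [nat_lit 7, nat_lit 12, nat_lit 2, nat_lit 7, nat_lit 1, nat_lit 12],
   [nat_lit 7, nat_lit 8, nat_lit 1, nat_lit 4, nat_lit 2, nat_lit 9],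
   [nat_lit 10, nat_lit 0, nat_lit 3, nat_lit 10, nat_lit 1, nat_lit 7],
   [nat_lit 10, nat_lit 0, nat_lit 5, nat_lit 4, nat_lit 10, nat_lit 7],
   [nat_lit 10, nat_lit 1, nat_lit 5, nat_lit 3, nat_lit 10, nat_lit 5],
   [nat_lit 15, nat_lit 6, nat_lit 2, nat_lit 15, nat_lit 6, nat_lit 2],
   [nat_lit 7, nat_lit 4, nat_lit 1, nat_lit 2, nat_lit 4, nat_lit 2, nat_lit 7],
   [nat_lit 10, nat_lit 3, nat_lit 1, nat_lit 5, nat_lit 10, nat_lit 5],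
   [nat_lit 15, nat_lit 7, nat_lit 4, nat_lit 1, nat_lit 15, nat_lit 7],
   [nat_lit 3, nat_lit 10, nat_lit 0, nat_lit 10, nat_lit 1, nat_lit 7],
   [nat_lit 6, nat_lit 12, nat_lit 0, nat_lit 12, nat_lit 7, nat_lit 3],
   [nat_lit 6, nat_lit 12, nat_lit 0, nat_lit 12, nat_lit 3, nat_lit 7],
   [nat_lit 12, nat_lit 0, nat_lit 12, nat_lit 7, nat_lit 3, nat_lit 6],
   [nat_lit 6, nat_lit 3, nat_lit 7, nat_lit 12, nat_lit 0, nat_lit 12],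
   [nat_lit 12, nat_lit 0, nat_lit 12, nat_lit 3, nat_lit 7, nat_lit 6],
   [nat_lit 4, nat_lit 5, nat_lit 9, nat_lit 2, nat_lit 7, nat_lit 8],
   [nat_lit 2, nat_lit 15, nat_lit 2, nat_lit 15, nat_lit 5],
   [nat_lit 4, nat_lit 0, nat_lit 10, nat_lit 5, nat_lit 10, nat_lit 0],
   [nat_lit 7, nat_lit 1, nat_lit 10, nat_lit 3, nat_lit 0, nat_lit 10],
   [nat_lit 0, nat_lit 8, nat_lit 3, nat_lit 4, nat_lit 9, nat_lit 4],
   [nat_lit 8, nat_lit 3, nat_lit 11, nat_lit 4, nat_lit 2, nat_lit 12, nat_lit 9, nat_lit 10, nat_lit 12, nat_lit 11],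
   [nat_lit 11, nat_lit 12, nat_lit 8, nat_lit 11, nat_lit 2, nat_lit 1, nat_lit 11, nat_lit 12, nat_lit 8, nat_lit 11, nat_lit 12],
   [nat_lit 6, nat_lit 14, nat_lit 11, nat_lit 12, nat_lit 9, nat_lit 11, nat_lit 2, nat_lit 11, nat_lit 8, nat_lit 12, nat_lit 11, nat_lit 14],
   [nat_lit 4, nat_lit 15, nat_lit 10, nat_lit 15, nat_lit 10, nat_lit 5],
   [nat_lit 13, nat_lit 12, nat_lit 8, nat_lit 12, nat_lit 14, nat_lit 5, nat_lit 3, nat_lit 2, nat_lit 14, nat_lit 12, nat_lit 9, nat_lit 12, nat_lit 13],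
   [nat_lit 8, nat_lit 11, nat_lit 9, nat_lit 14, nat_lit 11, nat_lit 15, nat_lit 0, nat_lit 9, nat_lit 10, nat_lit 0, nat_lit 15, nat_lit 11, nat_lit 1, nat_lit 2, nat_lit 14, nat_lit 11],
   [nat_lit 9, nat_lit 2, nat_lit 7, nat_lit 6, nat_lit 8, nat_lit 4],
   [nat_lit 12, nat_lit 2, nat_lit 1, nat_lit 7, nat_lit 12, nat_lit 7],
   [nat_lit 8, nat_lit 5, nat_lit 1, nat_lit 2, nat_lit 6, nat_lit 9],
   [nat_lit 8, nat_lit 1, nat_lit 2, nat_lit 5, nat_lit 6, nat_lit 9],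
   [nat_lit 5, nat_lit 10, nat_lit 5, nat_lit 1, nat_lit 10, nat_lit 3],
   [nat_lit 10, nat_lit 0, nat_lit 4, nat_lit 5, nat_lit 10, nat_lit 7],
   [nat_lit 8, nat_lit 6, nat_lit 1, nat_lit 2, nat_lit 5, nat_lit 9],
   [nat_lit 15, nat_lit 6, nat_lit 2, nat_lit 15, nat_lit 2, nat_lit 6],
   [nat_lit 15, nat_lit 7, nat_lit 1, nat_lit 15, nat_lit 7, nat_lit 4],
   [nat_lit 10, nat_lit 9, nat_lit 4, nat_lit 8, nat_lit 10, nat_lit 0],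
   [nat_lit 13, nat_lit 7, nat_lit 1, nat_lit 9, nat_lit 13, nat_lit 8],
   [nat_lit 7, nat_lit 6, nat_lit 3, nat_lit 12, nat_lit 0, nat_lit 12],
   [nat_lit 11, nat_lit 0, nat_lit 11, nat_lit 6, nat_lit 2, nat_lit 0, nat_lit 11, nat_lit 0, nat_lit 11],
   [nat_lit 0, nat_lit 2, nat_lit 14, nat_lit 11, nat_lit 0, nat_lit 2, nat_lit 10, nat_lit 11, nat_lit 14],
   [nat_lit 6, nat_lit 9, nat_lit 1, nat_lit 8, nat_lit 5, nat_lit 2],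
   [nat_lit 11, nat_lit 12, nat_lit 10, nat_lit 8, nat_lit 12, nat_lit 2, nat_lit 4, nat_lit 11, nat_lit 3, nat_lit 9],
   [nat_lit 15, nat_lit 2, nat_lit 5, nat_lit 15, nat_lit 2],
   [nat_lit 7, nat_lit 1, nat_lit 10, nat_lit 0, nat_lit 3, nat_lit 10],
   [nat_lit 12, nat_lit 7, nat_lit 6, nat_lit 5, nat_lit 12, nat_lit 0],
   [nat_lit 9, nat_lit 4, nat_lit 2, nat_lit 7, nat_lit 8, nat_lit 7],
   [nat_lit 3, nat_lit 7, nat_lit 1, nat_lit 10, nat_lit 0, nat_lit 10],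
   [nat_lit 14, nat_lit 10, nat_lit 5, nat_lit 10, nat_lit 14, nat_lit 4],
   [nat_lit 12, nat_lit 5, nat_lit 0, nat_lit 12, nat_lit 7, nat_lit 6],
   [nat_lit 6, nat_lit 12, nat_lit 5, nat_lit 0, nat_lit 12, nat_lit 7],
   [nat_lit 14, nat_lit 12, nat_lit 14, nat_lit 11, nat_lit 14, nat_lit 12, nat_lit 14, nat_lit 2, nat_lit 4, nat_lit 11, nat_lit 8, nat_lit 7],
   [nat_lit 0, nat_lit 12, nat_lit 7, nat_lit 6, nat_lit 5, nat_lit 12],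
   [nat_lit 13, nat_lit 12, nat_lit 14, nat_lit 3, nat_lit 14, nat_lit 12, nat_lit 6, nat_lit 11, nat_lit 14, nat_lit 13, nat_lit 14, nat_lit 11],
   [nat_lit 9, nat_lit 3, nat_lit 4, nat_lit 8, nat_lit 0, nat_lit 3],
   [nat_lit 4, nat_lit 0, nat_lit 8, nat_lit 4, nat_lit 3, nat_lit 9],
   [nat_lit 5, nat_lit 4, nat_lit 9, nat_lit 2, nat_lit 7, nat_lit 8],
   [nat_lit 14, nat_lit 9, nat_lit 1, nat_lit 8, nat_lit 14, nat_lit 2],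
   [nat_lit 9, nat_lit 5, nat_lit 2, nat_lit 8, nat_lit 5],
   [nat_lit 3, nat_lit 0, nat_lit 9, nat_lit 4, nat_lit 3, nat_lit 8],
   [nat_lit 5, nat_lit 10, nat_lit 3, nat_lit 5, nat_lit 1, nat_lit 10],
   [nat_lit 10, nat_lit 4, nat_lit 0, nat_lit 5, nat_lit 10, nat_lit 7],
   [nat_lit 7, nat_lit 12, nat_lit 7, nat_lit 1, nat_lit 2, nat_lit 12],
   [nat_lit 9, nat_lit 3, nat_lit 4, nat_lit 8, nat_lit 3, nat_lit 0],
   [nat_lit 10, nat_lit 5, nat_lit 4, nat_lit 10, nat_lit 3],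
   [nat_lit 12, nat_lit 11, nat_lit 9, nat_lit 12, nat_lit 11, nat_lit 1, nat_lit 2, nat_lit 11, nat_lit 9, nat_lit 12, nat_lit 11],
   [nat_lit 9, nat_lit 1, nat_lit 7, nat_lit 8, nat_lit 4, nat_lit 2],
   [nat_lit 11, nat_lit 3, nat_lit 11, nat_lit 4, nat_lit 9, nat_lit 10, nat_lit 8, nat_lit 5],
   [nat_lit 15, nat_lit 10, nat_lit 15, nat_lit 1, nat_lit 3, nat_lit 10],
   [nat_lit 8, nat_lit 1, nat_lit 2, nat_lit 4, nat_lit 9, nat_lit 7],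
   [nat_lit 7, nat_lit 12, nat_lit 0, nat_lit 5, nat_lit 12, nat_lit 6],
   [nat_lit 10, nat_lit 0, nat_lit 10, nat_lit 1, nat_lit 7, nat_lit 3],
   [nat_lit 13, nat_lit 10, nat_lit 12, nat_lit 14, nat_lit 1, nat_lit 2, nat_lit 10, nat_lit 7, nat_lit 10, nat_lit 14, nat_lit 12, nat_lit 10, nat_lit 13],
   [nat_lit 15, nat_lit 9, nat_lit 2, nat_lit 15, nat_lit 6, nat_lit 9],
   [nat_lit 7, nat_lit 9, nat_lit 11, nat_lit 4, nat_lit 2, nat_lit 14, nat_lit 12, nat_lit 14, nat_lit 11, nat_lit 14, nat_lit 12, nat_lit 14],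
   [nat_lit 13, nat_lit 10, nat_lit 12, nat_lit 14, nat_lit 10, nat_lit 7, nat_lit 10, nat_lit 2, nat_lit 1, nat_lit 14, nat_lit 12, nat_lit 10, nat_lit 13],
   [nat_lit 4, nat_lit 7, nat_lit 1, nat_lit 15, nat_lit 7, nat_lit 15],
   [nat_lit 10, nat_lit 15, nat_lit 1, nat_lit 3, nat_lit 10, nat_lit 15],
   [nat_lit 10, nat_lit 3, nat_lit 0, nat_lit 10, nat_lit 1, nat_lit 7],
   [nat_lit 4, nat_lit 0, nat_lit 8, nat_lit 3, nat_lit 4, nat_lit 9],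
   [nat_lit 7, nat_lit 1, nat_lit 3, nat_lit 10, nat_lit 0, nat_lit 10],
   [nat_lit 4, nat_lit 5, nat_lit 9, nat_lit 7, nat_lit 2, nat_lit 8],
   [nat_lit 3, nat_lit 0, nat_lit 9, nat_lit 3, nat_lit 4, nat_lit 8],
   [nat_lit 9, nat_lit 7, nat_lit 2, nat_lit 8, nat_lit 4, nat_lit 5],
   [nat_lit 0, nat_lit 9, nat_lit 2, nat_lit 8, nat_lit 0, nat_lit 6],
   [nat_lit 4, nat_lit 2, nat_lit 9, nat_lit 1, nat_lit 7, nat_lit 8],
   [nat_lit 15, nat_lit 12, nat_lit 11, nat_lit 8, nat_lit 0, nat_lit 11, nat_lit 0, nat_lit 9, nat_lit 11, nat_lit 12, nat_lit 15],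
   [nat_lit 9, nat_lit 7, nat_lit 4, nat_lit 2, nat_lit 8, nat_lit 7],
   [nat_lit 5, nat_lit 3, nat_lit 10, nat_lit 5, nat_lit 1, nat_lit 10],
   [nat_lit 7, nat_lit 8, nat_lit 4, nat_lit 2, nat_lit 1, nat_lit 9],
   [nat_lit 8, nat_lit 7, nat_lit 9, nat_lit 2, nat_lit 10, nat_lit 6, nat_lit 10],
   [nat_lit 9, nat_lit 7, nat_lit 2, nat_lit 8, nat_lit 5, nat_lit 4],
   [nat_lit 9, nat_lit 7, nat_lit 1, nat_lit 8, nat_lit 2, nat_lit 4],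
   [nat_lit 10, nat_lit 0, nat_lit 10, nat_lit 3, nat_lit 1, nat_lit 7],
   [nat_lit 11, nat_lit 14, nat_lit 2, nat_lit 1, nat_lit 11, nat_lit 15, nat_lit 0, nat_lit 10, nat_lit 8, nat_lit 0, nat_lit 15, nat_lit 11, nat_lit 14, nat_lit 8, nat_lit 11, nat_lit 9],
   [nat_lit 7, nat_lit 4, nat_lit 1, nat_lit 15, nat_lit 7, nat_lit 15],
   [nat_lit 0, nat_lit 4, nat_lit 8, nat_lit 4, nat_lit 3, nat_lit 9],
   [nat_lit 4, nat_lit 8, nat_lit 3, nat_lit 4, nat_lit 9, nat_lit 0],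
   [nat_lit 7, nat_lit 9, nat_lit 2, nat_lit 4, nat_lit 7, nat_lit 8],
   [nat_lit 9, nat_lit 4, nat_lit 3, nat_lit 8, nat_lit 3, nat_lit 0],
   [nat_lit 0, nat_lit 10, nat_lit 5, nat_lit 10, nat_lit 0, nat_lit 4],
   [nat_lit 8, nat_lit 1, nat_lit 14, nat_lit 2, nat_lit 14, nat_lit 9],
   [nat_lit 14, nat_lit 9, nat_lit 2, nat_lit 8, nat_lit 14, nat_lit 6],
   [nat_lit 8, nat_lit 3, nat_lit 4, nat_lit 9, nat_lit 4, nat_lit 0],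
   [nat_lit 15, nat_lit 10, nat_lit 1, nat_lit 3, nat_lit 15, nat_lit 10],
   [nat_lit 12, nat_lit 1, nat_lit 7, nat_lit 12, nat_lit 2, nat_lit 7],
   [nat_lit 7, nat_lit 12, nat_lit 7, nat_lit 1, nat_lit 12, nat_lit 2],
   [nat_lit 8, nat_lit 3, nat_lit 4, nat_lit 9, nat_lit 0, nat_lit 4],
   [nat_lit 3, nat_lit 7, nat_lit 12, nat_lit 0, nat_lit 12, nat_lit 6],
   [nat_lit 12, nat_lit 5, nat_lit 0, nat_lit 12, nat_lit 6, nat_lit 7],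
   [nat_lit 7, nat_lit 6, nat_lit 12, nat_lit 0, nat_lit 5, nat_lit 12],
   [nat_lit 7, nat_lit 2, nat_lit 12, nat_lit 7, nat_lit 1, nat_lit 12],
   [nat_lit 15, nat_lit 2, nat_lit 15, nat_lit 5, nat_lit 2],
   [nat_lit 5, nat_lit 10, nat_lit 5, nat_lit 1, nat_lit 3, nat_lit 10],
   [nat_lit 2, nat_lit 5, nat_lit 9, nat_lit 1, nat_lit 8, nat_lit 6],
   [nat_lit 10, nat_lit 3, nat_lit 1, nat_lit 15, nat_lit 10, nat_lit 15],
   [nat_lit 12, nat_lit 0, nat_lit 12, nat_lit 3, nat_lit 6, nat_lit 7],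
   [nat_lit 2, nat_lit 7, nat_lit 12, nat_lit 7, nat_lit 1, nat_lit 12],
   [nat_lit 12, nat_lit 1, nat_lit 7, nat_lit 12, nat_lit 7, nat_lit 2],
   [nat_lit 4, nat_lit 8, nat_lit 4, nat_lit 3, nat_lit 9, nat_lit 0],
   [nat_lit 4, nat_lit 9, nat_lit 6, nat_lit 7, nat_lit 2, nat_lit 8],
   [nat_lit 10, nat_lit 0, nat_lit 10, nat_lit 1, nat_lit 3, nat_lit 7],
   [nat_lit 0, nat_lit 3, nat_lit 9, nat_lit 4, nat_lit 3, nat_lit 8],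
   [nat_lit 7, nat_lit 2, nat_lit 4, nat_lit 2, nat_lit 1, nat_lit 4, nat_lit 7],
   [nat_lit 0, nat_lit 3, nat_lit 9, nat_lit 3, nat_lit 4, nat_lit 8],
   [nat_lit 6, nat_lit 0, nat_lit 9, nat_lit 2, nat_lit 8, nat_lit 0],
   [nat_lit 9, nat_lit 1, nat_lit 8, nat_lit 14, nat_lit 2, nat_lit 14],
   [nat_lit 15, nat_lit 7, nat_lit 15, nat_lit 1, nat_lit 7, nat_lit 4],
   [nat_lit 15, nat_lit 7, nat_lit 15, nat_lit 1, nat_lit 4, nat_lit 7],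
   [nat_lit 4, nat_lit 14, nat_lit 10, nat_lit 5, nat_lit 10, nat_lit 14],
   [nat_lit 6, nat_lit 10, nat_lit 5, nat_lit 10, nat_lit 6, nat_lit 4],
   [nat_lit 5, nat_lit 9, nat_lit 10, nat_lit 8, nat_lit 4, nat_lit 11, nat_lit 3, nat_lit 11],
   [nat_lit 10, nat_lit 15, nat_lit 10, nat_lit 15, nat_lit 5, nat_lit 4],
   [nat_lit 5, nat_lit 15, nat_lit 4, nat_lit 10, nat_lit 15, nat_lit 10],
   [nat_lit 10, nat_lit 1, nat_lit 5, nat_lit 10, nat_lit 3, nat_lit 5],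
   [nat_lit 2, nat_lit 4, nat_lit 2, nat_lit 7, nat_lit 1, nat_lit 7, nat_lit 4],
   [nat_lit 14, nat_lit 2, nat_lit 14, nat_lit 9, nat_lit 1, nat_lit 8],
   [nat_lit 14, nat_lit 11, nat_lit 10, nat_lit 2, nat_lit 0, nat_lit 11, nat_lit 14, nat_lit 2, nat_lit 0],
   [nat_lit 7, nat_lit 3, nat_lit 12, nat_lit 0, nat_lit 12, nat_lit 6],
   [nat_lit 8, nat_lit 6, nat_lit 15, nat_lit 2, nat_lit 8, nat_lit 15],
   [nat_lit 7, nat_lit 1, nat_lit 4, nat_lit 15, nat_lit 7, nat_lit 15],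
   [nat_lit 10, nat_lit 15, nat_lit 1, nat_lit 10, nat_lit 15, nat_lit 3],
   [nat_lit 0, nat_lit 9, nat_lit 4, nat_lit 3, nat_lit 8, nat_lit 3],
   [nat_lit 5, nat_lit 9, nat_lit 5, nat_lit 2, nat_lit 8],
   [nat_lit 9, nat_lit 2, nat_lit 7, nat_lit 8, nat_lit 5, nat_lit 4],
   [nat_lit 2, nat_lit 5, nat_lit 8, nat_lit 2, nat_lit 6, nat_lit 9],
   [nat_lit 9, nat_lit 1, nat_lit 8, nat_lit 6, nat_lit 5, nat_lit 2],
   [nat_lit 4, nat_lit 10, nat_lit 15, nat_lit 10, nat_lit 15, nat_lit 5],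
   [nat_lit 4, nat_lit 15, nat_lit 7, nat_lit 15, nat_lit 1, nat_lit 7]],
  [[nat_lit 6, nat_lit 2, nat_lit 6],
   [nat_lit 12, nat_lit 2, nat_lit 12],
   [nat_lit 5, nat_lit 2, nat_lit 5],
   [nat_lit 3, nat_lit 2, nat_lit 3],
   [nat_lit 0, nat_lit 2, nat_lit 0],
   [nat_lit 1, nat_lit 2, nat_lit 1],
   [nat_lit 7, nat_lit 2, nat_lit 7],
   [nat_lit 8, nat_lit 1, nat_lit 6, nat_lit 9],
   [nat_lit 7, nat_lit 13, nat_lit 2, nat_lit 13],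
   [nat_lit 8, nat_lit 6, nat_lit 1, nat_lit 9],
   [nat_lit 13, nat_lit 2, nat_lit 13, nat_lit 7],
   [nat_lit 13, nat_lit 7, nat_lit 2, nat_lit 13],
   [nat_lit 14, nat_lit 8, nat_lit 1, nat_lit 9, nat_lit 14],
   [nat_lit 7, nat_lit 10, nat_lit 2, nat_lit 7, nat_lit 10],
   [nat_lit 14, nat_lit 2, nat_lit 14, nat_lit 6, nat_lit 5],
   [nat_lit 14, nat_lit 2, nat_lit 5, nat_lit 14, nat_lit 6],
   [nat_lit 14, nat_lit 6, nat_lit 2, nat_lit 5, nat_lit 14],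
   [nat_lit 14, nat_lit 5, nat_lit 2, nat_lit 6, nat_lit 14],
   [nat_lit 1, nat_lit 9, nat_lit 1, nat_lit 5, nat_lit 8],
   [nat_lit 1, nat_lit 9, nat_lit 5, nat_lit 1, nat_lit 8],
   [nat_lit 15, nat_lit 2, nat_lit 1, nat_lit 5, nat_lit 15],
   [nat_lit 9, nat_lit 5, nat_lit 1, nat_lit 8, nat_lit 1],
   [nat_lit 9, nat_lit 6, nat_lit 1, nat_lit 2, nat_lit 8],
   [nat_lit 15, nat_lit 5, nat_lit 1, nat_lit 2, nat_lit 15],
   [nat_lit 9, nat_lit 2, nat_lit 1, nat_lit 8, nat_lit 5],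
   [nat_lit 8, nat_lit 5, nat_lit 2, nat_lit 9, nat_lit 1],
   [nat_lit 14, nat_lit 2, nat_lit 5, nat_lit 6, nat_lit 14],
   [nat_lit 5, nat_lit 15, nat_lit 2, nat_lit 15, nat_lit 1],
   [nat_lit 15, nat_lit 2, nat_lit 15, nat_lit 5, nat_lit 1],
   [nat_lit 9, nat_lit 2, nat_lit 1, nat_lit 6, nat_lit 8],
   [nat_lit 9, nat_lit 1, nat_lit 6, nat_lit 2, nat_lit 8],
   [nat_lit 1, nat_lit 15, nat_lit 2, nat_lit 5, nat_lit 15],
   [nat_lit 1, nat_lit 5, nat_lit 15, nat_lit 2, nat_lit 15],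
   [nat_lit 14, nat_lit 6, nat_lit 5, nat_lit 2, nat_lit 14],
   [nat_lit 5, nat_lit 15, nat_lit 2, nat_lit 1, nat_lit 15],
   [nat_lit 1, nat_lit 13, nat_lit 10, nat_lit 6, nat_lit 10, nat_lit 13],
   [nat_lit 1, nat_lit 14, nat_lit 9, nat_lit 1, nat_lit 8, nat_lit 14],
   [nat_lit 4, nat_lit 7, nat_lit 8, nat_lit 1, nat_lit 7, nat_lit 9],
   [nat_lit 7, nat_lit 1, nat_lit 12, nat_lit 1, nat_lit 7, nat_lit 12],
   [nat_lit 6, nat_lit 15, nat_lit 2, nat_lit 6, nat_lit 15, nat_lit 1],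
   [nat_lit 14, nat_lit 1, nat_lit 9, nat_lit 1, nat_lit 8, nat_lit 14],
   [nat_lit 10, nat_lit 11, nat_lit 14, nat_lit 1, nat_lit 0, nat_lit 2, nat_lit 14, nat_lit 11, nat_lit 0],
   [nat_lit 17],
   [nat_lit 11, nat_lit 0, nat_lit 11, nat_lit 2, nat_lit 11, nat_lit 0, nat_lit 11],
   [nat_lit 11, nat_lit 2, nat_lit 11, nat_lit 2, nat_lit 11, nat_lit 2, nat_lit 11],
   [nat_lit 9, nat_lit 6, nat_lit 2, nat_lit 1, nat_lit 8],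
   [nat_lit 13, nat_lit 2, nat_lit 7, nat_lit 13],
   [nat_lit 10, nat_lit 2, nat_lit 7, nat_lit 10, nat_lit 7],
   [nat_lit 15, nat_lit 5, nat_lit 2, nat_lit 1, nat_lit 15],
   [nat_lit 4, nat_lit 1, nat_lit 9, nat_lit 7, nat_lit 1, nat_lit 8],
   [nat_lit 0, nat_lit 10, nat_lit 2, nat_lit 0, nat_lit 10],
   [nat_lit 0, nat_lit 10, nat_lit 0, nat_lit 2, nat_lit 10],
   [nat_lit 7, nat_lit 10, nat_lit 7, nat_lit 2, nat_lit 10],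
   [nat_lit 5, nat_lit 8, nat_lit 5, nat_lit 1, nat_lit 9],
   [nat_lit 1, nat_lit 15, nat_lit 2, nat_lit 15, nat_lit 5],
   [nat_lit 8, nat_lit 0, nat_lit 6, nat_lit 1, nat_lit 0, nat_lit 9],
   [nat_lit 8, nat_lit 0, nat_lit 1, nat_lit 6, nat_lit 0, nat_lit 9],
   [nat_lit 10, nat_lit 0, nat_lit 2, nat_lit 10, nat_lit 0],
   [nat_lit 5, nat_lit 9, nat_lit 1, nat_lit 2, nat_lit 8],
   [nat_lit 4, nat_lit 0, nat_lit 11, nat_lit 14, nat_lit 7, nat_lit 3, nat_lit 6, nat_lit 5, nat_lit 0, nat_lit 14, nat_lit 11, nat_lit 4],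
   [nat_lit 11, nat_lit 8, nat_lit 12, nat_lit 11, nat_lit 14, nat_lit 6, nat_lit 1, nat_lit 14, nat_lit 11, nat_lit 12, nat_lit 9, nat_lit 11],
   [nat_lit 11, nat_lit 8, nat_lit 12, nat_lit 11, nat_lit 14, nat_lit 1, nat_lit 6, nat_lit 14, nat_lit 11, nat_lit 12, nat_lit 9, nat_lit 11],
   [nat_lit 10, nat_lit 14, nat_lit 2, nat_lit 11, nat_lit 14, nat_lit 5, nat_lit 4, nat_lit 2, nat_lit 0, nat_lit 14, nat_lit 11, nat_lit 14, nat_lit 10],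
   [nat_lit 10, nat_lit 11, nat_lit 12, nat_lit 10, nat_lit 14, nat_lit 3, nat_lit 6, nat_lit 3, nat_lit 14, nat_lit 10, nat_lit 12, nat_lit 11, nat_lit 0],
   [nat_lit 8, nat_lit 2, nat_lit 8, nat_lit 2, nat_lit 8],
   [nat_lit 9, nat_lit 1, nat_lit 5, nat_lit 8, nat_lit 1],
   [nat_lit 6, nat_lit 8, nat_lit 2, nat_lit 9, nat_lit 1],
   [nat_lit 6, nat_lit 15, nat_lit 1, nat_lit 6, nat_lit 2, nat_lit 15],
   [nat_lit 8, nat_lit 2, nat_lit 5, nat_lit 9, nat_lit 1],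
   [nat_lit 0, nat_lit 4, nat_lit 5, nat_lit 0, nat_lit 5, nat_lit 2, nat_lit 4],
   [nat_lit 1, nat_lit 6, nat_lit 8, nat_lit 2, nat_lit 9],
   [nat_lit 15, nat_lit 1, nat_lit 2, nat_lit 5, nat_lit 15],
   [nat_lit 5, nat_lit 8, nat_lit 1, nat_lit 5, nat_lit 9],
   [nat_lit 8, nat_lit 2, nat_lit 9, nat_lit 1, nat_lit 6],
   [nat_lit 5, nat_lit 9, nat_lit 2, nat_lit 1, nat_lit 8],
   [nat_lit 15, nat_lit 1, nat_lit 2, nat_lit 15, nat_lit 5],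
   [nat_lit 15, nat_lit 5, nat_lit 2, nat_lit 15, nat_lit 1],
   [nat_lit 10, nat_lit 2, nat_lit 0, nat_lit 10, nat_lit 0],
   [nat_lit 1, nat_lit 8, nat_lit 2, nat_lit 5, nat_lit 9],
   [nat_lit 10, nat_lit 7, nat_lit 2, nat_lit 10, nat_lit 7],
   [nat_lit 9, nat_lit 1, nat_lit 2, nat_lit 8, nat_lit 5],
   [nat_lit 6, nat_lit 14, nat_lit 5, nat_lit 2, nat_lit 14],
   [nat_lit 3, nat_lit 13, nat_lit 2, nat_lit 3, nat_lit 13],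
   [nat_lit 9, nat_lit 2, nat_lit 6, nat_lit 1, nat_lit 8],
   [nat_lit 9, nat_lit 1, nat_lit 2, nat_lit 6, nat_lit 8],
   [nat_lit 5, nat_lit 14, nat_lit 6, nat_lit 2, nat_lit 14],
   [nat_lit 1, nat_lit 8, nat_lit 5, nat_lit 2, nat_lit 9],
   [nat_lit 14, nat_lit 2, nat_lit 6, nat_lit 14, nat_lit 5],
   [nat_lit 5, nat_lit 8, nat_lit 1, nat_lit 9, nat_lit 6],
   [nat_lit 6, nat_lit 14, nat_lit 2, nat_lit 14, nat_lit 5],
   [nat_lit 1, nat_lit 8, nat_lit 2, nat_lit 9, nat_lit 6],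
   [nat_lit 13, nat_lit 2, nat_lit 0, nat_lit 13, nat_lit 0],
   [nat_lit 0, nat_lit 13, nat_lit 2, nat_lit 0, nat_lit 13],
   [nat_lit 13, nat_lit 0, nat_lit 2, nat_lit 13, nat_lit 0],
   [nat_lit 8, nat_lit 1, nat_lit 5, nat_lit 9, nat_lit 5],
   [nat_lit 1, nat_lit 12, nat_lit 1, nat_lit 7, nat_lit 12, nat_lit 7],
   [nat_lit 9, nat_lit 2, nat_lit 9, nat_lit 2, nat_lit 9],
   [nat_lit 4, nat_lit 9, nat_lit 7, nat_lit 1, nat_lit 8, nat_lit 1],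
   [nat_lit 6, nat_lit 8, nat_lit 1, nat_lit 9, nat_lit 5],
   [nat_lit 8, nat_lit 14, nat_lit 1, nat_lit 6, nat_lit 14, nat_lit 9],
   [nat_lit 12, nat_lit 1, nat_lit 7, nat_lit 12, nat_lit 7, nat_lit 1],
   [nat_lit 5, nat_lit 8, nat_lit 2, nat_lit 6, nat_lit 9, nat_lit 1],
   [nat_lit 13, nat_lit 10, nat_lit 6, nat_lit 10, nat_lit 13, nat_lit 1],
   [nat_lit 11, nat_lit 5, nat_lit 4, nat_lit 1, nat_lit 11, nat_lit 0, nat_lit 10],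
   [nat_lit 10, nat_lit 0, nat_lit 11, nat_lit 1, nat_lit 4, nat_lit 5, nat_lit 11],
   [nat_lit 7, nat_lit 12, nat_lit 7, nat_lit 1, nat_lit 12, nat_lit 1],
   [nat_lit 7, nat_lit 8, nat_lit 1, nat_lit 4, nat_lit 5, nat_lit 9],
   [nat_lit 8, nat_lit 1, nat_lit 4, nat_lit 5, nat_lit 9, nat_lit 7],
   [nat_lit 8, nat_lit 5, nat_lit 1, nat_lit 9, nat_lit 5],
   [nat_lit 5, nat_lit 6, nat_lit 14, nat_lit 2, nat_lit 14],
   [nat_lit 1, nat_lit 7, nat_lit 12, nat_lit 7, nat_lit 1, nat_lit 12],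
   [nat_lit 14, nat_lit 9, nat_lit 1, nat_lit 8, nat_lit 1, nat_lit 14],
   [nat_lit 7, nat_lit 8, nat_lit 5, nat_lit 4, nat_lit 1, nat_lit 9],
   [nat_lit 11, nat_lit 12, nat_lit 3, nat_lit 7, nat_lit 12, nat_lit 11, nat_lit 7, nat_lit 3],
   [nat_lit 3, nat_lit 7, nat_lit 11, nat_lit 12, nat_lit 7, nat_lit 3, nat_lit 12, nat_lit 11],
   [nat_lit 4, nat_lit 6, nat_lit 3, nat_lit 6, nat_lit 2, nat_lit 4, nat_lit 3],
   [nat_lit 1, nat_lit 4, nat_lit 7, nat_lit 1, nat_lit 7, nat_lit 2, nat_lit 4],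
   [nat_lit 0, nat_lit 11, nat_lit 14, nat_lit 2, nat_lit 0, nat_lit 1, nat_lit 14, nat_lit 11, nat_lit 10],
   [nat_lit 4, nat_lit 2, nat_lit 5, nat_lit 0, nat_lit 5, nat_lit 4, nat_lit 0],
   [nat_lit 11, nat_lit 2, nat_lit 11, nat_lit 5, nat_lit 11, nat_lit 2, nat_lit 11, nat_lit 5],
   [nat_lit 11, nat_lit 2, nat_lit 5, nat_lit 11, nat_lit 2, nat_lit 11, nat_lit 5, nat_lit 11],
   [nat_lit 0, nat_lit 1, nat_lit 14, nat_lit 11, nat_lit 10, nat_lit 2, nat_lit 0, nat_lit 11, nat_lit 14],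
   [nat_lit 5, nat_lit 6, nat_lit 8, nat_lit 1, nat_lit 9],
   [nat_lit 14, nat_lit 11, nat_lit 0, nat_lit 2, nat_lit 10, nat_lit 11, nat_lit 14, nat_lit 1, nat_lit 0],
   [nat_lit 10, nat_lit 11, nat_lit 10, nat_lit 14, nat_lit 2, nat_lit 1, nat_lit 0, nat_lit 14, nat_lit 10, nat_lit 11, nat_lit 0],
   [nat_lit 0, nat_lit 11, nat_lit 10, nat_lit 14, nat_lit 0, nat_lit 1, nat_lit 2, nat_lit 14, nat_lit 10, nat_lit 11, nat_lit 10],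
   [nat_lit 11, nat_lit 5, nat_lit 2, nat_lit 11, nat_lit 2, nat_lit 11, nat_lit 5, nat_lit 11],
   [nat_lit 4, nat_lit 11, nat_lit 14, nat_lit 0, nat_lit 5, nat_lit 6, nat_lit 3, nat_lit 7, nat_lit 14, nat_lit 11, nat_lit 0, nat_lit 4],
   [nat_lit 4, nat_lit 2, nat_lit 7, nat_lit 1, nat_lit 7, nat_lit 4, nat_lit 1],
   [nat_lit 0, nat_lit 13, nat_lit 0, nat_lit 2, nat_lit 13],
   [nat_lit 14, nat_lit 12, nat_lit 14, nat_lit 11, nat_lit 14, nat_lit 12, nat_lit 14, nat_lit 1, nat_lit 7, nat_lit 9, nat_lit 11, nat_lit 4],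
   [nat_lit 10, nat_lit 14, nat_lit 11, nat_lit 14, nat_lit 0, nat_lit 2, nat_lit 4, nat_lit 5, nat_lit 14, nat_lit 11, nat_lit 2, nat_lit 14, nat_lit 10],
   [nat_lit 0, nat_lit 11, nat_lit 12, nat_lit 10, nat_lit 14, nat_lit 3, nat_lit 6, nat_lit 3, nat_lit 14, nat_lit 10, nat_lit 12, nat_lit 11, nat_lit 10],
   [nat_lit 6, nat_lit 5, nat_lit 8, nat_lit 1, nat_lit 9],
   [nat_lit 8, nat_lit 14, nat_lit 6, nat_lit 1, nat_lit 14, nat_lit 9],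
   [nat_lit 6, nat_lit 15, nat_lit 1, nat_lit 2, nat_lit 6, nat_lit 15],
   [nat_lit 3, nat_lit 4, nat_lit 2, nat_lit 6, nat_lit 3, nat_lit 6, nat_lit 4],
   [nat_lit 4, nat_lit 2, nat_lit 1, nat_lit 4, nat_lit 7, nat_lit 1, nat_lit 7],
   [nat_lit 7, nat_lit 1, nat_lit 7, nat_lit 4, nat_lit 1, nat_lit 2, nat_lit 4],
   [nat_lit 6, nat_lit 3, nat_lit 6, nat_lit 4, nat_lit 2, nat_lit 3, nat_lit 4],
   [nat_lit 6, nat_lit 9, nat_lit 1, nat_lit 8, nat_lit 5, nat_lit 1],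
   [nat_lit 5, nat_lit 11, nat_lit 2, nat_lit 11, nat_lit 5, nat_lit 11, nat_lit 2, nat_lit 11],
   [nat_lit 7, nat_lit 8, nat_lit 1, nat_lit 5, nat_lit 4, nat_lit 9],
   [nat_lit 3, nat_lit 11, nat_lit 0, nat_lit 11, nat_lit 7, nat_lit 11, nat_lit 0, nat_lit 11],
   [nat_lit 5, nat_lit 0, nat_lit 5, nat_lit 4, nat_lit 0, nat_lit 2, nat_lit 4],
   [nat_lit 8, nat_lit 7, nat_lit 1, nat_lit 9, nat_lit 7, nat_lit 4],
   [nat_lit 8, nat_lit 2, nat_lit 9, nat_lit 6, nat_lit 1],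
   [nat_lit 9, nat_lit 5, nat_lit 2, nat_lit 1, nat_lit 8, nat_lit 6],
   [nat_lit 8, nat_lit 7, nat_lit 1, nat_lit 9, nat_lit 4, nat_lit 7],
   [nat_lit 8, nat_lit 4, nat_lit 1, nat_lit 9, nat_lit 7, nat_lit 6],
   [nat_lit 8, nat_lit 1, nat_lit 4, nat_lit 9, nat_lit 6, nat_lit 7],
   [nat_lit 9, nat_lit 1, nat_lit 7, nat_lit 8, nat_lit 1, nat_lit 4],
   [nat_lit 8, nat_lit 7, nat_lit 9, nat_lit 1, nat_lit 10, nat_lit 6, nat_lit 10],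
   [nat_lit 10, nat_lit 6, nat_lit 10, nat_lit 1, nat_lit 8, nat_lit 7, nat_lit 9],
   [nat_lit 14, nat_lit 9, nat_lit 1, nat_lit 8, nat_lit 14, nat_lit 1],
   [nat_lit 6, nat_lit 9, nat_lit 1, nat_lit 2, nat_lit 5, nat_lit 8],
   [nat_lit 15, nat_lit 6, nat_lit 9, nat_lit 1, nat_lit 15, nat_lit 9],
   [nat_lit 11, nat_lit 12, nat_lit 13, nat_lit 3, nat_lit 11, nat_lit 1, nat_lit 9, nat_lit 1, nat_lit 15, nat_lit 11, nat_lit 13, nat_lit 12, nat_lit 13, nat_lit 11, nat_lit 15, nat_lit 13, nat_lit 4],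
   [nat_lit 4, nat_lit 8, nat_lit 1, nat_lit 7, nat_lit 9, nat_lit 7],
   [nat_lit 8, nat_lit 1, nat_lit 9, nat_lit 5, nat_lit 6],
   [nat_lit 6, nat_lit 7, nat_lit 8, nat_lit 1, nat_lit 4, nat_lit 9],
   [nat_lit 4, nat_lit 11, nat_lit 8, nat_lit 7, nat_lit 1, nat_lit 14, nat_lit 12, nat_lit 14, nat_lit 11, nat_lit 14, nat_lit 12, nat_lit 14],
   [nat_lit 4, nat_lit 3, nat_lit 2, nat_lit 4, nat_lit 6, nat_lit 3, nat_lit 6],
   [nat_lit 5, nat_lit 14, nat_lit 2, nat_lit 14, nat_lit 6],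
   [nat_lit 13, nat_lit 3, nat_lit 2, nat_lit 13, nat_lit 3],
   [nat_lit 7, nat_lit 4, nat_lit 8, nat_lit 1, nat_lit 7, nat_lit 9],
   [nat_lit 6, nat_lit 1, nat_lit 8, nat_lit 2, nat_lit 9],
   [nat_lit 8, nat_lit 15, nat_lit 1, nat_lit 8, nat_lit 6, nat_lit 15],
   [nat_lit 7, nat_lit 6, nat_lit 8, nat_lit 4, nat_lit 1, nat_lit 9],
   [nat_lit 1, nat_lit 9, nat_lit 1, nat_lit 7, nat_lit 8, nat_lit 4],
   [nat_lit 11, nat_lit 5, nat_lit 11, nat_lit 2, nat_lit 11, nat_lit 5, nat_lit 2, nat_lit 11],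
   [nat_lit 12, nat_lit 11, nat_lit 0, nat_lit 11, nat_lit 12, nat_lit 11, nat_lit 0, nat_lit 11],
   [nat_lit 15, nat_lit 2, nat_lit 6, nat_lit 15, nat_lit 1, nat_lit 6],
   [nat_lit 7, nat_lit 8, nat_lit 7, nat_lit 1, nat_lit 9, nat_lit 4],
   [nat_lit 8, nat_lit 1, nat_lit 9, nat_lit 6, nat_lit 5],
   [nat_lit 6, nat_lit 5, nat_lit 1, nat_lit 9, nat_lit 1, nat_lit 8],
   [nat_lit 4, nat_lit 2, nat_lit 0, nat_lit 4, nat_lit 5, nat_lit 0, nat_lit 5],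
   [nat_lit 5, nat_lit 6, nat_lit 9, nat_lit 1, nat_lit 8, nat_lit 1],
   [nat_lit 15, nat_lit 6, nat_lit 2, nat_lit 1, nat_lit 15, nat_lit 6],
   [nat_lit 8, nat_lit 5, nat_lit 4, nat_lit 1, nat_lit 9, nat_lit 7],
   [nat_lit 3, nat_lit 13, nat_lit 3, nat_lit 2, nat_lit 13],
   [nat_lit 7, nat_lit 8, nat_lit 1, nat_lit 4, nat_lit 9, nat_lit 6],
   [nat_lit 11, nat_lit 5, nat_lit 11, nat_lit 2, nat_lit 11, nat_lit 2, nat_lit 5, nat_lit 11],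
   [nat_lit 13, nat_lit 2, nat_lit 3, nat_lit 13, nat_lit 3],
   [nat_lit 8, nat_lit 4, nat_lit 5, nat_lit 1, nat_lit 9, nat_lit 7],
   [nat_lit 12, nat_lit 7, nat_lit 1, nat_lit 12, nat_lit 1, nat_lit 7],
   [nat_lit 11, nat_lit 0, nat_lit 11, nat_lit 7, nat_lit 11, nat_lit 0, nat_lit 11, nat_lit 3],
   [nat_lit 15, nat_lit 2, nat_lit 6, nat_lit 1, nat_lit 15, nat_lit 6],
   [nat_lit 1, nat_lit 5, nat_lit 9, nat_lit 1, nat_lit 8, nat_lit 6],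
   [nat_lit 1, nat_lit 15, nat_lit 6, nat_lit 2, nat_lit 15, nat_lit 6],
   [nat_lit 1, nat_lit 6, nat_lit 9, nat_lit 1, nat_lit 8, nat_lit 5],
   [nat_lit 11, nat_lit 0, nat_lit 11, nat_lit 12, nat_lit 11, nat_lit 0, nat_lit 11, nat_lit 12],
   [nat_lit 6, nat_lit 1, nat_lit 15, nat_lit 6, nat_lit 2, nat_lit 15],
   [nat_lit 5, nat_lit 9, nat_lit 1, nat_lit 8, nat_lit 6, nat_lit 1],
   [nat_lit 1, nat_lit 0, nat_lit 12, nat_lit 11, nat_lit 8, nat_lit 11, nat_lit 9, nat_lit 11, nat_lit 12]],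
  [[nat_lit 10, nat_lit 3, nat_lit 10],
   [nat_lit 15, nat_lit 3, nat_lit 15],
   [nat_lit 4, nat_lit 3, nat_lit 4],
   [nat_lit 5, nat_lit 3, nat_lit 5],
   [nat_lit 7, nat_lit 3, nat_lit 7],
   [nat_lit 2, nat_lit 3, nat_lit 2],
   [nat_lit 1, nat_lit 3, nat_lit 1],
   [nat_lit 0, nat_lit 3, nat_lit 0],
   [nat_lit 4, nat_lit 10, nat_lit 4, nat_lit 10],
   [nat_lit 7, nat_lit 13, nat_lit 3, nat_lit 13],
   [nat_lit 13, nat_lit 3, nat_lit 13, nat_lit 7],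
   [nat_lit 13, nat_lit 7, nat_lit 3, nat_lit 13],
   [nat_lit 13, nat_lit 3, nat_lit 7, nat_lit 13],
   [nat_lit 15, nat_lit 4, nat_lit 0, nat_lit 15, nat_lit 0],
   [nat_lit 0, nat_lit 15, nat_lit 0, nat_lit 4, nat_lit 15],
   [nat_lit 12, nat_lit 0, nat_lit 5, nat_lit 0, nat_lit 12],
   [nat_lit 0, nat_lit 15, nat_lit 0, nat_lit 15, nat_lit 4],
   [nat_lit 12, nat_lit 1, nat_lit 3, nat_lit 12, nat_lit 1],
   [nat_lit 12, nat_lit 3, nat_lit 1, nat_lit 12, nat_lit 1],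
   [nat_lit 12, nat_lit 5, nat_lit 3, nat_lit 12, nat_lit 5],
   [nat_lit 6, nat_lit 12, nat_lit 5, nat_lit 12, nat_lit 6],
   [nat_lit 1, nat_lit 12, nat_lit 1, nat_lit 3, nat_lit 12],
   [nat_lit 5, nat_lit 12, nat_lit 3, nat_lit 5, nat_lit 12],
   [nat_lit 1, nat_lit 12, nat_lit 4, nat_lit 12, nat_lit 4],
   [nat_lit 4, nat_lit 5, nat_lit 10, nat_lit 1, nat_lit 10],
   [nat_lit 1, nat_lit 12, nat_lit 3, nat_lit 1, nat_lit 12],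
   [nat_lit 4, nat_lit 9, nat_lit 1, nat_lit 4, nat_lit 0, nat_lit 8],
   [nat_lit 1, nat_lit 15, nat_lit 10, nat_lit 1, nat_lit 15, nat_lit 10],
   [nat_lit 1, nat_lit 10, nat_lit 15, nat_lit 1, nat_lit 10, nat_lit 15],
   [nat_lit 4, nat_lit 8, nat_lit 3, nat_lit 0, nat_lit 1, nat_lit 9],
   [nat_lit 7, nat_lit 10, nat_lit 5, nat_lit 0, nat_lit 5, nat_lit 10],
   [nat_lit 4, nat_lit 9, nat_lit 4, nat_lit 0, nat_lit 1, nat_lit 8],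
   [nat_lit 14, nat_lit 0, nat_lit 5, nat_lit 4, nat_lit 3, nat_lit 0, nat_lit 14],
   [nat_lit 11, nat_lit 10, nat_lit 11, nat_lit 3, nat_lit 11, nat_lit 10, nat_lit 11],
   [nat_lit 7, nat_lit 11, nat_lit 12, nat_lit 7, nat_lit 3, nat_lit 12, nat_lit 11, nat_lit 2],
   [nat_lit 2, nat_lit 11, nat_lit 12, nat_lit 3, nat_lit 7, nat_lit 12, nat_lit 11, nat_lit 7],
   [nat_lit 17],
   [nat_lit 5, nat_lit 12, nat_lit 5, nat_lit 3, nat_lit 12],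
   [nat_lit 12, nat_lit 3, nat_lit 5, nat_lit 12, nat_lit 5],
   [nat_lit 8, nat_lit 1, nat_lit 0, nat_lit 3, nat_lit 9, nat_lit 4],
   [nat_lit 8, nat_lit 3, nat_lit 1, nat_lit 0, nat_lit 9, nat_lit 4],
   [nat_lit 9, nat_lit 4, nat_lit 1, nat_lit 0, nat_lit 8, nat_lit 4],
   [nat_lit 4, nat_lit 9, nat_lit 4, nat_lit 1, nat_lit 0, nat_lit 8],
   [nat_lit 9, nat_lit 1, nat_lit 0, nat_lit 4, nat_lit 8, nat_lit 4],
   [nat_lit 14, nat_lit 0, nat_lit 3, nat_lit 4, nat_lit 5, nat_lit 0, nat_lit 14],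
   [nat_lit 10, nat_lit 4, nat_lit 10, nat_lit 4],
   [nat_lit 7, nat_lit 1, nat_lit 10, nat_lit 0, nat_lit 10, nat_lit 1],
   [nat_lit 2, nat_lit 11, nat_lit 0, nat_lit 11, nat_lit 7, nat_lit 11, nat_lit 0, nat_lit 11],
   [nat_lit 5, nat_lit 8, nat_lit 12, nat_lit 11, nat_lit 14, nat_lit 7, nat_lit 3, nat_lit 6, nat_lit 14, nat_lit 11, nat_lit 8, nat_lit 12, nat_lit 10],
   [nat_lit 4, nat_lit 8, nat_lit 3, nat_lit 1, nat_lit 0, nat_lit 9],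
   [nat_lit 11, nat_lit 15, nat_lit 11, nat_lit 4, nat_lit 14, nat_lit 9, nat_lit 11, nat_lit 9, nat_lit 6, nat_lit 11, nat_lit 10, nat_lit 14, nat_lit 11, nat_lit 15, nat_lit 11],
   [nat_lit 11, nat_lit 15, nat_lit 11, nat_lit 14, nat_lit 10, nat_lit 11, nat_lit 6, nat_lit 8, nat_lit 11, nat_lit 8, nat_lit 14, nat_lit 4, nat_lit 11, nat_lit 15, nat_lit 11],
   [nat_lit 11, nat_lit 4, nat_lit 9, nat_lit 10, nat_lit 8, nat_lit 5, nat_lit 1, nat_lit 11],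
   [nat_lit 11, nat_lit 1, nat_lit 5, nat_lit 9, nat_lit 10, nat_lit 8, nat_lit 4, nat_lit 11],
   [nat_lit 9, nat_lit 0, nat_lit 4, nat_lit 1, nat_lit 8, nat_lit 4],
   [nat_lit 5, nat_lit 1, nat_lit 10, nat_lit 1, nat_lit 5, nat_lit 10],
   [nat_lit 12, nat_lit 4, nat_lit 12, nat_lit 4, nat_lit 1],
   [nat_lit 1, nat_lit 4, nat_lit 12, nat_lit 4, nat_lit 12],
   [nat_lit 12, nat_lit 4, nat_lit 12, nat_lit 1, nat_lit 4],
   [nat_lit 4, nat_lit 1, nat_lit 12, nat_lit 4, nat_lit 12],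
   [nat_lit 4, nat_lit 12, nat_lit 4, nat_lit 12, nat_lit 1],
   [nat_lit 15, nat_lit 0, nat_lit 15, nat_lit 4, nat_lit 0],
   [nat_lit 10, nat_lit 4, nat_lit 5, nat_lit 10, nat_lit 1],
   [nat_lit 1, nat_lit 10, nat_lit 4, nat_lit 5, nat_lit 10],
   [nat_lit 4, nat_lit 15, nat_lit 0, nat_lit 15, nat_lit 0],
   [nat_lit 0, nat_lit 4, nat_lit 15, nat_lit 0, nat_lit 15],
   [nat_lit 4, nat_lit 9, nat_lit 0, nat_lit 4, nat_lit 1, nat_lit 8],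
   [nat_lit 8, nat_lit 3, nat_lit 0, nat_lit 1, nat_lit 9, nat_lit 4],
   [nat_lit 5, nat_lit 10, nat_lit 1, nat_lit 10, nat_lit 4],
   [nat_lit 8, nat_lit 1, nat_lit 3, nat_lit 0, nat_lit 9, nat_lit 4],
   [nat_lit 8, nat_lit 0, nat_lit 3, nat_lit 1, nat_lit 9, nat_lit 4],
   [nat_lit 8, nat_lit 0, nat_lit 1, nat_lit 3, nat_lit 9, nat_lit 4],
   [nat_lit 4, nat_lit 8, nat_lit 1, nat_lit 0, nat_lit 3, nat_lit 9],
   [nat_lit 4, nat_lit 9, nat_lit 0, nat_lit 1, nat_lit 4, nat_lit 8],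
   [nat_lit 0, nat_lit 1, nat_lit 9, nat_lit 4, nat_lit 3, nat_lit 8],
   [nat_lit 9, nat_lit 0, nat_lit 1, nat_lit 4, nat_lit 8, nat_lit 4],
   [nat_lit 4, nat_lit 8, nat_lit 0, nat_lit 3, nat_lit 1, nat_lit 9],
   [nat_lit 5, nat_lit 10, nat_lit 7, nat_lit 10, nat_lit 5, nat_lit 0],
   [nat_lit 0, nat_lit 10, nat_lit 1, nat_lit 7, nat_lit 1, nat_lit 10],
   [nat_lit 9, nat_lit 1, nat_lit 4, nat_lit 0, nat_lit 8, nat_lit 4],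
   [nat_lit 0, nat_lit 9, nat_lit 3, nat_lit 4, nat_lit 8, nat_lit 1],
   [nat_lit 9, nat_lit 3, nat_lit 4, nat_lit 8, nat_lit 1, nat_lit 0],
   [nat_lit 1, nat_lit 9, nat_lit 4, nat_lit 3, nat_lit 8, nat_lit 0],
   [nat_lit 9, nat_lit 4, nat_lit 3, nat_lit 8, nat_lit 0, nat_lit 1],
   [nat_lit 0, nat_lit 9, nat_lit 4, nat_lit 3, nat_lit 8, nat_lit 1],
   [nat_lit 4, nat_lit 8, nat_lit 1, nat_lit 3, nat_lit 0, nat_lit 9],
   [nat_lit 9, nat_lit 3, nat_lit 4, nat_lit 8, nat_lit 0, nat_lit 1],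
   [nat_lit 0, nat_lit 1, nat_lit 9, nat_lit 3, nat_lit 4, nat_lit 8],
   [nat_lit 1, nat_lit 0, nat_lit 9, nat_lit 3, nat_lit 4, nat_lit 8],
   [nat_lit 9, nat_lit 4, nat_lit 3, nat_lit 8, nat_lit 1, nat_lit 0],
   [nat_lit 6, nat_lit 10, nat_lit 0, nat_lit 10, nat_lit 7, nat_lit 6],
   [nat_lit 0, nat_lit 13, nat_lit 3, nat_lit 0, nat_lit 13],
   [nat_lit 0, nat_lit 13, nat_lit 0, nat_lit 3, nat_lit 13],
   [nat_lit 6, nat_lit 0, nat_lit 10, nat_lit 7, nat_lit 10, nat_lit 6],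
   [nat_lit 0, nat_lit 14, nat_lit 3, nat_lit 14, nat_lit 0, nat_lit 5, nat_lit 4],
   [nat_lit 4, nat_lit 5, nat_lit 0, nat_lit 14, nat_lit 3, nat_lit 14, nat_lit 0],
   [nat_lit 7, nat_lit 12, nat_lit 0, nat_lit 12, nat_lit 1, nat_lit 6],
   [nat_lit 2, nat_lit 13, nat_lit 2, nat_lit 3, nat_lit 13],
   [nat_lit 13, nat_lit 0, nat_lit 3, nat_lit 13, nat_lit 0],
   [nat_lit 7, nat_lit 12, nat_lit 11, nat_lit 7, nat_lit 3, nat_lit 2, nat_lit 11, nat_lit 12],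
   [nat_lit 12, nat_lit 11, nat_lit 2, nat_lit 3, nat_lit 7, nat_lit 11, nat_lit 12, nat_lit 7],
   [nat_lit 13, nat_lit 2, nat_lit 3, nat_lit 13, nat_lit 2],
   [nat_lit 6, nat_lit 7, nat_lit 10, nat_lit 0, nat_lit 10, nat_lit 6],
   [nat_lit 2, nat_lit 13, nat_lit 3, nat_lit 2, nat_lit 13],
   [nat_lit 6, nat_lit 10, nat_lit 7, nat_lit 10, nat_lit 6, nat_lit 0],
   [nat_lit 0, nat_lit 5, nat_lit 10, nat_lit 7, nat_lit 10, nat_lit 5],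
   [nat_lit 6, nat_lit 10, nat_lit 0, nat_lit 10, nat_lit 6, nat_lit 7],
   [nat_lit 10, nat_lit 5, nat_lit 0, nat_lit 5, nat_lit 10, nat_lit 7],
   [nat_lit 6, nat_lit 2, nat_lit 4, nat_lit 3, nat_lit 2, nat_lit 4, nat_lit 6],
   [nat_lit 14, nat_lit 12, nat_lit 13, nat_lit 1, nat_lit 11, nat_lit 14, nat_lit 13, nat_lit 14, nat_lit 11, nat_lit 6, nat_lit 12, nat_lit 14],
   [nat_lit 14, nat_lit 12, nat_lit 6, nat_lit 11, nat_lit 14, nat_lit 13, nat_lit 14, nat_lit 11, nat_lit 1, nat_lit 13, nat_lit 12, nat_lit 14],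
   [nat_lit 7, nat_lit 6, nat_lit 10, nat_lit 0, nat_lit 10, nat_lit 6],
   [nat_lit 5, nat_lit 14, nat_lit 12, nat_lit 9, nat_lit 12, nat_lit 13, nat_lit 1, nat_lit 13, nat_lit 12, nat_lit 8, nat_lit 12, nat_lit 14, nat_lit 2],
   [nat_lit 11, nat_lit 2, nat_lit 9, nat_lit 14, nat_lit 11, nat_lit 15, nat_lit 0, nat_lit 8, nat_lit 7, nat_lit 10, nat_lit 15, nat_lit 11, nat_lit 6, nat_lit 14, nat_lit 11, nat_lit 0],
   [nat_lit 0, nat_lit 11, nat_lit 14, nat_lit 6, nat_lit 11, nat_lit 15, nat_lit 10, nat_lit 7, nat_lit 9, nat_lit 0, nat_lit 15, nat_lit 11, nat_lit 14, nat_lit 8, nat_lit 2, nat_lit 11],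
   [nat_lit 7, nat_lit 12, nat_lit 0, nat_lit 12, nat_lit 6, nat_lit 1],
   [nat_lit 10, nat_lit 1, nat_lit 7, nat_lit 1, nat_lit 10, nat_lit 0],
   [nat_lit 1, nat_lit 7, nat_lit 1, nat_lit 10, nat_lit 0, nat_lit 10],
   [nat_lit 6, nat_lit 12, nat_lit 0, nat_lit 12, nat_lit 7, nat_lit 1],
   [nat_lit 5, nat_lit 0, nat_lit 5, nat_lit 10, nat_lit 7, nat_lit 10],
   [nat_lit 6, nat_lit 7, nat_lit 1, nat_lit 12, nat_lit 0, nat_lit 12],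
   [nat_lit 1, nat_lit 0, nat_lit 9, nat_lit 4, nat_lit 3, nat_lit 8],
   [nat_lit 1, nat_lit 9, nat_lit 3, nat_lit 4, nat_lit 8, nat_lit 0],
   [nat_lit 6, nat_lit 10, nat_lit 7, nat_lit 10, nat_lit 0, nat_lit 6],
   [nat_lit 6, nat_lit 1, nat_lit 12, nat_lit 0, nat_lit 12, nat_lit 7],
   [nat_lit 1, nat_lit 7, nat_lit 12, nat_lit 0, nat_lit 12, nat_lit 6],
   [nat_lit 1, nat_lit 10, nat_lit 0, nat_lit 10, nat_lit 1, nat_lit 7],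
   [nat_lit 4, nat_lit 10, nat_lit 1, nat_lit 10, nat_lit 5],
   [nat_lit 1, nat_lit 10, nat_lit 5, nat_lit 4, nat_lit 10],
   [nat_lit 10, nat_lit 1, nat_lit 10, nat_lit 5, nat_lit 4],
   [nat_lit 12, nat_lit 0, nat_lit 12, nat_lit 6, nat_lit 1, nat_lit 7],
   [nat_lit 4, nat_lit 8, nat_lit 0, nat_lit 1, nat_lit 3, nat_lit 9],
   [nat_lit 2, nat_lit 4, nat_lit 6, nat_lit 3, nat_lit 6, nat_lit 2, nat_lit 4],
   [nat_lit 13, nat_lit 10, nat_lit 0, nat_lit 14, nat_lit 10, nat_lit 13, nat_lit 10, nat_lit 14, nat_lit 10, nat_lit 13, nat_lit 10, nat_lit 14, nat_lit 10],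
   [nat_lit 11, nat_lit 0, nat_lit 9, nat_lit 14, nat_lit 0, nat_lit 11, nat_lit 15, nat_lit 0, nat_lit 4, nat_lit 8, nat_lit 1, nat_lit 15, nat_lit 11, nat_lit 14, nat_lit 11, nat_lit 0],
   [nat_lit 10, nat_lit 7, nat_lit 10, nat_lit 5, nat_lit 0, nat_lit 5],
   [nat_lit 0, nat_lit 11, nat_lit 14, nat_lit 11, nat_lit 15, nat_lit 1, nat_lit 9, nat_lit 4, nat_lit 0, nat_lit 15, nat_lit 11, nat_lit 0, nat_lit 14, nat_lit 8, nat_lit 0, nat_lit 11],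
   [nat_lit 1, nat_lit 6, nat_lit 12, nat_lit 0, nat_lit 12, nat_lit 7],
   [nat_lit 2, nat_lit 14, nat_lit 12, nat_lit 9, nat_lit 12, nat_lit 13, nat_lit 1, nat_lit 13, nat_lit 12, nat_lit 8, nat_lit 12, nat_lit 14, nat_lit 5],
   [nat_lit 11, nat_lit 0, nat_lit 11, nat_lit 7, nat_lit 11, nat_lit 0, nat_lit 11, nat_lit 2],
   [nat_lit 10, nat_lit 5, nat_lit 4, nat_lit 10, nat_lit 1],
   [nat_lit 12, nat_lit 5, nat_lit 10, nat_lit 14, nat_lit 10, nat_lit 12, nat_lit 15, nat_lit 12, nat_lit 10, nat_lit 15, nat_lit 14, nat_lit 15, nat_lit 10, nat_lit 12, nat_lit 15],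
   [nat_lit 12, nat_lit 10, nat_lit 5, nat_lit 11, nat_lit 14, nat_lit 6, nat_lit 13, nat_lit 1, nat_lit 13, nat_lit 14, nat_lit 10, nat_lit 11, nat_lit 12],
   [nat_lit 0, nat_lit 10, nat_lit 4, nat_lit 10, nat_lit 0, nat_lit 4],
   [nat_lit 13, nat_lit 3, nat_lit 2, nat_lit 13, nat_lit 2],
   [nat_lit 0, nat_lit 6, nat_lit 10, nat_lit 7, nat_lit 10, nat_lit 6],
   [nat_lit 10, nat_lit 0, nat_lit 10, nat_lit 1, nat_lit 7, nat_lit 1],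
   [nat_lit 6, nat_lit 4, nat_lit 2, nat_lit 3, nat_lit 4, nat_lit 2, nat_lit 6],
   [nat_lit 13, nat_lit 3, nat_lit 0, nat_lit 13, nat_lit 0],
   [nat_lit 12, nat_lit 0, nat_lit 12, nat_lit 1, nat_lit 7, nat_lit 6],
   [nat_lit 10, nat_lit 15, nat_lit 1, nat_lit 10, nat_lit 15, nat_lit 1],
   [nat_lit 7, nat_lit 6, nat_lit 1, nat_lit 12, nat_lit 0, nat_lit 12],
   [nat_lit 12, nat_lit 0, nat_lit 12, nat_lit 1, nat_lit 6, nat_lit 7],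
   [nat_lit 15, nat_lit 10, nat_lit 1, nat_lit 15, nat_lit 10, nat_lit 1],
   [nat_lit 1, nat_lit 5, nat_lit 10, nat_lit 5, nat_lit 1, nat_lit 10],
   [nat_lit 4, nat_lit 0, nat_lit 10, nat_lit 4, nat_lit 10, nat_lit 0],
   [nat_lit 9, nat_lit 1, nat_lit 11, nat_lit 12, nat_lit 10, nat_lit 8, nat_lit 12, nat_lit 2, nat_lit 4, nat_lit 11]],
  [[nat_lit 13, nat_lit 4, nat_lit 13],
   [nat_lit 14, nat_lit 4, nat_lit 14],
   [nat_lit 6, nat_lit 4, nat_lit 6],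
   [nat_lit 15, nat_lit 4, nat_lit 15],
   [nat_lit 3, nat_lit 4, nat_lit 3],
   [nat_lit 7, nat_lit 4, nat_lit 7],
   [nat_lit 5, nat_lit 4, nat_lit 5],
   [nat_lit 1, nat_lit 4, nat_lit 1],
   [nat_lit 0, nat_lit 4, nat_lit 0],
   [nat_lit 10, nat_lit 3, nat_lit 4, nat_lit 10],
   [nat_lit 9, nat_lit 7, nat_lit 5, nat_lit 8],
   [nat_lit 1, nat_lit 10, nat_lit 5, nat_lit 10],
   [nat_lit 10, nat_lit 4, nat_lit 3, nat_lit 10],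
   [nat_lit 10, nat_lit 4, nat_lit 10, nat_lit 3],
   [nat_lit 3, nat_lit 10, nat_lit 4, nat_lit 10],
   [nat_lit 9, nat_lit 5, nat_lit 7, nat_lit 8],
   [nat_lit 14, nat_lit 6, nat_lit 0, nat_lit 14, nat_lit 0],
   [nat_lit 0, nat_lit 14, nat_lit 0, nat_lit 14, nat_lit 6],
   [nat_lit 3, nat_lit 12, nat_lit 4, nat_lit 12, nat_lit 1],
   [nat_lit 12, nat_lit 3, nat_lit 4, nat_lit 1, nat_lit 12],
   [nat_lit 0, nat_lit 15, nat_lit 0, nat_lit 3, nat_lit 15],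
   [nat_lit 12, nat_lit 1, nat_lit 3, nat_lit 4, nat_lit 12],
   [nat_lit 15, nat_lit 3, nat_lit 0, nat_lit 15, nat_lit 0],
   [nat_lit 12, nat_lit 3, nat_lit 1, nat_lit 4, nat_lit 12],
   [nat_lit 12, nat_lit 1, nat_lit 4, nat_lit 3, nat_lit 12],
   [nat_lit 1, nat_lit 3, nat_lit 12, nat_lit 4, nat_lit 12],
   [nat_lit 12, nat_lit 4, nat_lit 1, nat_lit 3, nat_lit 12],
   [nat_lit 1, nat_lit 12, nat_lit 4, nat_lit 12, nat_lit 3],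
   [nat_lit 10, nat_lit 0, nat_lit 15, nat_lit 0, nat_lit 15, nat_lit 10],
   [nat_lit 8, nat_lit 10, nat_lit 0, nat_lit 1, nat_lit 10, nat_lit 9],
   [nat_lit 1, nat_lit 15, nat_lit 7, nat_lit 1, nat_lit 15, nat_lit 7],
   [nat_lit 1, nat_lit 7, nat_lit 15, nat_lit 1, nat_lit 7, nat_lit 15],
   [nat_lit 3, nat_lit 8, nat_lit 3, nat_lit 0, nat_lit 1, nat_lit 9],
   [nat_lit 5, nat_lit 10, nat_lit 7, nat_lit 1, nat_lit 10, nat_lit 0],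
   [nat_lit 0, nat_lit 1, nat_lit 8, nat_lit 3, nat_lit 4, nat_lit 9],
   [nat_lit 8, nat_lit 1, nat_lit 3, nat_lit 0, nat_lit 9, nat_lit 3],
   [nat_lit 0, nat_lit 10, nat_lit 15, nat_lit 7, nat_lit 15, nat_lit 10],
   [nat_lit 8, nat_lit 1, nat_lit 7, nat_lit 9, nat_lit 7, nat_lit 2],
   [nat_lit 17],
   [nat_lit 6, nat_lit 14, nat_lit 0, nat_lit 14, nat_lit 0],
   [nat_lit 12, nat_lit 4, nat_lit 3, nat_lit 1, nat_lit 12],
   [nat_lit 8, nat_lit 10, nat_lit 1, nat_lit 0, nat_lit 10, nat_lit 9],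
   [nat_lit 5, nat_lit 11, nat_lit 2, nat_lit 10, nat_lit 0, nat_lit 11, nat_lit 1],
   [nat_lit 1, nat_lit 11, nat_lit 0, nat_lit 10, nat_lit 2, nat_lit 11, nat_lit 5],
   [nat_lit 2, nat_lit 4, nat_lit 11, nat_lit 14, nat_lit 0, nat_lit 5, nat_lit 6, nat_lit 3, nat_lit 7, nat_lit 14, nat_lit 11, nat_lit 0],
   [nat_lit 9, nat_lit 0, nat_lit 4, nat_lit 1, nat_lit 8, nat_lit 3],
   [nat_lit 10, nat_lit 5, nat_lit 10, nat_lit 1],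
   [nat_lit 0, nat_lit 3, nat_lit 15, nat_lit 0, nat_lit 15],
   [nat_lit 3, nat_lit 1, nat_lit 12, nat_lit 4, nat_lit 12],
   [nat_lit 12, nat_lit 4, nat_lit 12, nat_lit 1, nat_lit 3],
   [nat_lit 3, nat_lit 0, nat_lit 15, nat_lit 0, nat_lit 15],
   [nat_lit 15, nat_lit 0, nat_lit 15, nat_lit 3, nat_lit 0],
   [nat_lit 7, nat_lit 15, nat_lit 1, nat_lit 7, nat_lit 15, nat_lit 1],
   [nat_lit 15, nat_lit 0, nat_lit 15, nat_lit 0, nat_lit 3],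
   [nat_lit 9, nat_lit 7, nat_lit 8, nat_lit 6, nat_lit 5],
   [nat_lit 10, nat_lit 1, nat_lit 3, nat_lit 10, nat_lit 5],
   [nat_lit 8, nat_lit 4, nat_lit 3, nat_lit 9, nat_lit 1, nat_lit 0],
   [nat_lit 9, nat_lit 4, nat_lit 0, nat_lit 1, nat_lit 8, nat_lit 3],
   [nat_lit 0, nat_lit 10, nat_lit 1, nat_lit 7, nat_lit 10, nat_lit 5],
   [nat_lit 0, nat_lit 14, nat_lit 0, nat_lit 6, nat_lit 14],
   [nat_lit 8, nat_lit 6, nat_lit 8, nat_lit 7, nat_lit 8],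
   [nat_lit 2, nat_lit 8, nat_lit 7, nat_lit 1, nat_lit 9, nat_lit 7],
   [nat_lit 7, nat_lit 8, nat_lit 1, nat_lit 7, nat_lit 9, nat_lit 2],
   [nat_lit 7, nat_lit 2, nat_lit 8, nat_lit 7, nat_lit 1, nat_lit 9],
   [nat_lit 10, nat_lit 0, nat_lit 4, nat_lit 3, nat_lit 0, nat_lit 10],
   [nat_lit 3, nat_lit 8, nat_lit 1, nat_lit 3, nat_lit 0, nat_lit 9],
   [nat_lit 9, nat_lit 6, nat_lit 7, nat_lit 8, nat_lit 6],
   [nat_lit 1, nat_lit 0, nat_lit 8, nat_lit 3, nat_lit 4, nat_lit 9],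
   [nat_lit 8, nat_lit 0, nat_lit 3, nat_lit 1, nat_lit 9, nat_lit 3],
   [nat_lit 6, nat_lit 9, nat_lit 7, nat_lit 6, nat_lit 8],
   [nat_lit 5, nat_lit 6, nat_lit 9, nat_lit 7, nat_lit 8],
   [nat_lit 3, nat_lit 8, nat_lit 1, nat_lit 0, nat_lit 3, nat_lit 9],
   [nat_lit 1, nat_lit 0, nat_lit 8, nat_lit 4, nat_lit 3, nat_lit 9],
   [nat_lit 2, nat_lit 7, nat_lit 8, nat_lit 7, nat_lit 1, nat_lit 9],
   [nat_lit 3, nat_lit 9, nat_lit 1, nat_lit 4, nat_lit 0, nat_lit 8],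
   [nat_lit 8, nat_lit 3, nat_lit 0, nat_lit 1, nat_lit 9, nat_lit 3],
   [nat_lit 0, nat_lit 8, nat_lit 3, nat_lit 4, nat_lit 9, nat_lit 1],
   [nat_lit 1, nat_lit 9, nat_lit 2, nat_lit 7, nat_lit 6, nat_lit 8],
   [nat_lit 1, nat_lit 6, nat_lit 10, nat_lit 5, nat_lit 10, nat_lit 6],
   [nat_lit 8, nat_lit 4, nat_lit 3, nat_lit 9, nat_lit 0, nat_lit 1],
   [nat_lit 10, nat_lit 0, nat_lit 3, nat_lit 4, nat_lit 0, nat_lit 10],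
   [nat_lit 2, nat_lit 7, nat_lit 1, nat_lit 7, nat_lit 4, nat_lit 1, nat_lit 2],
   [nat_lit 7, nat_lit 1, nat_lit 15, nat_lit 7, nat_lit 15, nat_lit 1],
   [nat_lit 8, nat_lit 3, nat_lit 4, nat_lit 9, nat_lit 0, nat_lit 1],
   [nat_lit 3, nat_lit 9, nat_lit 0, nat_lit 4, nat_lit 1, nat_lit 8],
   [nat_lit 8, nat_lit 0, nat_lit 1, nat_lit 3, nat_lit 9, nat_lit 3],
   [nat_lit 8, nat_lit 1, nat_lit 7, nat_lit 9, nat_lit 2, nat_lit 7],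
   [nat_lit 10, nat_lit 7, nat_lit 1, nat_lit 10, nat_lit 0, nat_lit 5],
   [nat_lit 10, nat_lit 1, nat_lit 7, nat_lit 10, nat_lit 5, nat_lit 0],
   [nat_lit 10, nat_lit 15, nat_lit 10, nat_lit 1, nat_lit 5, nat_lit 15],
   [nat_lit 2, nat_lit 6, nat_lit 3, nat_lit 6, nat_lit 4, nat_lit 2, nat_lit 3],
   [nat_lit 2, nat_lit 3, nat_lit 4, nat_lit 2, nat_lit 6, nat_lit 3, nat_lit 6],
   [nat_lit 14, nat_lit 0, nat_lit 14, nat_lit 6, nat_lit 0],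
   [nat_lit 5, nat_lit 10, nat_lit 1, nat_lit 3, nat_lit 10],
   [nat_lit 1, nat_lit 2, nat_lit 4, nat_lit 2, nat_lit 7, nat_lit 1, nat_lit 7],
   [nat_lit 6, nat_lit 9, nat_lit 7, nat_lit 8, nat_lit 5],
   [nat_lit 3, nat_lit 9, nat_lit 4, nat_lit 1, nat_lit 0, nat_lit 8],
   [nat_lit 3, nat_lit 0, nat_lit 14, nat_lit 3, nat_lit 14, nat_lit 0, nat_lit 5],
   [nat_lit 0, nat_lit 6, nat_lit 14, nat_lit 0, nat_lit 14],
   [nat_lit 0, nat_lit 10, nat_lit 5, nat_lit 10, nat_lit 0, nat_lit 1],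
   [nat_lit 12, nat_lit 4, nat_lit 12, nat_lit 3, nat_lit 1],
   [nat_lit 9, nat_lit 7, nat_lit 1, nat_lit 8, nat_lit 1, nat_lit 2],
   [nat_lit 9, nat_lit 0, nat_lit 1, nat_lit 4, nat_lit 8, nat_lit 3],
   [nat_lit 3, nat_lit 8, nat_lit 0, nat_lit 3, nat_lit 1, nat_lit 9],
   [nat_lit 1, nat_lit 14, nat_lit 10, nat_lit 5, nat_lit 10, nat_lit 14],
   [nat_lit 5, nat_lit 10, nat_lit 1, nat_lit 10, nat_lit 3],
   [nat_lit 5, nat_lit 10, nat_lit 3, nat_lit 1, nat_lit 10],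
   [nat_lit 2, nat_lit 9, nat_lit 1, nat_lit 7, nat_lit 8, nat_lit 1],
   [nat_lit 5, nat_lit 0, nat_lit 10, nat_lit 1, nat_lit 7, nat_lit 10],
   [nat_lit 0, nat_lit 5, nat_lit 10, nat_lit 7, nat_lit 1, nat_lit 10],
   [nat_lit 9, nat_lit 4, nat_lit 1, nat_lit 0, nat_lit 8, nat_lit 3],
   [nat_lit 10, nat_lit 15, nat_lit 0, nat_lit 15, nat_lit 0, nat_lit 10],
   [nat_lit 9, nat_lit 10, nat_lit 8, nat_lit 5, nat_lit 1, nat_lit 11, nat_lit 3, nat_lit 11],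
   [nat_lit 3, nat_lit 5, nat_lit 10, nat_lit 1, nat_lit 10],
   [nat_lit 1, nat_lit 5, nat_lit 15, nat_lit 10, nat_lit 15, nat_lit 10],
   [nat_lit 0, nat_lit 8, nat_lit 4, nat_lit 3, nat_lit 9, nat_lit 1],
   [nat_lit 11, nat_lit 3, nat_lit 11, nat_lit 1, nat_lit 5, nat_lit 9, nat_lit 10, nat_lit 8],
   [nat_lit 9, nat_lit 7, nat_lit 9, nat_lit 6, nat_lit 9],
   [nat_lit 3, nat_lit 9, nat_lit 1, nat_lit 0, nat_lit 4, nat_lit 8],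
   [nat_lit 1, nat_lit 9, nat_lit 7, nat_lit 1, nat_lit 8, nat_lit 2],
   [nat_lit 1, nat_lit 8, nat_lit 4, nat_lit 3, nat_lit 9, nat_lit 0],
   [nat_lit 1, nat_lit 7, nat_lit 1, nat_lit 15, nat_lit 7, nat_lit 15],
   [nat_lit 9, nat_lit 1, nat_lit 4, nat_lit 0, nat_lit 8, nat_lit 3],
   [nat_lit 2, nat_lit 1, nat_lit 4, nat_lit 7, nat_lit 1, nat_lit 7, nat_lit 2],
   [nat_lit 2, nat_lit 0, nat_lit 4, nat_lit 5, nat_lit 0, nat_lit 5, nat_lit 2],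
   [nat_lit 8, nat_lit 1, nat_lit 0, nat_lit 3, nat_lit 9, nat_lit 3],
   [nat_lit 1, nat_lit 10, nat_lit 15, nat_lit 10, nat_lit 15, nat_lit 5],
   [nat_lit 3, nat_lit 8, nat_lit 3, nat_lit 1, nat_lit 0, nat_lit 9],
   [nat_lit 10, nat_lit 15, nat_lit 7, nat_lit 15, nat_lit 10, nat_lit 0],
   [nat_lit 3, nat_lit 10, nat_lit 1, nat_lit 10, nat_lit 5],
   [nat_lit 2, nat_lit 4, nat_lit 0, nat_lit 11, nat_lit 14, nat_lit 7, nat_lit 3, nat_lit 6, nat_lit 5, nat_lit 0, nat_lit 14, nat_lit 11],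
   [nat_lit 1, nat_lit 15, nat_lit 7, nat_lit 15, nat_lit 1, nat_lit 7],
   [nat_lit 3, nat_lit 8, nat_lit 0, nat_lit 1, nat_lit 3, nat_lit 9],
   [nat_lit 6, nat_lit 5, nat_lit 11, nat_lit 8, nat_lit 14, nat_lit 5, nat_lit 11, nat_lit 15, nat_lit 0, nat_lit 9, nat_lit 10, nat_lit 7, nat_lit 15, nat_lit 11, nat_lit 14, nat_lit 11],
   [nat_lit 10, nat_lit 1, nat_lit 10, nat_lit 5, nat_lit 3],
   [nat_lit 5, nat_lit 9, nat_lit 7, nat_lit 8, nat_lit 6],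
   [nat_lit 1, nat_lit 9, nat_lit 7, nat_lit 2, nat_lit 6, nat_lit 8],
   [nat_lit 5, nat_lit 1, nat_lit 9, nat_lit 7, nat_lit 2, nat_lit 8],
   [nat_lit 5, nat_lit 9, nat_lit 2, nat_lit 7, nat_lit 8, nat_lit 1],
   [nat_lit 1, nat_lit 8, nat_lit 3, nat_lit 4, nat_lit 9, nat_lit 0],
   [nat_lit 11, nat_lit 14, nat_lit 0, nat_lit 5, nat_lit 6, nat_lit 3, nat_lit 7, nat_lit 14, nat_lit 11, nat_lit 0, nat_lit 4, nat_lit 2],
   [nat_lit 5, nat_lit 0, nat_lit 14, nat_lit 3, nat_lit 14, nat_lit 0, nat_lit 3],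
   [nat_lit 6, nat_lit 3, nat_lit 6, nat_lit 2, nat_lit 4, nat_lit 3, nat_lit 2],
   [nat_lit 11, nat_lit 14, nat_lit 11, nat_lit 15, nat_lit 7, nat_lit 10, nat_lit 8, nat_lit 0, nat_lit 15, nat_lit 11, nat_lit 5, nat_lit 14, nat_lit 9, nat_lit 11, nat_lit 5, nat_lit 6],
   [nat_lit 3, nat_lit 9, nat_lit 0, nat_lit 1, nat_lit 4, nat_lit 8],
   [nat_lit 10, nat_lit 15, nat_lit 10, nat_lit 15, nat_lit 5, nat_lit 1],
   [nat_lit 0, nat_lit 15, nat_lit 11, nat_lit 0, nat_lit 14, nat_lit 8, nat_lit 0, nat_lit 11, nat_lit 3, nat_lit 0, nat_lit 11, nat_lit 14, nat_lit 11, nat_lit 15, nat_lit 1, nat_lit 9],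
   [nat_lit 2, nat_lit 14, nat_lit 12, nat_lit 14, nat_lit 11, nat_lit 14, nat_lit 12, nat_lit 14, nat_lit 1, nat_lit 7, nat_lit 9, nat_lit 11],
   [nat_lit 1, nat_lit 0, nat_lit 10, nat_lit 5, nat_lit 10, nat_lit 0],
   [nat_lit 1, nat_lit 9, nat_lit 7, nat_lit 2, nat_lit 8, nat_lit 5],
   [nat_lit 8, nat_lit 3, nat_lit 1, nat_lit 0, nat_lit 9, nat_lit 3],
   [nat_lit 15, nat_lit 7, nat_lit 15, nat_lit 1, nat_lit 7, nat_lit 1],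
   [nat_lit 10, nat_lit 3, nat_lit 1, nat_lit 10, nat_lit 5],
   [nat_lit 6, nat_lit 10, nat_lit 5, nat_lit 10, nat_lit 6, nat_lit 1],
   [nat_lit 3, nat_lit 0, nat_lit 10, nat_lit 4, nat_lit 10, nat_lit 0],
   [nat_lit 15, nat_lit 5, nat_lit 1, nat_lit 10, nat_lit 15, nat_lit 10],
   [nat_lit 9, nat_lit 2, nat_lit 7, nat_lit 8, nat_lit 1, nat_lit 5],
   [nat_lit 9, nat_lit 6, nat_lit 7, nat_lit 2, nat_lit 8, nat_lit 1],
   [nat_lit 15, nat_lit 7, nat_lit 1, nat_lit 15, nat_lit 7, nat_lit 1],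
   [nat_lit 14, nat_lit 10, nat_lit 5, nat_lit 10, nat_lit 14, nat_lit 1]],
  [[nat_lit 6, nat_lit 5, nat_lit 6],
   [nat_lit 13, nat_lit 5, nat_lit 13],
   [nat_lit 14, nat_lit 5, nat_lit 14],
   [nat_lit 9, nat_lit 6, nat_lit 8],
   [nat_lit 15, nat_lit 5, nat_lit 15],
   [nat_lit 7, nat_lit 5, nat_lit 7],
   [nat_lit 1, nat_lit 5, nat_lit 1],
   [nat_lit 3, nat_lit 5, nat_lit 3],
   [nat_lit 4, nat_lit 5, nat_lit 4],
   [nat_lit 2, nat_lit 5, nat_lit 2],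
   [nat_lit 10, nat_lit 4, nat_lit 1, nat_lit 10],
   [nat_lit 6, nat_lit 15, nat_lit 6, nat_lit 15],
   [nat_lit 6, nat_lit 9, nat_lit 5, nat_lit 8],
   [nat_lit 7, nat_lit 8, nat_lit 4, nat_lit 9],
   [nat_lit 10, nat_lit 1, nat_lit 4, nat_lit 10],
   [nat_lit 8, nat_lit 5, nat_lit 6, nat_lit 9],
   [nat_lit 6, nat_lit 8, nat_lit 6, nat_lit 9],
   [nat_lit 8, nat_lit 6, nat_lit 5, nat_lit 9],
   [nat_lit 8, nat_lit 6, nat_lit 9, nat_lit 6],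
   [nat_lit 9, nat_lit 5, nat_lit 8, nat_lit 6],
   [nat_lit 8, nat_lit 4, nat_lit 9, nat_lit 7],
   [nat_lit 2, nat_lit 14, nat_lit 2, nat_lit 14, nat_lit 6],
   [nat_lit 15, nat_lit 10, nat_lit 5, nat_lit 15, nat_lit 10],
   [nat_lit 10, nat_lit 5, nat_lit 15, nat_lit 10, nat_lit 15],
   [nat_lit 14, nat_lit 6, nat_lit 2, nat_lit 14, nat_lit 2],
   [nat_lit 3, nat_lit 12, nat_lit 3, nat_lit 5, nat_lit 12],
   [nat_lit 12, nat_lit 5, nat_lit 1, nat_lit 12, nat_lit 1],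
   [nat_lit 1, nat_lit 8, nat_lit 2, nat_lit 1, nat_lit 9],
   [nat_lit 10, nat_lit 15, nat_lit 5, nat_lit 10, nat_lit 15],
   [nat_lit 15, nat_lit 2, nat_lit 1, nat_lit 15, nat_lit 2],
   [nat_lit 2, nat_lit 15, nat_lit 1, nat_lit 2, nat_lit 15],
   [nat_lit 12, nat_lit 6, nat_lit 3, nat_lit 6, nat_lit 12],
   [nat_lit 2, nat_lit 9, nat_lit 1, nat_lit 2, nat_lit 8],
   [nat_lit 12, nat_lit 5, nat_lit 3, nat_lit 12, nat_lit 3],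
   [nat_lit 1, nat_lit 12, nat_lit 1, nat_lit 5, nat_lit 12],
   [nat_lit 0, nat_lit 12, nat_lit 3, nat_lit 12, nat_lit 0],
   [nat_lit 10, nat_lit 3, nat_lit 1, nat_lit 10, nat_lit 4],
   [nat_lit 9, nat_lit 2, nat_lit 1, nat_lit 8, nat_lit 2],
   [nat_lit 8, nat_lit 2, nat_lit 1, nat_lit 9, nat_lit 1],
   [nat_lit 1, nat_lit 8, nat_lit 1, nat_lit 2, nat_lit 9],
   [nat_lit 9, nat_lit 1, nat_lit 2, nat_lit 8, nat_lit 2],
   [nat_lit 12, nat_lit 1, nat_lit 5, nat_lit 12, nat_lit 1],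
   [nat_lit 1, nat_lit 12, nat_lit 5, nat_lit 1, nat_lit 12],
   [nat_lit 0, nat_lit 12, nat_lit 7, nat_lit 1, nat_lit 6, nat_lit 12],
   [nat_lit 12, nat_lit 0, nat_lit 10, nat_lit 7, nat_lit 10, nat_lit 12],
   [nat_lit 12, nat_lit 7, nat_lit 10, nat_lit 0, nat_lit 10, nat_lit 12],
   [nat_lit 1, nat_lit 10, nat_lit 15, nat_lit 10, nat_lit 4, nat_lit 15],
   [nat_lit 6, nat_lit 7, nat_lit 12, nat_lit 0, nat_lit 1, nat_lit 12],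
   [nat_lit 4, nat_lit 10, nat_lit 7, nat_lit 1, nat_lit 10, nat_lit 0],
   [nat_lit 7, nat_lit 12, nat_lit 0, nat_lit 1, nat_lit 12, nat_lit 6],
   [nat_lit 6, nat_lit 12, nat_lit 1, nat_lit 0, nat_lit 12, nat_lit 7],
   [nat_lit 12, nat_lit 1, nat_lit 7, nat_lit 6, nat_lit 12, nat_lit 0],
   [nat_lit 12, nat_lit 13, nat_lit 10, nat_lit 0, nat_lit 10, nat_lit 13, nat_lit 12],
   [nat_lit 12, nat_lit 14, nat_lit 10, nat_lit 1, nat_lit 10, nat_lit 14, nat_lit 12],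
   [nat_lit 11, nat_lit 15, nat_lit 5, nat_lit 11, nat_lit 5, nat_lit 15, nat_lit 11, nat_lit 15],
   [nat_lit 8, nat_lit 1, nat_lit 5, nat_lit 9, nat_lit 2],
   [nat_lit 11, nat_lit 2, nat_lit 11, nat_lit 5, nat_lit 2, nat_lit 11, nat_lit 2, nat_lit 11],
   [nat_lit 15, nat_lit 11, nat_lit 15, nat_lit 5, nat_lit 11, nat_lit 5, nat_lit 15, nat_lit 11],
   [nat_lit 17],
   [nat_lit 11, nat_lit 2, nat_lit 11, nat_lit 2, nat_lit 5, nat_lit 11, nat_lit 2, nat_lit 11],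
   [nat_lit 3, nat_lit 12, nat_lit 5, nat_lit 3, nat_lit 12],
   [nat_lit 4, nat_lit 0, nat_lit 10, nat_lit 1, nat_lit 7, nat_lit 10],
   [nat_lit 4, nat_lit 1, nat_lit 9, nat_lit 2, nat_lit 7, nat_lit 8],
   [nat_lit 12, nat_lit 10, nat_lit 7, nat_lit 10, nat_lit 0, nat_lit 12],
   [nat_lit 11, nat_lit 8, nat_lit 7, nat_lit 10, nat_lit 0, nat_lit 5, nat_lit 11, nat_lit 8],
   [nat_lit 4, nat_lit 1, nat_lit 11, nat_lit 0, nat_lit 10, nat_lit 2, nat_lit 11],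
   [nat_lit 15, nat_lit 10, nat_lit 15, nat_lit 5, nat_lit 10],
   [nat_lit 12, nat_lit 10, nat_lit 0, nat_lit 10, nat_lit 7, nat_lit 12],
   [nat_lit 15, nat_lit 6, nat_lit 15, nat_lit 6],
   [nat_lit 12, nat_lit 3, nat_lit 5, nat_lit 12, nat_lit 3],
   [nat_lit 2, nat_lit 6, nat_lit 8, nat_lit 1, nat_lit 9],
   [nat_lit 2, nat_lit 8, nat_lit 1, nat_lit 5, nat_lit 9],
   [nat_lit 2, nat_lit 9, nat_lit 2, nat_lit 1, nat_lit 8],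
   [nat_lit 2, nat_lit 8, nat_lit 5, nat_lit 1, nat_lit 9],
   [nat_lit 2, nat_lit 6, nat_lit 14, nat_lit 2, nat_lit 14],
   [nat_lit 1, nat_lit 9, nat_lit 5, nat_lit 2, nat_lit 8],
   [nat_lit 0, nat_lit 12, nat_lit 7, nat_lit 6, nat_lit 1, nat_lit 12],
   [nat_lit 10, nat_lit 6, nat_lit 4, nat_lit 1, nat_lit 6, nat_lit 10],
   [nat_lit 6, nat_lit 7, nat_lit 12, nat_lit 1, nat_lit 0, nat_lit 12],
   [nat_lit 0, nat_lit 5, nat_lit 10, nat_lit 7, nat_lit 10, nat_lit 3],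
   [nat_lit 12, nat_lit 1, nat_lit 6, nat_lit 7, nat_lit 12, nat_lit 0],
   [nat_lit 0, nat_lit 12, nat_lit 6, nat_lit 7, nat_lit 1, nat_lit 12],
   [nat_lit 0, nat_lit 5, nat_lit 10, nat_lit 3, nat_lit 7, nat_lit 10],
   [nat_lit 10, nat_lit 5, nat_lit 4, nat_lit 1, nat_lit 5, nat_lit 10],
   [nat_lit 0, nat_lit 13, nat_lit 0, nat_lit 5, nat_lit 7, nat_lit 13],
   [nat_lit 10, nat_lit 5, nat_lit 1, nat_lit 4, nat_lit 5, nat_lit 10],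
   [nat_lit 10, nat_lit 14, nat_lit 4, nat_lit 1, nat_lit 14, nat_lit 10],
   [nat_lit 10, nat_lit 0, nat_lit 4, nat_lit 1, nat_lit 0, nat_lit 10],
   [nat_lit 10, nat_lit 0, nat_lit 1, nat_lit 4, nat_lit 0, nat_lit 10],
   [nat_lit 4, nat_lit 10, nat_lit 1, nat_lit 3, nat_lit 10],
   [nat_lit 11, nat_lit 5, nat_lit 11, nat_lit 5, nat_lit 11],
   [nat_lit 7, nat_lit 6, nat_lit 12, nat_lit 1, nat_lit 0, nat_lit 12],
   [nat_lit 7, nat_lit 6, nat_lit 12, nat_lit 0, nat_lit 1, nat_lit 12],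
   [nat_lit 9, nat_lit 11, nat_lit 5, nat_lit 0, nat_lit 10, nat_lit 7, nat_lit 9, nat_lit 11],
   [nat_lit 2, nat_lit 11, nat_lit 2, nat_lit 11, nat_lit 5, nat_lit 11, nat_lit 2, nat_lit 11],
   [nat_lit 15, nat_lit 11, nat_lit 15, nat_lit 5, nat_lit 11, nat_lit 15, nat_lit 5, nat_lit 11],
   [nat_lit 10, nat_lit 7, nat_lit 10, nat_lit 3, nat_lit 5, nat_lit 0],
   [nat_lit 11, nat_lit 2, nat_lit 11, nat_lit 5, nat_lit 11, nat_lit 2, nat_lit 11, nat_lit 2],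
   [nat_lit 0, nat_lit 5, nat_lit 2, nat_lit 4, nat_lit 2, nat_lit 0, nat_lit 4],
   [nat_lit 0, nat_lit 5, nat_lit 4, nat_lit 0, nat_lit 2, nat_lit 4, nat_lit 2],
   [nat_lit 2, nat_lit 14, nat_lit 2, nat_lit 6, nat_lit 14],
   [nat_lit 6, nat_lit 4, nat_lit 11, nat_lit 14, nat_lit 11, nat_lit 15, nat_lit 7, nat_lit 10, nat_lit 8, nat_lit 0, nat_lit 15, nat_lit 11, nat_lit 5, nat_lit 14, nat_lit 9, nat_lit 11],
   [nat_lit 11, nat_lit 2, nat_lit 10, nat_lit 0, nat_lit 11, nat_lit 1, nat_lit 4],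
   [nat_lit 11, nat_lit 5, nat_lit 15, nat_lit 11, nat_lit 5, nat_lit 15, nat_lit 11, nat_lit 15],
   [nat_lit 6, nat_lit 14, nat_lit 2, nat_lit 14, nat_lit 2],
   [nat_lit 2, nat_lit 4, nat_lit 2, nat_lit 0, nat_lit 4, nat_lit 5, nat_lit 0],
   [nat_lit 4, nat_lit 0, nat_lit 2, nat_lit 4, nat_lit 2, nat_lit 5, nat_lit 0],
   [nat_lit 6, nat_lit 9, nat_lit 1, nat_lit 8, nat_lit 1, nat_lit 2],
   [nat_lit 8, nat_lit 1, nat_lit 2, nat_lit 9, nat_lit 1],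
   [nat_lit 0, nat_lit 5, nat_lit 10, nat_lit 7, nat_lit 3, nat_lit 10],
   [nat_lit 10, nat_lit 14, nat_lit 1, nat_lit 4, nat_lit 14, nat_lit 10],
   [nat_lit 10, nat_lit 7, nat_lit 1, nat_lit 10, nat_lit 0, nat_lit 4],
   [nat_lit 0, nat_lit 4, nat_lit 10, nat_lit 1, nat_lit 7, nat_lit 10],
   [nat_lit 10, nat_lit 6, nat_lit 1, nat_lit 4, nat_lit 6, nat_lit 10],
   [nat_lit 1, nat_lit 10, nat_lit 1, nat_lit 5, nat_lit 3, nat_lit 10],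
   [nat_lit 10, nat_lit 3, nat_lit 7, nat_lit 10, nat_lit 5, nat_lit 0],
   [nat_lit 1, nat_lit 3, nat_lit 10, nat_lit 1, nat_lit 5, nat_lit 10],
   [nat_lit 8, nat_lit 15, nat_lit 6, nat_lit 15, nat_lit 9],
   [nat_lit 3, nat_lit 2, nat_lit 14, nat_lit 12, nat_lit 9, nat_lit 12, nat_lit 13, nat_lit 1, nat_lit 13, nat_lit 12, nat_lit 8, nat_lit 12, nat_lit 14],
   [nat_lit 12, nat_lit 6, nat_lit 1, nat_lit 7, nat_lit 12, nat_lit 0],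
   [nat_lit 9, nat_lit 2, nat_lit 5, nat_lit 8, nat_lit 1],
   [nat_lit 2, nat_lit 8, nat_lit 1, nat_lit 9, nat_lit 6],
   [nat_lit 11, nat_lit 8, nat_lit 5, nat_lit 11, nat_lit 8, nat_lit 7, nat_lit 10, nat_lit 0],
   [nat_lit 15, nat_lit 11, nat_lit 5, nat_lit 15, nat_lit 11, nat_lit 15, nat_lit 5, nat_lit 11],
   [nat_lit 0, nat_lit 3, nat_lit 5, nat_lit 10, nat_lit 7, nat_lit 10],
   [nat_lit 6, nat_lit 9, nat_lit 7, nat_lit 8, nat_lit 4],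
   [nat_lit 12, nat_lit 1, nat_lit 0, nat_lit 12, nat_lit 7, nat_lit 6],
   [nat_lit 1, nat_lit 4, nat_lit 10, nat_lit 15, nat_lit 10, nat_lit 15],
   [nat_lit 10, nat_lit 11, nat_lit 10, nat_lit 5, nat_lit 11, nat_lit 14, nat_lit 9, nat_lit 0, nat_lit 8, nat_lit 14, nat_lit 11],
   [nat_lit 15, nat_lit 9, nat_lit 6, nat_lit 15, nat_lit 9],
   [nat_lit 8, nat_lit 2, nat_lit 6, nat_lit 9, nat_lit 1, nat_lit 2],
   [nat_lit 4, nat_lit 9, nat_lit 2, nat_lit 7, nat_lit 8, nat_lit 1],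
   [nat_lit 9, nat_lit 7, nat_lit 8, nat_lit 6, nat_lit 4],
   [nat_lit 1, nat_lit 2, nat_lit 15, nat_lit 2, nat_lit 15],
   [nat_lit 15, nat_lit 2, nat_lit 15, nat_lit 2, nat_lit 1],
   [nat_lit 8, nat_lit 1, nat_lit 9, nat_lit 6, nat_lit 2],
   [nat_lit 4, nat_lit 6, nat_lit 9, nat_lit 7, nat_lit 8],
   [nat_lit 10, nat_lit 7, nat_lit 10, nat_lit 5, nat_lit 3, nat_lit 0],
   [nat_lit 0, nat_lit 10, nat_lit 7, nat_lit 9, nat_lit 11, nat_lit 5, nat_lit 9, nat_lit 11],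
   [nat_lit 1, nat_lit 9, nat_lit 2, nat_lit 5, nat_lit 8],
   [nat_lit 8, nat_lit 5, nat_lit 1, nat_lit 9, nat_lit 2],
   [nat_lit 3, nat_lit 10, nat_lit 12, nat_lit 9, nat_lit 11, nat_lit 14, nat_lit 6, nat_lit 3, nat_lit 7, nat_lit 14, nat_lit 11, nat_lit 12, nat_lit 9],
   [nat_lit 10, nat_lit 1, nat_lit 10, nat_lit 4, nat_lit 3],
   [nat_lit 6, nat_lit 2, nat_lit 9, nat_lit 1, nat_lit 8, nat_lit 1],
   [nat_lit 10, nat_lit 7, nat_lit 3, nat_lit 10, nat_lit 5, nat_lit 0],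
   [nat_lit 3, nat_lit 10, nat_lit 7, nat_lit 10, nat_lit 5, nat_lit 0],
   [nat_lit 8, nat_lit 15, nat_lit 6, nat_lit 8, nat_lit 15],
   [nat_lit 9, nat_lit 2, nat_lit 7, nat_lit 8, nat_lit 1, nat_lit 4],
   [nat_lit 6, nat_lit 8, nat_lit 1, nat_lit 9, nat_lit 2],
   [nat_lit 11, nat_lit 8, nat_lit 14, nat_lit 5, nat_lit 11, nat_lit 15, nat_lit 0, nat_lit 9, nat_lit 10, nat_lit 7, nat_lit 15, nat_lit 11, nat_lit 14, nat_lit 11, nat_lit 4, nat_lit 6],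
   [nat_lit 15, nat_lit 10, nat_lit 15, nat_lit 10, nat_lit 4, nat_lit 1],
   [nat_lit 1, nat_lit 11, nat_lit 3, nat_lit 11, nat_lit 4, nat_lit 9, nat_lit 10, nat_lit 8],
   [nat_lit 10, nat_lit 5, nat_lit 1, nat_lit 3, nat_lit 10, nat_lit 1],
   [nat_lit 13, nat_lit 7, nat_lit 5, nat_lit 0, nat_lit 13, nat_lit 0],
   [nat_lit 10, nat_lit 3, nat_lit 5, nat_lit 1, nat_lit 10, nat_lit 1],
   [nat_lit 9, nat_lit 10, nat_lit 8, nat_lit 4, nat_lit 11, nat_lit 3, nat_lit 11, nat_lit 1],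
   [nat_lit 3, nat_lit 0, nat_lit 5, nat_lit 10, nat_lit 7, nat_lit 10],
   [nat_lit 15, nat_lit 2, nat_lit 15, nat_lit 1, nat_lit 2],
   [nat_lit 4, nat_lit 1, nat_lit 5, nat_lit 10, nat_lit 5, nat_lit 10],
   [nat_lit 4, nat_lit 10, nat_lit 3, nat_lit 1, nat_lit 10],
   [nat_lit 4, nat_lit 3, nat_lit 10, nat_lit 1, nat_lit 10],
   [nat_lit 10, nat_lit 7, nat_lit 1, nat_lit 10, nat_lit 4, nat_lit 0],
   [nat_lit 12, nat_lit 0, nat_lit 1, nat_lit 12, nat_lit 7, nat_lit 6],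
   [nat_lit 11, nat_lit 5, nat_lit 15, nat_lit 11, nat_lit 15, nat_lit 5, nat_lit 11, nat_lit 15],
   [nat_lit 4, nat_lit 9, nat_lit 7, nat_lit 8, nat_lit 6],
   [nat_lit 2, nat_lit 1, nat_lit 15, nat_lit 2, nat_lit 15],
   [nat_lit 10, nat_lit 7, nat_lit 10, nat_lit 5, nat_lit 0, nat_lit 3],
   [nat_lit 14, nat_lit 2, nat_lit 14, nat_lit 6, nat_lit 2],
   [nat_lit 9, nat_lit 7, nat_lit 2, nat_lit 8, nat_lit 1, nat_lit 4],
   [nat_lit 10, nat_lit 1, nat_lit 3, nat_lit 10, nat_lit 4],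
   [nat_lit 12, nat_lit 0, nat_lit 1, nat_lit 12, nat_lit 6, nat_lit 7],
   [nat_lit 7, nat_lit 13, nat_lit 5, nat_lit 0, nat_lit 13, nat_lit 0],
   [nat_lit 10, nat_lit 1, nat_lit 10, nat_lit 3, nat_lit 4],
   [nat_lit 8, nat_lit 1, nat_lit 9, nat_lit 2, nat_lit 6],
   [nat_lit 6, nat_lit 2, nat_lit 8, nat_lit 1, nat_lit 9],
   [nat_lit 10, nat_lit 15, nat_lit 10, nat_lit 15, nat_lit 4, nat_lit 1],
   [nat_lit 4, nat_lit 3, nat_lit 0, nat_lit 14, nat_lit 3, nat_lit 14, nat_lit 0],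
   [nat_lit 4, nat_lit 1, nat_lit 9, nat_lit 7, nat_lit 2, nat_lit 8],
   [nat_lit 10, nat_lit 5, nat_lit 10, nat_lit 5, nat_lit 4, nat_lit 1],
   [nat_lit 0, nat_lit 13, nat_lit 0, nat_lit 5, nat_lit 13, nat_lit 7],
   [nat_lit 3, nat_lit 10, nat_lit 5, nat_lit 1, nat_lit 10, nat_lit 1],
   [nat_lit 0, nat_lit 10, nat_lit 1, nat_lit 7, nat_lit 10, nat_lit 4],
   [nat_lit 10, nat_lit 5, nat_lit 10, nat_lit 5, nat_lit 1, nat_lit 4],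
   [nat_lit 3, nat_lit 4, nat_lit 10, nat_lit 1, nat_lit 10],
   [nat_lit 1, nat_lit 4, nat_lit 5, nat_lit 10, nat_lit 5, nat_lit 10],
   [nat_lit 0, nat_lit 5, nat_lit 3, nat_lit 10, nat_lit 7, nat_lit 10],
   [nat_lit 1, nat_lit 4, nat_lit 15, nat_lit 10, nat_lit 15, nat_lit 10]],
  [[nat_lit 13, nat_lit 6, nat_lit 13],
   [nat_lit 14, nat_lit 6, nat_lit 14],
   [nat_lit 8, nat_lit 5, nat_lit 9],
   [nat_lit 7, nat_lit 6, nat_lit 7],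
   [nat_lit 0, nat_lit 6, nat_lit 0],
   [nat_lit 2, nat_lit 6, nat_lit 2],
   [nat_lit 4, nat_lit 6, nat_lit 4],
   [nat_lit 1, nat_lit 6, nat_lit 1],
   [nat_lit 15, nat_lit 6, nat_lit 15, nat_lit 5],
   [nat_lit 5, nat_lit 9, nat_lit 5, nat_lit 8],
   [nat_lit 5, nat_lit 6, nat_lit 5],
   [nat_lit 15, nat_lit 6, nat_lit 5, nat_lit 15],
   [nat_lit 1, nat_lit 9, nat_lit 2, nat_lit 8],
   [nat_lit 5, nat_lit 8, nat_lit 6, nat_lit 9],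
   [nat_lit 5, nat_lit 15, nat_lit 6, nat_lit 15],
   [nat_lit 9, nat_lit 5, nat_lit 6, nat_lit 8],
   [nat_lit 9, nat_lit 2, nat_lit 8, nat_lit 1],
   [nat_lit 15, nat_lit 5, nat_lit 6, nat_lit 15],
   [nat_lit 14, nat_lit 4, nat_lit 0, nat_lit 14, nat_lit 0],
   [nat_lit 0, nat_lit 14, nat_lit 0, nat_lit 4, nat_lit 14],
   [nat_lit 2, nat_lit 14, nat_lit 2, nat_lit 5, nat_lit 14],
   [nat_lit 15, nat_lit 8, nat_lit 6, nat_lit 9, nat_lit 15],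
   [nat_lit 9, nat_lit 15, nat_lit 6, nat_lit 9, nat_lit 15],
   [nat_lit 14, nat_lit 5, nat_lit 2, nat_lit 14, nat_lit 2],
   [nat_lit 15, nat_lit 8, nat_lit 6, nat_lit 15, nat_lit 8],
   [nat_lit 15, nat_lit 9, nat_lit 5, nat_lit 8, nat_lit 15],
   [nat_lit 7, nat_lit 8, nat_lit 6, nat_lit 4, nat_lit 9],
   [nat_lit 9, nat_lit 6, nat_lit 5, nat_lit 8],
   [nat_lit 2, nat_lit 5, nat_lit 8, nat_lit 1, nat_lit 9],
   [nat_lit 9, nat_lit 15, nat_lit 6, nat_lit 15, nat_lit 8],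
   [nat_lit 10, nat_lit 13, nat_lit 1, nat_lit 2, nat_lit 13, nat_lit 10],
   [nat_lit 10, nat_lit 13, nat_lit 2, nat_lit 1, nat_lit 13, nat_lit 10],
   [nat_lit 9, nat_lit 1, nat_lit 15, nat_lit 9, nat_lit 2, nat_lit 15],
   [nat_lit 15, nat_lit 2, nat_lit 8, nat_lit 15, nat_lit 1, nat_lit 8],
   [nat_lit 1, nat_lit 7, nat_lit 12, nat_lit 0, nat_lit 5, nat_lit 12],
   [nat_lit 7, nat_lit 1, nat_lit 12, nat_lit 0, nat_lit 12, nat_lit 3],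
   [nat_lit 9, nat_lit 15, nat_lit 14, nat_lit 13, nat_lit 15, nat_lit 8, nat_lit 14, nat_lit 13],
   [nat_lit 11, nat_lit 0, nat_lit 11, nat_lit 1, nat_lit 11, nat_lit 0, nat_lit 11, nat_lit 0, nat_lit 2],
   [nat_lit 17],
   [nat_lit 5, nat_lit 12, nat_lit 1, nat_lit 0, nat_lit 12, nat_lit 7],
   [nat_lit 3, nat_lit 1, nat_lit 7, nat_lit 12, nat_lit 0, nat_lit 12],
   [nat_lit 5, nat_lit 12, nat_lit 0, nat_lit 1, nat_lit 12, nat_lit 7],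
   [nat_lit 12, nat_lit 0, nat_lit 5, nat_lit 12, nat_lit 1, nat_lit 7],
   [nat_lit 1, nat_lit 3, nat_lit 7, nat_lit 12, nat_lit 0, nat_lit 12],
   [nat_lit 2, nat_lit 15, nat_lit 2, nat_lit 6, nat_lit 1, nat_lit 15],
   [nat_lit 12, nat_lit 0, nat_lit 12, nat_lit 3, nat_lit 7, nat_lit 1],
   [nat_lit 9, nat_lit 7, nat_lit 6, nat_lit 8, nat_lit 4],
   [nat_lit 1, nat_lit 7, nat_lit 3, nat_lit 12, nat_lit 0, nat_lit 12],
   [nat_lit 4, nat_lit 5, nat_lit 9, nat_lit 7, nat_lit 8],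
   [nat_lit 9, nat_lit 5, nat_lit 8, nat_lit 5],
   [nat_lit 12, nat_lit 5, nat_lit 12, nat_lit 6, nat_lit 3],
   [nat_lit 14, nat_lit 2, nat_lit 14, nat_lit 5, nat_lit 2],
   [nat_lit 8, nat_lit 6, nat_lit 9, nat_lit 5],
   [nat_lit 2, nat_lit 5, nat_lit 14, nat_lit 2, nat_lit 14],
   [nat_lit 5, nat_lit 2, nat_lit 14, nat_lit 2, nat_lit 14],
   [nat_lit 3, nat_lit 6, nat_lit 12, nat_lit 5, nat_lit 12],
   [nat_lit 12, nat_lit 1, nat_lit 0, nat_lit 12, nat_lit 7, nat_lit 5],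
   [nat_lit 7, nat_lit 12, nat_lit 0, nat_lit 1, nat_lit 12, nat_lit 5],
   [nat_lit 7, nat_lit 5, nat_lit 12, nat_lit 1, nat_lit 0, nat_lit 12],
   [nat_lit 7, nat_lit 5, nat_lit 12, nat_lit 0, nat_lit 1, nat_lit 12],
   [nat_lit 12, nat_lit 1, nat_lit 0, nat_lit 12, nat_lit 5, nat_lit 7],
   [nat_lit 12, nat_lit 0, nat_lit 1, nat_lit 12, nat_lit 5, nat_lit 7],
   [nat_lit 7, nat_lit 12, nat_lit 1, nat_lit 0, nat_lit 12, nat_lit 5],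
   [nat_lit 14, nat_lit 2, nat_lit 14, nat_lit 2, nat_lit 5],
   [nat_lit 7, nat_lit 12, nat_lit 0, nat_lit 5, nat_lit 12, nat_lit 1],
   [nat_lit 12, nat_lit 5, nat_lit 0, nat_lit 12, nat_lit 7, nat_lit 1],
   [nat_lit 7, nat_lit 1, nat_lit 12, nat_lit 5, nat_lit 0, nat_lit 12],
   [nat_lit 1, nat_lit 12, nat_lit 5, nat_lit 0, nat_lit 12, nat_lit 7],
   [nat_lit 5, nat_lit 7, nat_lit 12, nat_lit 0, nat_lit 1, nat_lit 12],
   [nat_lit 3, nat_lit 12, nat_lit 0, nat_lit 12, nat_lit 1, nat_lit 7],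
   [nat_lit 9, nat_lit 1, nat_lit 2, nat_lit 5, nat_lit 8, nat_lit 2],
   [nat_lit 7, nat_lit 10, nat_lit 0, nat_lit 10, nat_lit 6, nat_lit 3],
   [nat_lit 1, nat_lit 12, nat_lit 0, nat_lit 12, nat_lit 7, nat_lit 3],
   [nat_lit 12, nat_lit 0, nat_lit 12, nat_lit 7, nat_lit 3, nat_lit 1],
   [nat_lit 3, nat_lit 7, nat_lit 12, nat_lit 0, nat_lit 12, nat_lit 1],
   [nat_lit 0, nat_lit 3, nat_lit 6, nat_lit 10, nat_lit 7, nat_lit 10],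
   [nat_lit 0, nat_lit 10, nat_lit 7, nat_lit 10, nat_lit 6, nat_lit 3],
   [nat_lit 12, nat_lit 0, nat_lit 12, nat_lit 7, nat_lit 1, nat_lit 3],
   [nat_lit 10, nat_lit 1, nat_lit 8, nat_lit 7, nat_lit 9, nat_lit 2, nat_lit 10],
   [nat_lit 10, nat_lit 2, nat_lit 8, nat_lit 7, nat_lit 9, nat_lit 1, nat_lit 10],
   [nat_lit 7, nat_lit 3, nat_lit 12, nat_lit 0, nat_lit 12, nat_lit 1],
   [nat_lit 7, nat_lit 3, nat_lit 6, nat_lit 10, nat_lit 0, nat_lit 10],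
   [nat_lit 0, nat_lit 4, nat_lit 14, nat_lit 0, nat_lit 14],
   [nat_lit 8, nat_lit 4, nat_lit 1, nat_lit 9, nat_lit 2, nat_lit 7],
   [nat_lit 3, nat_lit 0, nat_lit 6, nat_lit 10, nat_lit 7, nat_lit 10],
   [nat_lit 3, nat_lit 6, nat_lit 2, nat_lit 4, nat_lit 3, nat_lit 2, nat_lit 4],
   [nat_lit 10, nat_lit 7, nat_lit 10, nat_lit 6, nat_lit 3, nat_lit 0],
   [nat_lit 8, nat_lit 2, nat_lit 9, nat_lit 1, nat_lit 2],
   [nat_lit 14, nat_lit 11, nat_lit 12, nat_lit 9, nat_lit 11, nat_lit 2, nat_lit 11, nat_lit 8, nat_lit 12, nat_lit 11, nat_lit 14, nat_lit 1],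
   [nat_lit 1, nat_lit 14, nat_lit 11, nat_lit 12, nat_lit 9, nat_lit 11, nat_lit 2, nat_lit 11, nat_lit 8, nat_lit 12, nat_lit 11, nat_lit 14],
   [nat_lit 14, nat_lit 0, nat_lit 14, nat_lit 4, nat_lit 0],
   [nat_lit 14, nat_lit 0, nat_lit 14, nat_lit 0, nat_lit 4],
   [nat_lit 2, nat_lit 1, nat_lit 15, nat_lit 6, nat_lit 2, nat_lit 15],
   [nat_lit 10, nat_lit 7, nat_lit 10, nat_lit 0, nat_lit 6, nat_lit 3],
   [nat_lit 3, nat_lit 6, nat_lit 10, nat_lit 0, nat_lit 10, nat_lit 7],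
   [nat_lit 1, nat_lit 4, nat_lit 6, nat_lit 10, nat_lit 5, nat_lit 10],
   [nat_lit 3, nat_lit 6, nat_lit 0, nat_lit 10, nat_lit 7, nat_lit 10],
   [nat_lit 3, nat_lit 7, nat_lit 6, nat_lit 10, nat_lit 0, nat_lit 10],
   [nat_lit 9, nat_lit 7, nat_lit 8, nat_lit 5, nat_lit 4],
   [nat_lit 3, nat_lit 6, nat_lit 10, nat_lit 7, nat_lit 10, nat_lit 0],
   [nat_lit 10, nat_lit 11, nat_lit 10, nat_lit 14, nat_lit 6, nat_lit 13, nat_lit 1, nat_lit 14, nat_lit 11, nat_lit 1, nat_lit 13],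
   [nat_lit 10, nat_lit 0, nat_lit 10, nat_lit 7, nat_lit 6, nat_lit 3],
   [nat_lit 5, nat_lit 0, nat_lit 14, nat_lit 11, nat_lit 4, nat_lit 2, nat_lit 4, nat_lit 0, nat_lit 11, nat_lit 14, nat_lit 7, nat_lit 3],
   [nat_lit 10, nat_lit 7, nat_lit 10, nat_lit 6, nat_lit 0, nat_lit 3],
   [nat_lit 3, nat_lit 7, nat_lit 14, nat_lit 11, nat_lit 0, nat_lit 4, nat_lit 2, nat_lit 4, nat_lit 11, nat_lit 14, nat_lit 0, nat_lit 5],
   [nat_lit 10, nat_lit 14, nat_lit 11, nat_lit 5, nat_lit 7, nat_lit 11, nat_lit 7, nat_lit 5, nat_lit 11, nat_lit 14, nat_lit 1, nat_lit 10, nat_lit 0],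
   [nat_lit 0, nat_lit 10, nat_lit 1, nat_lit 14, nat_lit 11, nat_lit 5, nat_lit 7, nat_lit 11, nat_lit 7, nat_lit 5, nat_lit 11, nat_lit 14, nat_lit 10],
   [nat_lit 10, nat_lit 0, nat_lit 10, nat_lit 6, nat_lit 7, nat_lit 3],
   [nat_lit 8, nat_lit 11, nat_lit 8, nat_lit 14, nat_lit 4, nat_lit 11, nat_lit 15, nat_lit 11, nat_lit 3, nat_lit 11, nat_lit 15, nat_lit 11, nat_lit 14, nat_lit 10, nat_lit 11],
   [nat_lit 5, nat_lit 11, nat_lit 8, nat_lit 14, nat_lit 5, nat_lit 11, nat_lit 15, nat_lit 0, nat_lit 9, nat_lit 10, nat_lit 7, nat_lit 15, nat_lit 11, nat_lit 14, nat_lit 11, nat_lit 4],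
   [nat_lit 10, nat_lit 0, nat_lit 10, nat_lit 6, nat_lit 3, nat_lit 7],
   [nat_lit 1, nat_lit 8, nat_lit 2, nat_lit 9, nat_lit 2],
   [nat_lit 1, nat_lit 2, nat_lit 8, nat_lit 2, nat_lit 9],
   [nat_lit 2, nat_lit 8, nat_lit 1, nat_lit 9, nat_lit 5],
   [nat_lit 8, nat_lit 2, nat_lit 9, nat_lit 2, nat_lit 1],
   [nat_lit 5, nat_lit 8, nat_lit 1, nat_lit 9, nat_lit 2],
   [nat_lit 5, nat_lit 2, nat_lit 8, nat_lit 1, nat_lit 9],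
   [nat_lit 7, nat_lit 8, nat_lit 1, nat_lit 4, nat_lit 9, nat_lit 2],
   [nat_lit 8, nat_lit 7, nat_lit 8, nat_lit 4, nat_lit 8],
   [nat_lit 9, nat_lit 4, nat_lit 9, nat_lit 7, nat_lit 9],
   [nat_lit 13, nat_lit 1, nat_lit 14, nat_lit 11, nat_lit 1, nat_lit 13, nat_lit 6, nat_lit 10, nat_lit 11, nat_lit 10, nat_lit 14],
   [nat_lit 2, nat_lit 8, nat_lit 2, nat_lit 9, nat_lit 1],
   [nat_lit 2, nat_lit 15, nat_lit 2, nat_lit 6, nat_lit 15, nat_lit 1],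
   [nat_lit 8, nat_lit 1, nat_lit 9, nat_lit 5, nat_lit 2],
   [nat_lit 2, nat_lit 0, nat_lit 11, nat_lit 0, nat_lit 11, nat_lit 1, nat_lit 11, nat_lit 0, nat_lit 11],
   [nat_lit 13, nat_lit 1, nat_lit 11, nat_lit 14, nat_lit 1, nat_lit 13, nat_lit 6, nat_lit 14, nat_lit 10, nat_lit 11, nat_lit 10],
   [nat_lit 3, nat_lit 6, nat_lit 7, nat_lit 10, nat_lit 0, nat_lit 10],
   [nat_lit 5, nat_lit 4, nat_lit 9, nat_lit 7, nat_lit 8],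
   [nat_lit 9, nat_lit 7, nat_lit 8, nat_lit 4, nat_lit 5],
   [nat_lit 2, nat_lit 1, nat_lit 8, nat_lit 2, nat_lit 9],
   [nat_lit 10, nat_lit 5, nat_lit 10, nat_lit 6, nat_lit 1, nat_lit 4],
   [nat_lit 2, nat_lit 7, nat_lit 8, nat_lit 1, nat_lit 4, nat_lit 9],
   [nat_lit 15, nat_lit 9, nat_lit 5, nat_lit 15, nat_lit 9],
   [nat_lit 11, nat_lit 10, nat_lit 14, nat_lit 11, nat_lit 15, nat_lit 11, nat_lit 3, nat_lit 11, nat_lit 15, nat_lit 11, nat_lit 4, nat_lit 14, nat_lit 9, nat_lit 11, nat_lit 9],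
   [nat_lit 4, nat_lit 11, nat_lit 14, nat_lit 11, nat_lit 15, nat_lit 7, nat_lit 10, nat_lit 8, nat_lit 0, nat_lit 15, nat_lit 11, nat_lit 5, nat_lit 14, nat_lit 9, nat_lit 11, nat_lit 5],
   [nat_lit 7, nat_lit 2, nat_lit 8, nat_lit 1, nat_lit 4, nat_lit 9],
   [nat_lit 4, nat_lit 2, nat_lit 3, nat_lit 4, nat_lit 2, nat_lit 6, nat_lit 3],
   [nat_lit 2, nat_lit 9, nat_lit 1, nat_lit 8, nat_lit 1, nat_lit 5],
   [nat_lit 2, nat_lit 4, nat_lit 3, nat_lit 2, nat_lit 4, nat_lit 6, nat_lit 3],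
   [nat_lit 4, nat_lit 9, nat_lit 6, nat_lit 7, nat_lit 8],
   [nat_lit 0, nat_lit 9, nat_lit 2, nat_lit 8, nat_lit 0, nat_lit 1],
   [nat_lit 1, nat_lit 0, nat_lit 9, nat_lit 2, nat_lit 8, nat_lit 0],
   [nat_lit 4, nat_lit 0, nat_lit 14, nat_lit 0, nat_lit 14],
   [nat_lit 8, nat_lit 4, nat_lit 6, nat_lit 9, nat_lit 7],
   [nat_lit 1, nat_lit 12, nat_lit 0, nat_lit 12, nat_lit 3, nat_lit 7],
   [nat_lit 1, nat_lit 14, nat_lit 9, nat_lit 2, nat_lit 8, nat_lit 14],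
   [nat_lit 2, nat_lit 15, nat_lit 6, nat_lit 2, nat_lit 1, nat_lit 15],
   [nat_lit 2, nat_lit 1, nat_lit 5, nat_lit 9, nat_lit 1, nat_lit 8],
   [nat_lit 9, nat_lit 1, nat_lit 8, nat_lit 5, nat_lit 2, nat_lit 1],
   [nat_lit 5, nat_lit 2, nat_lit 1, nat_lit 9, nat_lit 1, nat_lit 8],
   [nat_lit 8, nat_lit 15, nat_lit 5, nat_lit 8, nat_lit 15],
   [nat_lit 8, nat_lit 1, nat_lit 9, nat_lit 2, nat_lit 5],
   [nat_lit 15, nat_lit 1, nat_lit 2, nat_lit 6, nat_lit 15, nat_lit 2],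
   [nat_lit 15, nat_lit 1, nat_lit 6, nat_lit 2, nat_lit 15, nat_lit 2],
   [nat_lit 13, nat_lit 14, nat_lit 9, nat_lit 15, nat_lit 13, nat_lit 14, nat_lit 15, nat_lit 8],
   [nat_lit 15, nat_lit 2, nat_lit 6, nat_lit 15, nat_lit 1, nat_lit 2],
   [nat_lit 1, nat_lit 15, nat_lit 6, nat_lit 2, nat_lit 15, nat_lit 2],
   [nat_lit 8, nat_lit 4, nat_lit 1, nat_lit 9, nat_lit 7, nat_lit 2],
   [nat_lit 10, nat_lit 5, nat_lit 10, nat_lit 6, nat_lit 4, nat_lit 1],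
   [nat_lit 2, nat_lit 8, nat_lit 4, nat_lit 1, nat_lit 9, nat_lit 7],
   [nat_lit 1, nat_lit 2, nat_lit 5, nat_lit 9, nat_lit 1, nat_lit 8]],
  [[nat_lit 13, nat_lit 7, nat_lit 13],
   [nat_lit 14, nat_lit 7, nat_lit 14],
   [nat_lit 0, nat_lit 7, nat_lit 0],
   [nat_lit 2, nat_lit 7, nat_lit 2],
   [nat_lit 3, nat_lit 7, nat_lit 3],
   [nat_lit 0, nat_lit 13, nat_lit 0, nat_lit 13],
   [nat_lit 2, nat_lit 13, nat_lit 2, nat_lit 13],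
   [nat_lit 13, nat_lit 0, nat_lit 13, nat_lit 0],
   [nat_lit 13, nat_lit 2, nat_lit 13, nat_lit 2],
   [nat_lit 5, nat_lit 8, nat_lit 4, nat_lit 9],
   [nat_lit 3, nat_lit 13, nat_lit 3, nat_lit 13],
   [nat_lit 13, nat_lit 3, nat_lit 13, nat_lit 3],
   [nat_lit 4, nat_lit 7, nat_lit 4],
   [nat_lit 5, nat_lit 7, nat_lit 5],
   [nat_lit 6, nat_lit 7, nat_lit 6],
   [nat_lit 8, nat_lit 4, nat_lit 9, nat_lit 5],
   [nat_lit 8, nat_lit 7, nat_lit 13, nat_lit 9, nat_lit 13],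
   [nat_lit 2, nat_lit 10, nat_lit 2, nat_lit 7, nat_lit 10],
   [nat_lit 13, nat_lit 9, nat_lit 13, nat_lit 7, nat_lit 8],
   [nat_lit 13, nat_lit 9, nat_lit 7, nat_lit 13, nat_lit 8],
   [nat_lit 13, nat_lit 8, nat_lit 7, nat_lit 13, nat_lit 9],
   [nat_lit 9, nat_lit 13, nat_lit 7, nat_lit 8, nat_lit 13],
   [nat_lit 8, nat_lit 13, nat_lit 7, nat_lit 9, nat_lit 13],
   [nat_lit 13, nat_lit 8, nat_lit 13, nat_lit 7, nat_lit 9],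
   [nat_lit 9, nat_lit 7, nat_lit 13, nat_lit 8, nat_lit 13],
   [nat_lit 0, nat_lit 10, nat_lit 0, nat_lit 7, nat_lit 10],
   [nat_lit 10, nat_lit 0, nat_lit 12, nat_lit 5, nat_lit 12, nat_lit 10],
   [nat_lit 15, nat_lit 10, nat_lit 0, nat_lit 4, nat_lit 10, nat_lit 15],
   [nat_lit 15, nat_lit 10, nat_lit 4, nat_lit 0, nat_lit 10, nat_lit 15],
   [nat_lit 1, nat_lit 12, nat_lit 5, nat_lit 0, nat_lit 12, nat_lit 6],
   [nat_lit 1, nat_lit 2, nat_lit 12, nat_lit 1, nat_lit 7, nat_lit 12],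
   [nat_lit 1, nat_lit 9, nat_lit 13, nat_lit 8, nat_lit 1, nat_lit 13],
   [nat_lit 6, nat_lit 5, nat_lit 12, nat_lit 0, nat_lit 1, nat_lit 12],
   [nat_lit 1, nat_lit 10, nat_lit 4, nat_lit 0, nat_lit 5, nat_lit 10],
   [nat_lit 12, nat_lit 0, nat_lit 12, nat_lit 1, nat_lit 6, nat_lit 3],
   [nat_lit 13, nat_lit 1, nat_lit 9, nat_lit 13, nat_lit 8, nat_lit 1],
   [nat_lit 1, nat_lit 15, nat_lit 7, nat_lit 1, nat_lit 4, nat_lit 15],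
   [nat_lit 6, nat_lit 3, nat_lit 12, nat_lit 0, nat_lit 12, nat_lit 1],
   [nat_lit 5, nat_lit 12, nat_lit 0, nat_lit 1, nat_lit 12, nat_lit 6],
   [nat_lit 12, nat_lit 7, nat_lit 1, nat_lit 2, nat_lit 12, nat_lit 1],
   [nat_lit 12, nat_lit 13, nat_lit 12, nat_lit 7, nat_lit 12, nat_lit 13, nat_lit 12],
   [nat_lit 10, nat_lit 0, nat_lit 5, nat_lit 11, nat_lit 8, nat_lit 5, nat_lit 11, nat_lit 8],
   [nat_lit 0, nat_lit 10, nat_lit 13, nat_lit 0, nat_lit 13, nat_lit 10],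
   [nat_lit 1, nat_lit 12, nat_lit 1, nat_lit 2, nat_lit 7, nat_lit 12],
   [nat_lit 11, nat_lit 0, nat_lit 11, nat_lit 3, nat_lit 2, nat_lit 11, nat_lit 0, nat_lit 11],
   [nat_lit 12, nat_lit 5, nat_lit 11, nat_lit 10, nat_lit 14, nat_lit 1, nat_lit 4, nat_lit 5, nat_lit 14, nat_lit 10, nat_lit 11, nat_lit 10, nat_lit 12],
   [nat_lit 17],
   [nat_lit 15, nat_lit 4, nat_lit 1, nat_lit 7, nat_lit 15, nat_lit 1],
   [nat_lit 1, nat_lit 12, nat_lit 2, nat_lit 1, nat_lit 7, nat_lit 12],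
   [nat_lit 15, nat_lit 4, nat_lit 1, nat_lit 7, nat_lit 1, nat_lit 15],
   [nat_lit 2, nat_lit 12, nat_lit 7, nat_lit 1, nat_lit 12, nat_lit 1],
   [nat_lit 2, nat_lit 10, nat_lit 7, nat_lit 2, nat_lit 10],
   [nat_lit 1, nat_lit 9, nat_lit 7, nat_lit 4, nat_lit 2, nat_lit 8],
   [nat_lit 10, nat_lit 5, nat_lit 3, nat_lit 0, nat_lit 5, nat_lit 10],
   [nat_lit 9, nat_lit 2, nat_lit 7, nat_lit 4, nat_lit 8, nat_lit 1],
   [nat_lit 0, nat_lit 10, nat_lit 7, nat_lit 0, nat_lit 10],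
   [nat_lit 15, nat_lit 1, nat_lit 7, nat_lit 1, nat_lit 4, nat_lit 15],
   [nat_lit 12, nat_lit 7, nat_lit 2, nat_lit 1, nat_lit 12, nat_lit 1],
   [nat_lit 15, nat_lit 1, nat_lit 7, nat_lit 4, nat_lit 1, nat_lit 15],
   [nat_lit 1, nat_lit 9, nat_lit 4, nat_lit 2, nat_lit 7, nat_lit 8],
   [nat_lit 10, nat_lit 6, nat_lit 3, nat_lit 0, nat_lit 6, nat_lit 10],
   [nat_lit 10, nat_lit 5, nat_lit 0, nat_lit 3, nat_lit 5, nat_lit 10],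
   [nat_lit 1, nat_lit 3, nat_lit 10, nat_lit 0, nat_lit 10, nat_lit 1],
   [nat_lit 2, nat_lit 1, nat_lit 12, nat_lit 1, nat_lit 7, nat_lit 12],
   [nat_lit 9, nat_lit 1, nat_lit 10, nat_lit 6, nat_lit 10, nat_lit 2, nat_lit 8],
   [nat_lit 1, nat_lit 10, nat_lit 3, nat_lit 0, nat_lit 10, nat_lit 1],
   [nat_lit 3, nat_lit 12, nat_lit 11, nat_lit 2, nat_lit 3, nat_lit 7, nat_lit 11, nat_lit 12],
   [nat_lit 3, nat_lit 12, nat_lit 0, nat_lit 12, nat_lit 1, nat_lit 6],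
   [nat_lit 5, nat_lit 6, nat_lit 12, nat_lit 1, nat_lit 0, nat_lit 12],
   [nat_lit 3, nat_lit 6, nat_lit 10, nat_lit 0, nat_lit 10, nat_lit 6],
   [nat_lit 10, nat_lit 13, nat_lit 0, nat_lit 13, nat_lit 10, nat_lit 0],
   [nat_lit 8, nat_lit 5, nat_lit 4, nat_lit 6, nat_lit 9],
   [nat_lit 10, nat_lit 4, nat_lit 5, nat_lit 0, nat_lit 10, nat_lit 1],
   [nat_lit 10, nat_lit 0, nat_lit 7, nat_lit 10, nat_lit 0],
   [nat_lit 10, nat_lit 2, nat_lit 7, nat_lit 10, nat_lit 2],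
   [nat_lit 10, nat_lit 7, nat_lit 0, nat_lit 10, nat_lit 0],
   [nat_lit 8, nat_lit 4, nat_lit 5, nat_lit 6, nat_lit 9],
   [nat_lit 10, nat_lit 7, nat_lit 2, nat_lit 10, nat_lit 2],
   [nat_lit 8, nat_lit 6, nat_lit 4, nat_lit 5, nat_lit 9],
   [nat_lit 9, nat_lit 6, nat_lit 9, nat_lit 4, nat_lit 9],
   [nat_lit 6, nat_lit 8, nat_lit 4, nat_lit 6, nat_lit 9],
   [nat_lit 8, nat_lit 6, nat_lit 4, nat_lit 9, nat_lit 6],
   [nat_lit 12, nat_lit 2, nat_lit 7, nat_lit 1, nat_lit 12, nat_lit 1],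
   [nat_lit 12, nat_lit 7, nat_lit 1, nat_lit 12, nat_lit 1, nat_lit 2],
   [nat_lit 1, nat_lit 12, nat_lit 1, nat_lit 7, nat_lit 12, nat_lit 2],
   [nat_lit 8, nat_lit 6, nat_lit 5, nat_lit 4, nat_lit 9],
   [nat_lit 10, nat_lit 12, nat_lit 5, nat_lit 12, nat_lit 0, nat_lit 10],
   [nat_lit 6, nat_lit 1, nat_lit 12, nat_lit 5, nat_lit 0, nat_lit 12],
   [nat_lit 9, nat_lit 7, nat_lit 2, nat_lit 4, nat_lit 8, nat_lit 1],
   [nat_lit 1, nat_lit 4, nat_lit 15, nat_lit 7, nat_lit 1, nat_lit 15],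
   [nat_lit 1, nat_lit 9, nat_lit 4, nat_lit 7, nat_lit 2, nat_lit 8],
   [nat_lit 1, nat_lit 15, nat_lit 7, nat_lit 4, nat_lit 1, nat_lit 15],
   [nat_lit 15, nat_lit 1, nat_lit 4, nat_lit 7, nat_lit 15, nat_lit 1],
   [nat_lit 10, nat_lit 0, nat_lit 6, nat_lit 3, nat_lit 6, nat_lit 10],
   [nat_lit 1, nat_lit 12, nat_lit 1, nat_lit 7, nat_lit 2, nat_lit 12],
   [nat_lit 12, nat_lit 7, nat_lit 1, nat_lit 12, nat_lit 2, nat_lit 1],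
   [nat_lit 15, nat_lit 1, nat_lit 4, nat_lit 7, nat_lit 1, nat_lit 15],
   [nat_lit 10, nat_lit 3, nat_lit 5, nat_lit 0, nat_lit 5, nat_lit 10],
   [nat_lit 3, nat_lit 10, nat_lit 5, nat_lit 0, nat_lit 5, nat_lit 10],
   [nat_lit 9, nat_lit 2, nat_lit 4, nat_lit 7, nat_lit 8, nat_lit 1],
   [nat_lit 10, nat_lit 5, nat_lit 0, nat_lit 4, nat_lit 10, nat_lit 1],
   [nat_lit 6, nat_lit 12, nat_lit 0, nat_lit 5, nat_lit 12, nat_lit 1],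
   [nat_lit 10, nat_lit 5, nat_lit 0, nat_lit 5, nat_lit 3, nat_lit 10],
   [nat_lit 10, nat_lit 6, nat_lit 3, nat_lit 6, nat_lit 0, nat_lit 10],
   [nat_lit 1, nat_lit 10, nat_lit 0, nat_lit 5, nat_lit 4, nat_lit 10],
   [nat_lit 12, nat_lit 0, nat_lit 5, nat_lit 12, nat_lit 6, nat_lit 1],
   [nat_lit 12, nat_lit 0, nat_lit 1, nat_lit 12, nat_lit 6, nat_lit 5],
   [nat_lit 10, nat_lit 5, nat_lit 4, nat_lit 0, nat_lit 10, nat_lit 1],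
   [nat_lit 12, nat_lit 1, nat_lit 0, nat_lit 12, nat_lit 5, nat_lit 6],
   [nat_lit 6, nat_lit 5, nat_lit 12, nat_lit 1, nat_lit 0, nat_lit 12],
   [nat_lit 1, nat_lit 10, nat_lit 0, nat_lit 4, nat_lit 5, nat_lit 10],
   [nat_lit 10, nat_lit 5, nat_lit 0, nat_lit 5, nat_lit 10, nat_lit 3],
   [nat_lit 4, nat_lit 1, nat_lit 15, nat_lit 7, nat_lit 1, nat_lit 15],
   [nat_lit 15, nat_lit 1, nat_lit 7, nat_lit 15, nat_lit 4, nat_lit 1],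
   [nat_lit 3, nat_lit 6, nat_lit 1, nat_lit 12, nat_lit 0, nat_lit 12],
   [nat_lit 12, nat_lit 0, nat_lit 12, nat_lit 6, nat_lit 1, nat_lit 3],
   [nat_lit 10, nat_lit 6, nat_lit 0, nat_lit 3, nat_lit 6, nat_lit 10],
   [nat_lit 9, nat_lit 2, nat_lit 10, nat_lit 6, nat_lit 10, nat_lit 1, nat_lit 8],
   [nat_lit 1, nat_lit 3, nat_lit 6, nat_lit 12, nat_lit 0, nat_lit 12],
   [nat_lit 3, nat_lit 1, nat_lit 6, nat_lit 12, nat_lit 0, nat_lit 12],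
   [nat_lit 3, nat_lit 1, nat_lit 10, nat_lit 0, nat_lit 10, nat_lit 1],
   [nat_lit 8, nat_lit 5, nat_lit 4, nat_lit 1, nat_lit 9, nat_lit 2],
   [nat_lit 1, nat_lit 6, nat_lit 12, nat_lit 0, nat_lit 12, nat_lit 3],
   [nat_lit 2, nat_lit 8, nat_lit 1, nat_lit 4, nat_lit 5, nat_lit 9],
   [nat_lit 8, nat_lit 1, nat_lit 5, nat_lit 4, nat_lit 9, nat_lit 2],
   [nat_lit 1, nat_lit 10, nat_lit 0, nat_lit 10, nat_lit 1, nat_lit 3],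
   [nat_lit 6, nat_lit 12, nat_lit 1, nat_lit 0, nat_lit 12, nat_lit 5],
   [nat_lit 5, nat_lit 12, nat_lit 1, nat_lit 0, nat_lit 12, nat_lit 6],
   [nat_lit 8, nat_lit 4, nat_lit 8, nat_lit 6, nat_lit 8],
   [nat_lit 2, nat_lit 8, nat_lit 5, nat_lit 4, nat_lit 1, nat_lit 9],
   [nat_lit 12, nat_lit 11, nat_lit 7, nat_lit 3, nat_lit 2, nat_lit 11, nat_lit 12, nat_lit 3],
   [nat_lit 3, nat_lit 2, nat_lit 11, nat_lit 12, nat_lit 3, nat_lit 7, nat_lit 12, nat_lit 11],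
   [nat_lit 1, nat_lit 10, nat_lit 0, nat_lit 10, nat_lit 3, nat_lit 1],
   [nat_lit 6, nat_lit 10, nat_lit 0, nat_lit 10, nat_lit 6, nat_lit 3],
   [nat_lit 1, nat_lit 8, nat_lit 1, nat_lit 2, nat_lit 4, nat_lit 9],
   [nat_lit 10, nat_lit 0, nat_lit 10, nat_lit 12, nat_lit 5, nat_lit 12],
   [nat_lit 4, nat_lit 1, nat_lit 2, nat_lit 4, nat_lit 2, nat_lit 7, nat_lit 1],
   [nat_lit 12, nat_lit 10, nat_lit 11, nat_lit 10, nat_lit 14, nat_lit 5, nat_lit 4, nat_lit 1, nat_lit 14, nat_lit 10, nat_lit 11, nat_lit 5, nat_lit 12],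
   [nat_lit 1, nat_lit 6, nat_lit 12, nat_lit 5, nat_lit 0, nat_lit 12],
   [nat_lit 6, nat_lit 1, nat_lit 12, nat_lit 0, nat_lit 12, nat_lit 3],
   [nat_lit 2, nat_lit 6, nat_lit 8, nat_lit 4, nat_lit 1, nat_lit 9],
   [nat_lit 6, nat_lit 12, nat_lit 0, nat_lit 1, nat_lit 12, nat_lit 5],
   [nat_lit 15, nat_lit 1, nat_lit 7, nat_lit 15, nat_lit 1, nat_lit 4],
   [nat_lit 4, nat_lit 2, nat_lit 8, nat_lit 7, nat_lit 1, nat_lit 9],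
   [nat_lit 1, nat_lit 4, nat_lit 15, nat_lit 7, nat_lit 15, nat_lit 1],
   [nat_lit 1, nat_lit 10, nat_lit 0, nat_lit 3, nat_lit 10, nat_lit 1],
   [nat_lit 1, nat_lit 15, nat_lit 7, nat_lit 15, nat_lit 4, nat_lit 1],
   [nat_lit 6, nat_lit 3, nat_lit 6, nat_lit 10, nat_lit 0, nat_lit 10],
   [nat_lit 9, nat_lit 14, nat_lit 11, nat_lit 12, nat_lit 8, nat_lit 4, nat_lit 12, nat_lit 4, nat_lit 9, nat_lit 12, nat_lit 11, nat_lit 14, nat_lit 8],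
   [nat_lit 8, nat_lit 1, nat_lit 4, nat_lit 2, nat_lit 9, nat_lit 1],
   [nat_lit 3, nat_lit 12, nat_lit 0, nat_lit 12, nat_lit 6, nat_lit 1],
   [nat_lit 8, nat_lit 1, nat_lit 7, nat_lit 9, nat_lit 2, nat_lit 4],
   [nat_lit 8, nat_lit 7, nat_lit 1, nat_lit 9, nat_lit 4, nat_lit 2],
   [nat_lit 8, nat_lit 1, nat_lit 4, nat_lit 9, nat_lit 2, nat_lit 6],
   [nat_lit 8, nat_lit 4, nat_lit 2, nat_lit 1, nat_lit 9, nat_lit 1],
   [nat_lit 2, nat_lit 4, nat_lit 8, nat_lit 1, nat_lit 7, nat_lit 9],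
   [nat_lit 4, nat_lit 8, nat_lit 1, nat_lit 7, nat_lit 9, nat_lit 2],
   [nat_lit 2, nat_lit 8, nat_lit 1, nat_lit 4, nat_lit 9, nat_lit 6],
   [nat_lit 11, nat_lit 12, nat_lit 7, nat_lit 3, nat_lit 12, nat_lit 11, nat_lit 2, nat_lit 3],
   [nat_lit 9, nat_lit 11, nat_lit 5, nat_lit 9, nat_lit 11, nat_lit 5, nat_lit 0, nat_lit 10],
   [nat_lit 10, nat_lit 15, nat_lit 11, nat_lit 6, nat_lit 14, nat_lit 11, nat_lit 0, nat_lit 3, nat_lit 11, nat_lit 2, nat_lit 9, nat_lit 14, nat_lit 11, nat_lit 15, nat_lit 0, nat_lit 8],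
   [nat_lit 10, nat_lit 11, nat_lit 9, nat_lit 14, nat_lit 6, nat_lit 11, nat_lit 15, nat_lit 10, nat_lit 7, nat_lit 8, nat_lit 10, nat_lit 0, nat_lit 15, nat_lit 11, nat_lit 14, nat_lit 11],
   [nat_lit 10, nat_lit 8, nat_lit 0, nat_lit 15, nat_lit 11, nat_lit 5, nat_lit 14, nat_lit 9, nat_lit 11, nat_lit 5, nat_lit 6, nat_lit 4, nat_lit 11, nat_lit 14, nat_lit 11, nat_lit 15],
   [nat_lit 9, nat_lit 0, nat_lit 15, nat_lit 11, nat_lit 14, nat_lit 8, nat_lit 2, nat_lit 11, nat_lit 3, nat_lit 0, nat_lit 11, nat_lit 14, nat_lit 6, nat_lit 11, nat_lit 15, nat_lit 10],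
   [nat_lit 15, nat_lit 11, nat_lit 14, nat_lit 11, nat_lit 4, nat_lit 6, nat_lit 5, nat_lit 11, nat_lit 8, nat_lit 14, nat_lit 5, nat_lit 11, nat_lit 15, nat_lit 0, nat_lit 9, nat_lit 10],
   [nat_lit 12, nat_lit 0, nat_lit 12, nat_lit 6, nat_lit 3, nat_lit 1],
   [nat_lit 1, nat_lit 8, nat_lit 2, nat_lit 4, nat_lit 1, nat_lit 9],
   [nat_lit 13, nat_lit 5, nat_lit 0, nat_lit 13, nat_lit 0, nat_lit 5],
   [nat_lit 12, nat_lit 5, nat_lit 12, nat_lit 10, nat_lit 0, nat_lit 10],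
   [nat_lit 12, nat_lit 0, nat_lit 5, nat_lit 12, nat_lit 1, nat_lit 6],
   [nat_lit 5, nat_lit 0, nat_lit 13, nat_lit 0, nat_lit 5, nat_lit 13],
   [nat_lit 8, nat_lit 1, nat_lit 4, nat_lit 9, nat_lit 6, nat_lit 2],
   [nat_lit 2, nat_lit 8, nat_lit 7, nat_lit 1, nat_lit 9, nat_lit 4],
   [nat_lit 6, nat_lit 8, nat_lit 4, nat_lit 1, nat_lit 9, nat_lit 2],
   [nat_lit 2, nat_lit 8, nat_lit 4, nat_lit 5, nat_lit 1, nat_lit 9],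
   [nat_lit 11, nat_lit 0, nat_lit 11, nat_lit 2, nat_lit 3, nat_lit 11, nat_lit 0, nat_lit 11],
   [nat_lit 11, nat_lit 7, nat_lit 5, nat_lit 11, nat_lit 14, nat_lit 10, nat_lit 6, nat_lit 0, nat_lit 10, nat_lit 1, nat_lit 14, nat_lit 11, nat_lit 5],
   [nat_lit 11, nat_lit 14, nat_lit 11, nat_lit 15, nat_lit 0, nat_lit 10, nat_lit 9, nat_lit 7, nat_lit 10, nat_lit 15, nat_lit 11, nat_lit 6, nat_lit 14, nat_lit 8, nat_lit 11, nat_lit 10],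
   [nat_lit 10, nat_lit 0, nat_lit 10, nat_lit 6, nat_lit 3, nat_lit 6],
   [nat_lit 1, nat_lit 7, nat_lit 2, nat_lit 4, nat_lit 2, nat_lit 1, nat_lit 4],
   [nat_lit 8, nat_lit 11, nat_lit 9, nat_lit 7, nat_lit 11, nat_lit 14, nat_lit 0, nat_lit 3, nat_lit 6, nat_lit 3, nat_lit 14, nat_lit 11],
   [nat_lit 12, nat_lit 0, nat_lit 1, nat_lit 12, nat_lit 5, nat_lit 6],
   [nat_lit 4, nat_lit 1, nat_lit 15, nat_lit 7, nat_lit 15, nat_lit 1],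
   [nat_lit 1, nat_lit 12, nat_lit 0, nat_lit 12, nat_lit 3, nat_lit 6],
   [nat_lit 9, nat_lit 0, nat_lit 13, nat_lit 0, nat_lit 8, nat_lit 13],
   [nat_lit 1, nat_lit 15, nat_lit 7, nat_lit 15, nat_lit 1, nat_lit 4]],
  [[nat_lit 15, nat_lit 9, nat_lit 15],
   [nat_lit 9, nat_lit 9],
   [nat_lit 2, nat_lit 8, nat_lit 6, nat_lit 1],
   [nat_lit 6, nat_lit 8, nat_lit 5],
   [nat_lit 5, nat_lit 8, nat_lit 5, nat_lit 6],
   [nat_lit 2, nat_lit 8, nat_lit 1, nat_lit 6],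
   [nat_lit 6, nat_lit 5, nat_lit 8, nat_lit 6],
   [nat_lit 5, nat_lit 8, nat_lit 6, nat_lit 5],
   [nat_lit 5, nat_lit 7, nat_lit 8, nat_lit 4],
   [nat_lit 7, nat_lit 5, nat_lit 8, nat_lit 4],
   [nat_lit 1, nat_lit 9, nat_lit 1, nat_lit 9, nat_lit 1],
   [nat_lit 0, nat_lit 9, nat_lit 0, nat_lit 9, nat_lit 0],
   [nat_lit 6, nat_lit 2, nat_lit 1, nat_lit 8, nat_lit 2],
   [nat_lit 15, nat_lit 6, nat_lit 9, nat_lit 15, nat_lit 6],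
   [nat_lit 13, nat_lit 7, nat_lit 8, nat_lit 7, nat_lit 13],
   [nat_lit 7, nat_lit 8, nat_lit 6, nat_lit 5, nat_lit 4],
   [nat_lit 1, nat_lit 13, nat_lit 1, nat_lit 8, nat_lit 13],
   [nat_lit 7, nat_lit 1, nat_lit 8, nat_lit 1, nat_lit 2, nat_lit 4],
   [nat_lit 1, nat_lit 8, nat_lit 14, nat_lit 1, nat_lit 2, nat_lit 14],
   [nat_lit 13, nat_lit 8, nat_lit 1, nat_lit 13, nat_lit 7, nat_lit 1],
   [nat_lit 4, nat_lit 8, nat_lit 10, nat_lit 0, nat_lit 1, nat_lit 10],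
   [nat_lit 1, nat_lit 8, nat_lit 14, nat_lit 2, nat_lit 1, nat_lit 14],
   [nat_lit 1, nat_lit 8, nat_lit 1, nat_lit 2, nat_lit 5, nat_lit 6],
   [nat_lit 15, nat_lit 14, nat_lit 13, nat_lit 15, nat_lit 8, nat_lit 14, nat_lit 13, nat_lit 6],
   [nat_lit 10, nat_lit 8, nat_lit 4, nat_lit 11, nat_lit 3, nat_lit 11, nat_lit 1, nat_lit 5],
   [nat_lit 15, nat_lit 13, nat_lit 14, nat_lit 15, nat_lit 8, nat_lit 6, nat_lit 13, nat_lit 14],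
   [nat_lit 17],
   [nat_lit 7, nat_lit 13, nat_lit 8, nat_lit 7, nat_lit 13],
   [nat_lit 11, nat_lit 5, nat_lit 0, nat_lit 10, nat_lit 7, nat_lit 9, nat_lit 11, nat_lit 5],
   [nat_lit 7, nat_lit 8, nat_lit 6, nat_lit 4, nat_lit 5],
   [nat_lit 5, nat_lit 6, nat_lit 8, nat_lit 6],
   [nat_lit 6, nat_lit 7, nat_lit 8, nat_lit 6, nat_lit 4],
   [nat_lit 13, nat_lit 7, nat_lit 8, nat_lit 13, nat_lit 7],
   [nat_lit 4, nat_lit 3, nat_lit 8, nat_lit 3, nat_lit 1, nat_lit 0],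
   [nat_lit 6, nat_lit 9, nat_lit 4, nat_lit 9, nat_lit 7],
   [nat_lit 5, nat_lit 1, nat_lit 8, nat_lit 1, nat_lit 2],
   [nat_lit 4, nat_lit 7, nat_lit 2, nat_lit 8, nat_lit 7, nat_lit 1],
   [nat_lit 1, nat_lit 2, nat_lit 6, nat_lit 8, nat_lit 2],
   [nat_lit 7, nat_lit 8, nat_lit 4, nat_lit 5, nat_lit 6],
   [nat_lit 4, nat_lit 0, nat_lit 1, nat_lit 8, nat_lit 3, nat_lit 4],
   [nat_lit 13, nat_lit 8, nat_lit 1, nat_lit 7, nat_lit 13, nat_lit 1],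
   [nat_lit 7, nat_lit 2, nat_lit 6, nat_lit 8, nat_lit 4, nat_lit 1],
   [nat_lit 0, nat_lit 4, nat_lit 1, nat_lit 8, nat_lit 4, nat_lit 3],
   [nat_lit 4, nat_lit 8, nat_lit 10, nat_lit 1, nat_lit 0, nat_lit 10],
   [nat_lit 10, nat_lit 9, nat_lit 10, nat_lit 9, nat_lit 10],
   [nat_lit 1, nat_lit 11, nat_lit 12, nat_lit 10, nat_lit 8, nat_lit 12, nat_lit 2, nat_lit 4, nat_lit 11, nat_lit 3],
   [nat_lit 10, nat_lit 8, nat_lit 5, nat_lit 1, nat_lit 11, nat_lit 3, nat_lit 11, nat_lit 4],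
   [nat_lit 0, nat_lit 8, nat_lit 12, nat_lit 11, nat_lit 14, nat_lit 7, nat_lit 3, nat_lit 6, nat_lit 5, nat_lit 0, nat_lit 14, nat_lit 11, nat_lit 12],
   [nat_lit 7, nat_lit 13, nat_lit 8, nat_lit 13, nat_lit 7],
   [nat_lit 1, nat_lit 5, nat_lit 8, nat_lit 1, nat_lit 2],
   [nat_lit 2, nat_lit 6, nat_lit 1, nat_lit 8, nat_lit 2],
   [nat_lit 5, nat_lit 1, nat_lit 8, nat_lit 2, nat_lit 1],
   [nat_lit 6, nat_lit 11, nat_lit 10, nat_lit 14, nat_lit 11, nat_lit 15, nat_lit 11, nat_lit 3, nat_lit 11, nat_lit 15, nat_lit 11, nat_lit 4, nat_lit 14, nat_lit 9, nat_lit 11],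
   [nat_lit 10, nat_lit 12, nat_lit 11, nat_lit 1, nat_lit 8, nat_lit 3, nat_lit 11, nat_lit 4, nat_lit 2, nat_lit 12],
   [nat_lit 1, nat_lit 0, nat_lit 4, nat_lit 8, nat_lit 4, nat_lit 3],
   [nat_lit 2, nat_lit 1, nat_lit 6, nat_lit 8, nat_lit 2],
   [nat_lit 2, nat_lit 1, nat_lit 8, nat_lit 5, nat_lit 2],
   [nat_lit 7, nat_lit 6, nat_lit 8, nat_lit 4, nat_lit 6],
   [nat_lit 7, nat_lit 8, nat_lit 5, nat_lit 4, nat_lit 6],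
   [nat_lit 4, nat_lit 2, nat_lit 7, nat_lit 8, nat_lit 7, nat_lit 1],
   [nat_lit 1, nat_lit 7, nat_lit 8, nat_lit 1, nat_lit 4, nat_lit 2],
   [nat_lit 2, nat_lit 5, nat_lit 6, nat_lit 8, nat_lit 1],
   [nat_lit 4, nat_lit 3, nat_lit 8, nat_lit 3, nat_lit 0, nat_lit 1],
   [nat_lit 4, nat_lit 3, nat_lit 8, nat_lit 0, nat_lit 1, nat_lit 3],
   [nat_lit 2, nat_lit 7, nat_lit 4, nat_lit 8, nat_lit 1, nat_lit 7],
   [nat_lit 11, nat_lit 5, nat_lit 9, nat_lit 11, nat_lit 5, nat_lit 0, nat_lit 10, nat_lit 7],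
   [nat_lit 1, nat_lit 4, nat_lit 0, nat_lit 8, nat_lit 4, nat_lit 3],
   [nat_lit 2, nat_lit 4, nat_lit 7, nat_lit 8, nat_lit 1, nat_lit 7],
   [nat_lit 3, nat_lit 4, nat_lit 8, nat_lit 3, nat_lit 1, nat_lit 0],
   [nat_lit 2, nat_lit 10, nat_lit 6, nat_lit 10, nat_lit 1, nat_lit 8, nat_lit 7],
   [nat_lit 0, nat_lit 8, nat_lit 12, nat_lit 11, nat_lit 14, nat_lit 0, nat_lit 5, nat_lit 6, nat_lit 3, nat_lit 7, nat_lit 14, nat_lit 11, nat_lit 12],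
   [nat_lit 4, nat_lit 1, nat_lit 0, nat_lit 8, nat_lit 3, nat_lit 4],
   [nat_lit 1, nat_lit 5, nat_lit 8, nat_lit 2, nat_lit 1],
   [nat_lit 0, nat_lit 1, nat_lit 4, nat_lit 8, nat_lit 3, nat_lit 4],
   [nat_lit 7, nat_lit 9, nat_lit 6, nat_lit 9, nat_lit 4],
   [nat_lit 0, nat_lit 1, nat_lit 4, nat_lit 8, nat_lit 4, nat_lit 3],
   [nat_lit 7, nat_lit 2, nat_lit 8, nat_lit 4, nat_lit 5, nat_lit 1],
   [nat_lit 4, nat_lit 3, nat_lit 8, nat_lit 1, nat_lit 3, nat_lit 0],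
   [nat_lit 2, nat_lit 5, nat_lit 8, nat_lit 1, nat_lit 5],
   [nat_lit 2, nat_lit 15, nat_lit 6, nat_lit 9, nat_lit 1, nat_lit 15],
   [nat_lit 1, nat_lit 2, nat_lit 8, nat_lit 5, nat_lit 2],
   [nat_lit 5, nat_lit 2, nat_lit 8, nat_lit 5, nat_lit 1],
   [nat_lit 0, nat_lit 4, nat_lit 1, nat_lit 8, nat_lit 3, nat_lit 4],
   [nat_lit 7, nat_lit 2, nat_lit 4, nat_lit 8, nat_lit 1, nat_lit 7],
   [nat_lit 3, nat_lit 4, nat_lit 8, nat_lit 0, nat_lit 1, nat_lit 3],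
   [nat_lit 1, nat_lit 2, nat_lit 8, nat_lit 2, nat_lit 5],
   [nat_lit 1, nat_lit 4, nat_lit 0, nat_lit 8, nat_lit 3, nat_lit 4],
   [nat_lit 2, nat_lit 9, nat_lit 2, nat_lit 9, nat_lit 2],
   [nat_lit 6, nat_lit 2, nat_lit 5, nat_lit 8, nat_lit 1],
   [nat_lit 5, nat_lit 2, nat_lit 8, nat_lit 1, nat_lit 5],
   [nat_lit 1, nat_lit 6, nat_lit 2, nat_lit 8, nat_lit 2],
   [nat_lit 3, nat_lit 4, nat_lit 8, nat_lit 1, nat_lit 3, nat_lit 0],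
   [nat_lit 2, nat_lit 6, nat_lit 5, nat_lit 8, nat_lit 1],
   [nat_lit 7, nat_lit 2, nat_lit 8, nat_lit 1, nat_lit 4, nat_lit 5],
   [nat_lit 2, nat_lit 8, nat_lit 0, nat_lit 6, nat_lit 1, nat_lit 0],
   [nat_lit 2, nat_lit 7, nat_lit 8, nat_lit 1, nat_lit 4, nat_lit 5],
   [nat_lit 6, nat_lit 5, nat_lit 2, nat_lit 8, nat_lit 1],
   [nat_lit 1, nat_lit 10, nat_lit 6, nat_lit 10, nat_lit 2, nat_lit 8, nat_lit 7],
   [nat_lit 7, nat_lit 4, nat_lit 2, nat_lit 8, nat_lit 7, nat_lit 1],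
   [nat_lit 1, nat_lit 8, nat_lit 6, nat_lit 2, nat_lit 1, nat_lit 5],
   [nat_lit 2, nat_lit 5, nat_lit 8, nat_lit 5, nat_lit 1],
   [nat_lit 1, nat_lit 11, nat_lit 14, nat_lit 2, nat_lit 1, nat_lit 11, nat_lit 15, nat_lit 0, nat_lit 10, nat_lit 8, nat_lit 0, nat_lit 15, nat_lit 11, nat_lit 14, nat_lit 8, nat_lit 11],
   [nat_lit 10, nat_lit 0, nat_lit 15, nat_lit 11, nat_lit 1, nat_lit 2, nat_lit 14, nat_lit 11, nat_lit 1, nat_lit 8, nat_lit 11, nat_lit 9, nat_lit 14, nat_lit 11, nat_lit 15, nat_lit 0],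
   [nat_lit 2, nat_lit 8, nat_lit 14, nat_lit 1, nat_lit 6, nat_lit 14],
   [nat_lit 11, nat_lit 12, nat_lit 2, nat_lit 1, nat_lit 0, nat_lit 12, nat_lit 11, nat_lit 8, nat_lit 11],
   [nat_lit 15, nat_lit 12, nat_lit 10, nat_lit 12, nat_lit 15, nat_lit 11, nat_lit 2, nat_lit 11, nat_lit 15, nat_lit 12, nat_lit 10, nat_lit 12],
   [nat_lit 3, nat_lit 12, nat_lit 11, nat_lit 14, nat_lit 0, nat_lit 3, nat_lit 4, nat_lit 14, nat_lit 11, nat_lit 12, nat_lit 3, nat_lit 8, nat_lit 12],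
   [nat_lit 14, nat_lit 9, nat_lit 12, nat_lit 13, nat_lit 8, nat_lit 12, nat_lit 13, nat_lit 9, nat_lit 12, nat_lit 9, nat_lit 5, nat_lit 3, nat_lit 0, nat_lit 14],
   [nat_lit 7, nat_lit 6, nat_lit 2, nat_lit 8, nat_lit 4, nat_lit 1],
   [nat_lit 1, nat_lit 8, nat_lit 1, nat_lit 14, nat_lit 2, nat_lit 14],
   [nat_lit 12, nat_lit 11, nat_lit 1, nat_lit 12, nat_lit 11, nat_lit 9, nat_lit 12, nat_lit 11, nat_lit 1, nat_lit 2, nat_lit 11],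
   [nat_lit 11, nat_lit 4, nat_lit 2, nat_lit 14, nat_lit 12, nat_lit 14, nat_lit 11, nat_lit 14, nat_lit 12, nat_lit 14, nat_lit 1, nat_lit 7],
   [nat_lit 15, nat_lit 6, nat_lit 15, nat_lit 8, nat_lit 6],
   [nat_lit 6, nat_lit 1, nat_lit 2, nat_lit 8, nat_lit 2],
   [nat_lit 5, nat_lit 2, nat_lit 6, nat_lit 8, nat_lit 1],
   [nat_lit 5, nat_lit 6, nat_lit 2, nat_lit 8, nat_lit 1],
   [nat_lit 2, nat_lit 8, nat_lit 14, nat_lit 6, nat_lit 1, nat_lit 14],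
   [nat_lit 4, nat_lit 9, nat_lit 7, nat_lit 9, nat_lit 6],
   [nat_lit 12, nat_lit 11, nat_lit 1, nat_lit 2, nat_lit 11, nat_lit 9, nat_lit 12, nat_lit 11, nat_lit 1, nat_lit 12, nat_lit 11],
   [nat_lit 2, nat_lit 1, nat_lit 8, nat_lit 2, nat_lit 5],
   [nat_lit 4, nat_lit 1, nat_lit 0, nat_lit 8, nat_lit 4, nat_lit 3],
   [nat_lit 13, nat_lit 7, nat_lit 8, nat_lit 0, nat_lit 13, nat_lit 0],
   [nat_lit 7, nat_lit 1, nat_lit 8, nat_lit 2, nat_lit 4, nat_lit 1],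
   [nat_lit 3, nat_lit 4, nat_lit 8, nat_lit 1, nat_lit 0, nat_lit 3],
   [nat_lit 1, nat_lit 8, nat_lit 5, nat_lit 1, nat_lit 2, nat_lit 6],
   [nat_lit 14, nat_lit 2, nat_lit 14, nat_lit 8, nat_lit 1],
   [nat_lit 1, nat_lit 15, nat_lit 9, nat_lit 2, nat_lit 15, nat_lit 6],
   [nat_lit 2, nat_lit 7, nat_lit 6, nat_lit 8, nat_lit 4, nat_lit 1],
   [nat_lit 3, nat_lit 4, nat_lit 8, nat_lit 0, nat_lit 3, nat_lit 1],
   [nat_lit 3, nat_lit 4, nat_lit 8, nat_lit 3, nat_lit 0, nat_lit 1],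
   [nat_lit 2, nat_lit 6, nat_lit 7, nat_lit 8, nat_lit 1, nat_lit 4],
   [nat_lit 7, nat_lit 10, nat_lit 15, nat_lit 11, nat_lit 6, nat_lit 14, nat_lit 8, nat_lit 11, nat_lit 10, nat_lit 7, nat_lit 11, nat_lit 14, nat_lit 11, nat_lit 15, nat_lit 0, nat_lit 10],
   [nat_lit 6, nat_lit 7, nat_lit 2, nat_lit 8, nat_lit 1, nat_lit 4],
   [nat_lit 0, nat_lit 13, nat_lit 0, nat_lit 8, nat_lit 7, nat_lit 13],
   [nat_lit 2, nat_lit 7, nat_lit 8, nat_lit 1, nat_lit 5, nat_lit 4],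
   [nat_lit 1, nat_lit 8, nat_lit 6, nat_lit 1, nat_lit 2, nat_lit 5],
   [nat_lit 2, nat_lit 8, nat_lit 0, nat_lit 1, nat_lit 6, nat_lit 0],
   [nat_lit 4, nat_lit 3, nat_lit 8, nat_lit 1, nat_lit 0, nat_lit 3],
   [nat_lit 1, nat_lit 8, nat_lit 2, nat_lit 6, nat_lit 5, nat_lit 1],
   [nat_lit 5, nat_lit 15, nat_lit 9, nat_lit 6, nat_lit 15],
   [nat_lit 5, nat_lit 8, nat_lit 15, nat_lit 6, nat_lit 15],
   [nat_lit 11, nat_lit 12, nat_lit 0, nat_lit 1, nat_lit 2, nat_lit 12, nat_lit 11, nat_lit 8, nat_lit 11],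
   [nat_lit 0, nat_lit 13, nat_lit 0, nat_lit 8, nat_lit 13, nat_lit 7],
   [nat_lit 6, nat_lit 15, nat_lit 9, nat_lit 5, nat_lit 15],
   [nat_lit 1, nat_lit 2, nat_lit 5, nat_lit 8, nat_lit 2, nat_lit 6],
   [nat_lit 1, nat_lit 8, nat_lit 14, nat_lit 2, nat_lit 14, nat_lit 1],
   [nat_lit 4, nat_lit 3, nat_lit 8, nat_lit 0, nat_lit 3, nat_lit 1],
   [nat_lit 1, nat_lit 8, nat_lit 1, nat_lit 5, nat_lit 6, nat_lit 2]],
  [[nat_lit 8, nat_lit 8],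
   [nat_lit 15, nat_lit 8, nat_lit 15],
   [nat_lit 5, nat_lit 9, nat_lit 6],
   [nat_lit 6, nat_lit 9, nat_lit 5, nat_lit 6],
   [nat_lit 4, nat_lit 9, nat_lit 5, nat_lit 7],
   [nat_lit 4, nat_lit 9, nat_lit 7, nat_lit 5],
   [nat_lit 1, nat_lit 6, nat_lit 9, nat_lit 2],
   [nat_lit 13, nat_lit 9, nat_lit 1, nat_lit 13, nat_lit 1],
   [nat_lit 2, nat_lit 9, nat_lit 1, nat_lit 6, nat_lit 2],
   [nat_lit 1, nat_lit 9, nat_lit 2, nat_lit 6, nat_lit 5],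
   [nat_lit 1, nat_lit 8, nat_lit 1, nat_lit 8, nat_lit 1],
   [nat_lit 6, nat_lit 9, nat_lit 6, nat_lit 5],
   [nat_lit 2, nat_lit 9, nat_lit 2, nat_lit 6, nat_lit 1],
   [nat_lit 2, nat_lit 9, nat_lit 2, nat_lit 1, nat_lit 6],
   [nat_lit 15, nat_lit 5, nat_lit 8, nat_lit 15, nat_lit 6],
   [nat_lit 2, nat_lit 9, nat_lit 6, nat_lit 2, nat_lit 1],
   [nat_lit 7, nat_lit 8, nat_lit 4, nat_lit 8, nat_lit 6],
   [nat_lit 1, nat_lit 7, nat_lit 13, nat_lit 1, nat_lit 9, nat_lit 13],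
   [nat_lit 1, nat_lit 7, nat_lit 9, nat_lit 7, nat_lit 2, nat_lit 4],
   [nat_lit 6, nat_lit 13, nat_lit 14, nat_lit 9, nat_lit 15, nat_lit 13, nat_lit 14, nat_lit 15],
   [nat_lit 13, nat_lit 7, nat_lit 9, nat_lit 7, nat_lit 13],
   [nat_lit 5, nat_lit 11, nat_lit 8, nat_lit 7, nat_lit 10, nat_lit 0, nat_lit 5, nat_lit 11],
   [nat_lit 12, nat_lit 2, nat_lit 4, nat_lit 11, nat_lit 3, nat_lit 9, nat_lit 1, nat_lit 11, nat_lit 12, nat_lit 10],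
   [nat_lit 6, nat_lit 5, nat_lit 9, nat_lit 5],
   [nat_lit 5, nat_lit 6, nat_lit 9, nat_lit 5],
   [nat_lit 2, nat_lit 8, nat_lit 2, nat_lit 8, nat_lit 2],
   [nat_lit 7, nat_lit 13, nat_lit 9, nat_lit 7, nat_lit 13],
   [nat_lit 1, nat_lit 5, nat_lit 9, nat_lit 5, nat_lit 2],
   [nat_lit 10, nat_lit 8, nat_lit 10, nat_lit 8, nat_lit 10],
   [nat_lit 13, nat_lit 7, nat_lit 9, nat_lit 13, nat_lit 7],
   [nat_lit 3, nat_lit 4, nat_lit 9, nat_lit 4, nat_lit 1, nat_lit 0],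
   [nat_lit 7, nat_lit 13, nat_lit 9, nat_lit 13, nat_lit 7],
   [nat_lit 4, nat_lit 5, nat_lit 6, nat_lit 9, nat_lit 7],
   [nat_lit 3, nat_lit 4, nat_lit 9, nat_lit 0, nat_lit 4, nat_lit 1],
   [nat_lit 0, nat_lit 8, nat_lit 0, nat_lit 8, nat_lit 0],
   [nat_lit 0, nat_lit 1, nat_lit 3, nat_lit 9, nat_lit 4, nat_lit 3],
   [nat_lit 4, nat_lit 3, nat_lit 9, nat_lit 4, nat_lit 1, nat_lit 0],
   [nat_lit 7, nat_lit 1, nat_lit 9, nat_lit 4, nat_lit 7, nat_lit 2],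
   [nat_lit 14, nat_lit 13, nat_lit 6, nat_lit 9, nat_lit 15, nat_lit 14, nat_lit 13, nat_lit 15],
   [nat_lit 11, nat_lit 9, nat_lit 11, nat_lit 12, nat_lit 0, nat_lit 1, nat_lit 2, nat_lit 12, nat_lit 11],
   [nat_lit 11, nat_lit 9, nat_lit 11, nat_lit 12, nat_lit 2, nat_lit 1, nat_lit 0, nat_lit 12, nat_lit 11],
   [nat_lit 3, nat_lit 4, nat_lit 9, nat_lit 0, nat_lit 1, nat_lit 4],
   [nat_lit 3, nat_lit 4, nat_lit 9, nat_lit 1, nat_lit 4, nat_lit 0],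
   [nat_lit 4, nat_lit 8, nat_lit 6, nat_lit 8, nat_lit 7],
   [nat_lit 3, nat_lit 11, nat_lit 4, nat_lit 2, nat_lit 12, nat_lit 9, nat_lit 10, nat_lit 12, nat_lit 11, nat_lit 1],
   [nat_lit 5, nat_lit 2, nat_lit 9, nat_lit 1, nat_lit 2],
   [nat_lit 6, nat_lit 1, nat_lit 9, nat_lit 2],
   [nat_lit 1, nat_lit 5, nat_lit 9, nat_lit 2, nat_lit 5],
   [nat_lit 12, nat_lit 9, nat_lit 12, nat_lit 5, nat_lit 11, nat_lit 14, nat_lit 4, nat_lit 3, nat_lit 0, nat_lit 14, nat_lit 11, nat_lit 5, nat_lit 12],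
   [nat_lit 2, nat_lit 9, nat_lit 1, nat_lit 2, nat_lit 6],
   [nat_lit 7, nat_lit 1, nat_lit 9, nat_lit 4, nat_lit 2, nat_lit 7],
   [nat_lit 2, nat_lit 9, nat_lit 6, nat_lit 1, nat_lit 2],
   [nat_lit 1, nat_lit 2, nat_lit 9, nat_lit 1, nat_lit 5],
   [nat_lit 5, nat_lit 1, nat_lit 9, nat_lit 5, nat_lit 2],
   [nat_lit 1, nat_lit 4, nat_lit 5, nat_lit 9, nat_lit 7, nat_lit 2],
   [nat_lit 10, nat_lit 1, nat_lit 0, nat_lit 10, nat_lit 9, nat_lit 4],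
   [nat_lit 1, nat_lit 9, nat_lit 6, nat_lit 2, nat_lit 5],
   [nat_lit 4, nat_lit 6, nat_lit 9, nat_lit 7, nat_lit 6],
   [nat_lit 1, nat_lit 2, nat_lit 9, nat_lit 5, nat_lit 1],
   [nat_lit 3, nat_lit 1, nat_lit 0, nat_lit 9, nat_lit 3, nat_lit 4],
   [nat_lit 1, nat_lit 9, nat_lit 2, nat_lit 5, nat_lit 6],
   [nat_lit 11, nat_lit 9, nat_lit 14, nat_lit 11, nat_lit 15, nat_lit 0, nat_lit 9, nat_lit 10, nat_lit 0, nat_lit 15, nat_lit 11, nat_lit 1, nat_lit 2, nat_lit 14, nat_lit 11, nat_lit 1],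
   [nat_lit 5, nat_lit 2, nat_lit 9, nat_lit 2, nat_lit 1],
   [nat_lit 2, nat_lit 1, nat_lit 9, nat_lit 1, nat_lit 5],
   [nat_lit 1, nat_lit 3, nat_lit 0, nat_lit 9, nat_lit 3, nat_lit 4],
   [nat_lit 2, nat_lit 1, nat_lit 9, nat_lit 5, nat_lit 1],
   [nat_lit 2, nat_lit 5, nat_lit 9, nat_lit 1, nat_lit 2],
   [nat_lit 3, nat_lit 1, nat_lit 0, nat_lit 9, nat_lit 4, nat_lit 3],
   [nat_lit 10, nat_lit 0, nat_lit 1, nat_lit 10, nat_lit 9, nat_lit 4],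
   [nat_lit 5, nat_lit 1, nat_lit 9, nat_lit 2, nat_lit 5],
   [nat_lit 1, nat_lit 7, nat_lit 9, nat_lit 2, nat_lit 4, nat_lit 7],
   [nat_lit 4, nat_lit 3, nat_lit 9, nat_lit 1, nat_lit 4, nat_lit 0],
   [nat_lit 1, nat_lit 9, nat_lit 5, nat_lit 6, nat_lit 2],
   [nat_lit 0, nat_lit 3, nat_lit 1, nat_lit 9, nat_lit 3, nat_lit 4],
   [nat_lit 0, nat_lit 1, nat_lit 6, nat_lit 0, nat_lit 9, nat_lit 2],
   [nat_lit 4, nat_lit 2, nat_lit 1, nat_lit 9, nat_lit 1, nat_lit 7],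
   [nat_lit 6, nat_lit 8, nat_lit 7, nat_lit 8, nat_lit 4],
   [nat_lit 5, nat_lit 4, nat_lit 1, nat_lit 9, nat_lit 2, nat_lit 7],
   [nat_lit 7, nat_lit 10, nat_lit 0, nat_lit 5, nat_lit 11, nat_lit 8, nat_lit 5, nat_lit 11],
   [nat_lit 4, nat_lit 1, nat_lit 9, nat_lit 7, nat_lit 2, nat_lit 6],
   [nat_lit 0, nat_lit 15, nat_lit 11, nat_lit 14, nat_lit 8, nat_lit 11, nat_lit 9, nat_lit 1, nat_lit 11, nat_lit 14, nat_lit 2, nat_lit 1, nat_lit 11, nat_lit 15, nat_lit 0, nat_lit 10],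
   [nat_lit 1, nat_lit 15, nat_lit 11, nat_lit 14, nat_lit 11, nat_lit 0, nat_lit 3, nat_lit 11, nat_lit 0, nat_lit 9, nat_lit 14, nat_lit 0, nat_lit 11, nat_lit 15, nat_lit 0, nat_lit 4],
   [nat_lit 1, nat_lit 9, nat_lit 6, nat_lit 5, nat_lit 2],
   [nat_lit 14, nat_lit 0, nat_lit 3, nat_lit 5, nat_lit 8, nat_lit 12, nat_lit 8, nat_lit 13, nat_lit 12, nat_lit 9, nat_lit 13, nat_lit 12, nat_lit 8, nat_lit 14],
   [nat_lit 2, nat_lit 5, nat_lit 9, nat_lit 2, nat_lit 1],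
   [nat_lit 11, nat_lit 12, nat_lit 1, nat_lit 11, nat_lit 12, nat_lit 8, nat_lit 11, nat_lit 2, nat_lit 1, nat_lit 11, nat_lit 12],
   [nat_lit 12, nat_lit 10, nat_lit 12, nat_lit 15, nat_lit 11, nat_lit 2, nat_lit 11, nat_lit 15, nat_lit 12, nat_lit 10, nat_lit 12, nat_lit 15],
   [nat_lit 11, nat_lit 9, nat_lit 7, nat_lit 11, nat_lit 14, nat_lit 0, nat_lit 3, nat_lit 6, nat_lit 3, nat_lit 14, nat_lit 11, nat_lit 7],
   [nat_lit 7, nat_lit 1, nat_lit 14, nat_lit 12, nat_lit 14, nat_lit 11, nat_lit 14, nat_lit 12, nat_lit 14, nat_lit 2, nat_lit 4, nat_lit 11],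
   [nat_lit 1, nat_lit 9, nat_lit 5, nat_lit 2, nat_lit 6],
   [nat_lit 1, nat_lit 9, nat_lit 14, nat_lit 2, nat_lit 14],
   [nat_lit 0, nat_lit 1, nat_lit 3, nat_lit 9, nat_lit 3, nat_lit 4],
   [nat_lit 5, nat_lit 4, nat_lit 6, nat_lit 9, nat_lit 7],
   [nat_lit 4, nat_lit 5, nat_lit 1, nat_lit 9, nat_lit 7, nat_lit 2],
   [nat_lit 6, nat_lit 4, nat_lit 9, nat_lit 6, nat_lit 7],
   [nat_lit 6, nat_lit 9, nat_lit 15, nat_lit 6, nat_lit 15],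
   [nat_lit 6, nat_lit 4, nat_lit 5, nat_lit 9, nat_lit 7],
   [nat_lit 15, nat_lit 1, nat_lit 8, nat_lit 6, nat_lit 15, nat_lit 2],
   [nat_lit 0, nat_lit 3, nat_lit 1, nat_lit 9, nat_lit 4, nat_lit 3],
   [nat_lit 15, nat_lit 6, nat_lit 8, nat_lit 15, nat_lit 5],
   [nat_lit 1, nat_lit 13, nat_lit 7, nat_lit 1, nat_lit 9, nat_lit 13],
   [nat_lit 7, nat_lit 1, nat_lit 9, nat_lit 7, nat_lit 4, nat_lit 2],
   [nat_lit 6, nat_lit 15, nat_lit 2, nat_lit 8, nat_lit 15, nat_lit 1],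
   [nat_lit 1, nat_lit 7, nat_lit 9, nat_lit 2, nat_lit 7, nat_lit 4],
   [nat_lit 1, nat_lit 3, nat_lit 0, nat_lit 9, nat_lit 4, nat_lit 3],
   [nat_lit 6, nat_lit 5, nat_lit 2, nat_lit 1, nat_lit 9, nat_lit 1],
   [nat_lit 1, nat_lit 0, nat_lit 3, nat_lit 9, nat_lit 4, nat_lit 3],
   [nat_lit 3, nat_lit 0, nat_lit 1, nat_lit 9, nat_lit 3, nat_lit 4],
   [nat_lit 14, nat_lit 1, nat_lit 2, nat_lit 14, nat_lit 9, nat_lit 1],
   [nat_lit 12, nat_lit 13, nat_lit 9, nat_lit 12, nat_lit 9, nat_lit 5, nat_lit 3, nat_lit 0, nat_lit 14, nat_lit 9, nat_lit 14, nat_lit 9, nat_lit 12, nat_lit 13],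
   [nat_lit 4, nat_lit 3, nat_lit 9, nat_lit 1, nat_lit 0, nat_lit 4],
   [nat_lit 1, nat_lit 4, nat_lit 2, nat_lit 9, nat_lit 1, nat_lit 7],
   [nat_lit 3, nat_lit 0, nat_lit 1, nat_lit 9, nat_lit 4, nat_lit 3],
   [nat_lit 2, nat_lit 4, nat_lit 1, nat_lit 9, nat_lit 7, nat_lit 1],
   [nat_lit 1, nat_lit 4, nat_lit 9, nat_lit 6, nat_lit 2, nat_lit 7],
   [nat_lit 4, nat_lit 1, nat_lit 9, nat_lit 7, nat_lit 6, nat_lit 2],
   [nat_lit 5, nat_lit 4, nat_lit 1, nat_lit 9, nat_lit 7, nat_lit 2],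
   [nat_lit 7, nat_lit 9, nat_lit 2, nat_lit 10, nat_lit 6, nat_lit 10, nat_lit 1],
   [nat_lit 6, nat_lit 5, nat_lit 4, nat_lit 9, nat_lit 7],
   [nat_lit 11, nat_lit 2, nat_lit 1, nat_lit 11, nat_lit 12, nat_lit 8, nat_lit 11, nat_lit 12, nat_lit 1, nat_lit 11, nat_lit 12],
   [nat_lit 1, nat_lit 5, nat_lit 6, nat_lit 2, nat_lit 9, nat_lit 1],
   [nat_lit 4, nat_lit 3, nat_lit 9, nat_lit 0, nat_lit 1, nat_lit 4],
   [nat_lit 6, nat_lit 15, nat_lit 8, nat_lit 6, nat_lit 15],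
   [nat_lit 7, nat_lit 9, nat_lit 1, nat_lit 10, nat_lit 6, nat_lit 10, nat_lit 2],
   [nat_lit 4, nat_lit 11, nat_lit 3, nat_lit 11, nat_lit 1, nat_lit 5, nat_lit 9, nat_lit 10],
   [nat_lit 2, nat_lit 6, nat_lit 5, nat_lit 1, nat_lit 9, nat_lit 1],
   [nat_lit 15, nat_lit 6, nat_lit 15, nat_lit 9, nat_lit 5],
   [nat_lit 1, nat_lit 14, nat_lit 2, nat_lit 14, nat_lit 9, nat_lit 1],
   [nat_lit 4, nat_lit 3, nat_lit 9, nat_lit 0, nat_lit 4, nat_lit 1],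
   [nat_lit 6, nat_lit 1, nat_lit 2, nat_lit 5, nat_lit 9, nat_lit 1],
   [nat_lit 0, nat_lit 13, nat_lit 0, nat_lit 9, nat_lit 13, nat_lit 7],
   [nat_lit 0, nat_lit 6, nat_lit 1, nat_lit 0, nat_lit 9, nat_lit 2],
   [nat_lit 14, nat_lit 1, nat_lit 6, nat_lit 14, nat_lit 9, nat_lit 2],
   [nat_lit 14, nat_lit 6, nat_lit 1, nat_lit 14, nat_lit 9, nat_lit 2],
   [nat_lit 14, nat_lit 2, nat_lit 1, nat_lit 14, nat_lit 9, nat_lit 1],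
   [nat_lit 0, nat_lit 13, nat_lit 0, nat_lit 9, nat_lit 7, nat_lit 13],
   [nat_lit 1, nat_lit 5, nat_lit 4, nat_lit 9, nat_lit 2, nat_lit 7],
   [nat_lit 5, nat_lit 1, nat_lit 11, nat_lit 3, nat_lit 11, nat_lit 4, nat_lit 9, nat_lit 10],
   [nat_lit 4, nat_lit 1, nat_lit 9, nat_lit 2, nat_lit 7, nat_lit 6],
   [nat_lit 6, nat_lit 2, nat_lit 1, nat_lit 5, nat_lit 9, nat_lit 1],
   [nat_lit 1, nat_lit 0, nat_lit 3, nat_lit 9, nat_lit 3, nat_lit 4],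
   [nat_lit 14, nat_lit 2, nat_lit 14, nat_lit 1, nat_lit 9, nat_lit 1],
   [nat_lit 13, nat_lit 7, nat_lit 9, nat_lit 0, nat_lit 13, nat_lit 0],
   [nat_lit 5, nat_lit 2, nat_lit 1, nat_lit 6, nat_lit 9, nat_lit 1],
   [nat_lit 1, nat_lit 4, nat_lit 5, nat_lit 9, nat_lit 2, nat_lit 7],
   [nat_lit 2, nat_lit 6, nat_lit 9, nat_lit 1, nat_lit 2, nat_lit 5],
   [nat_lit 3, nat_lit 4, nat_lit 9, nat_lit 4, nat_lit 0, nat_lit 1]],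
  [[nat_lit 4, nat_lit 10, nat_lit 3, nat_lit 4],
   [nat_lit 5, nat_lit 10, nat_lit 1, nat_lit 4],
   [nat_lit 3, nat_lit 4, nat_lit 10, nat_lit 4],
   [nat_lit 1, nat_lit 4, nat_lit 10, nat_lit 5],
   [nat_lit 3, nat_lit 10, nat_lit 3],
   [nat_lit 5, nat_lit 10, nat_lit 4, nat_lit 1],
   [nat_lit 9, nat_lit 10, nat_lit 9, nat_lit 10, nat_lit 9],
   [nat_lit 8, nat_lit 10, nat_lit 8, nat_lit 10, nat_lit 8],
   [nat_lit 4, nat_lit 10, nat_lit 4, nat_lit 3],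
   [nat_lit 4, nat_lit 5, nat_lit 10, nat_lit 3, nat_lit 1],
   [nat_lit 15, nat_lit 5, nat_lit 10, nat_lit 5, nat_lit 15],
   [nat_lit 1, nat_lit 10, nat_lit 4, nat_lit 3, nat_lit 5],
   [nat_lit 6, nat_lit 10, nat_lit 13, nat_lit 1, nat_lit 2, nat_lit 13],
   [nat_lit 4, nat_lit 15, nat_lit 5, nat_lit 1, nat_lit 10, nat_lit 15],
   [nat_lit 7, nat_lit 10, nat_lit 5, nat_lit 0, nat_lit 3, nat_lit 5],
   [nat_lit 7, nat_lit 10, nat_lit 12, nat_lit 5, nat_lit 12, nat_lit 0],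
   [nat_lit 1, nat_lit 15, nat_lit 10, nat_lit 1, nat_lit 3, nat_lit 15],
   [nat_lit 7, nat_lit 0, nat_lit 10, nat_lit 0, nat_lit 7],
   [nat_lit 11, nat_lit 3, nat_lit 11, nat_lit 10, nat_lit 11, nat_lit 3, nat_lit 11],
   [nat_lit 2, nat_lit 11, nat_lit 5, nat_lit 4, nat_lit 1, nat_lit 11, nat_lit 0],
   [nat_lit 15, nat_lit 5, nat_lit 10, nat_lit 15, nat_lit 5],
   [nat_lit 8, nat_lit 5, nat_lit 1, nat_lit 11, nat_lit 3, nat_lit 11, nat_lit 4, nat_lit 9],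
   [nat_lit 11, nat_lit 10, nat_lit 6, nat_lit 13, nat_lit 1, nat_lit 11, nat_lit 14, nat_lit 1, nat_lit 13, nat_lit 6, nat_lit 14],
   [nat_lit 0, nat_lit 11, nat_lit 1, nat_lit 4, nat_lit 5, nat_lit 11, nat_lit 2],
   [nat_lit 5, nat_lit 15, nat_lit 10, nat_lit 5, nat_lit 15],
   [nat_lit 4, nat_lit 1, nat_lit 10, nat_lit 5],
   [nat_lit 2, nat_lit 0, nat_lit 10, nat_lit 2, nat_lit 0],
   [nat_lit 4, nat_lit 3, nat_lit 10, nat_lit 4],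
   [nat_lit 7, nat_lit 1, nat_lit 10, nat_lit 0, nat_lit 5, nat_lit 4],
   [nat_lit 1, nat_lit 10, nat_lit 14, nat_lit 12, nat_lit 5, nat_lit 12, nat_lit 14],
   [nat_lit 13, nat_lit 2, nat_lit 1, nat_lit 13, nat_lit 10, nat_lit 6],
   [nat_lit 17],
   [nat_lit 11, nat_lit 10, nat_lit 11, nat_lit 10, nat_lit 11, nat_lit 10, nat_lit 11],
   [nat_lit 15, nat_lit 10, nat_lit 1, nat_lit 5, nat_lit 15, nat_lit 4],
   [nat_lit 1, nat_lit 10, nat_lit 5, nat_lit 4, nat_lit 3],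
   [nat_lit 1, nat_lit 3, nat_lit 10, nat_lit 5, nat_lit 4],
   [nat_lit 7, nat_lit 0, nat_lit 10, nat_lit 7, nat_lit 0],
   [nat_lit 5, nat_lit 4, nat_lit 10, nat_lit 1, nat_lit 3],
   [nat_lit 7, nat_lit 2, nat_lit 10, nat_lit 2, nat_lit 7],
   [nat_lit 15, nat_lit 10, nat_lit 15, nat_lit 5, nat_lit 1, nat_lit 4],
   [nat_lit 2, nat_lit 0, nat_lit 10, nat_lit 0, nat_lit 2],
   [nat_lit 7, nat_lit 10, nat_lit 6, nat_lit 3, nat_lit 6, nat_lit 0],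
   [nat_lit 3, nat_lit 4, nat_lit 5, nat_lit 10, nat_lit 1],
   [nat_lit 15, nat_lit 10, nat_lit 4, nat_lit 15, nat_lit 5, nat_lit 1],
   [nat_lit 15, nat_lit 10, nat_lit 4, nat_lit 1, nat_lit 5, nat_lit 15],
   [nat_lit 15, nat_lit 10, nat_lit 1, nat_lit 4, nat_lit 5, nat_lit 15],
   [nat_lit 15, nat_lit 10, nat_lit 5, nat_lit 1, nat_lit 4, nat_lit 15],
   [nat_lit 15, nat_lit 10, nat_lit 15, nat_lit 5, nat_lit 4, nat_lit 1],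
   [nat_lit 1, nat_lit 15, nat_lit 10, nat_lit 3, nat_lit 1, nat_lit 15],
   [nat_lit 15, nat_lit 5, nat_lit 1, nat_lit 4, nat_lit 10, nat_lit 15],
   [nat_lit 1, nat_lit 10, nat_lit 3, nat_lit 4, nat_lit 5],
   [nat_lit 15, nat_lit 10, nat_lit 15, nat_lit 4, nat_lit 1, nat_lit 5],
   [nat_lit 0, nat_lit 7, nat_lit 10, nat_lit 0, nat_lit 7],
   [nat_lit 0, nat_lit 10, nat_lit 6, nat_lit 7, nat_lit 3, nat_lit 6],
   [nat_lit 15, nat_lit 1, nat_lit 3, nat_lit 10, nat_lit 1, nat_lit 15],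
   [nat_lit 15, nat_lit 3, nat_lit 1, nat_lit 10, nat_lit 15, nat_lit 1],
   [nat_lit 0, nat_lit 10, nat_lit 6, nat_lit 3, nat_lit 7, nat_lit 6],
   [nat_lit 15, nat_lit 1, nat_lit 10, nat_lit 15, nat_lit 1, nat_lit 3],
   [nat_lit 0, nat_lit 2, nat_lit 10, nat_lit 0, nat_lit 2],
   [nat_lit 15, nat_lit 5, nat_lit 4, nat_lit 1, nat_lit 10, nat_lit 15],
   [nat_lit 0, nat_lit 1, nat_lit 4, nat_lit 0, nat_lit 10, nat_lit 5],
   [nat_lit 0, nat_lit 4, nat_lit 3, nat_lit 0, nat_lit 10, nat_lit 4],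
   [nat_lit 7, nat_lit 2, nat_lit 10, nat_lit 7, nat_lit 2],
   [nat_lit 0, nat_lit 2, nat_lit 10, nat_lit 2, nat_lit 0],
   [nat_lit 0, nat_lit 3, nat_lit 4, nat_lit 0, nat_lit 10, nat_lit 4],
   [nat_lit 7, nat_lit 9, nat_lit 11, nat_lit 5, nat_lit 9, nat_lit 11, nat_lit 5, nat_lit 0],
   [nat_lit 0, nat_lit 5, nat_lit 11, nat_lit 8, nat_lit 5, nat_lit 11, nat_lit 8, nat_lit 7],
   [nat_lit 2, nat_lit 7, nat_lit 10, nat_lit 2, nat_lit 7],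
   [nat_lit 13, nat_lit 10, nat_lit 13, nat_lit 10, nat_lit 13, nat_lit 10, nat_lit 14, nat_lit 13, nat_lit 14],
   [nat_lit 2, nat_lit 0, nat_lit 11, nat_lit 14, nat_lit 2, nat_lit 0, nat_lit 1, nat_lit 14, nat_lit 11],
   [nat_lit 11, nat_lit 14, nat_lit 1, nat_lit 0, nat_lit 2, nat_lit 14, nat_lit 11, nat_lit 0, nat_lit 2],
   [nat_lit 0, nat_lit 4, nat_lit 1, nat_lit 0, nat_lit 10, nat_lit 5],
   [nat_lit 13, nat_lit 10, nat_lit 13, nat_lit 10, nat_lit 14, nat_lit 13, nat_lit 14, nat_lit 10, nat_lit 13],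
   [nat_lit 8, nat_lit 12, nat_lit 2, nat_lit 4, nat_lit 11, nat_lit 3, nat_lit 9, nat_lit 1, nat_lit 11, nat_lit 12],
   [nat_lit 7, nat_lit 10, nat_lit 0, nat_lit 12, nat_lit 5, nat_lit 12],
   [nat_lit 6, nat_lit 10, nat_lit 2, nat_lit 8, nat_lit 7, nat_lit 9, nat_lit 1],
   [nat_lit 6, nat_lit 10, nat_lit 13, nat_lit 2, nat_lit 1, nat_lit 13],
   [nat_lit 0, nat_lit 7, nat_lit 10, nat_lit 7, nat_lit 0],
   [nat_lit 0, nat_lit 10, nat_lit 6, nat_lit 3, nat_lit 6, nat_lit 7],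
   [nat_lit 4, nat_lit 5, nat_lit 0, nat_lit 10, nat_lit 1, nat_lit 7],
   [nat_lit 0, nat_lit 4, nat_lit 5, nat_lit 10, nat_lit 7, nat_lit 1],
   [nat_lit 2, nat_lit 10, nat_lit 14, nat_lit 11, nat_lit 14, nat_lit 0, nat_lit 2, nat_lit 4, nat_lit 5, nat_lit 14, nat_lit 11, nat_lit 2, nat_lit 14],
   [nat_lit 11, nat_lit 10, nat_lit 14, nat_lit 5, nat_lit 4, nat_lit 1, nat_lit 14, nat_lit 10, nat_lit 11, nat_lit 5, nat_lit 12, nat_lit 7, nat_lit 12],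
   [nat_lit 11, nat_lit 9, nat_lit 14, nat_lit 6, nat_lit 11, nat_lit 15, nat_lit 10, nat_lit 7, nat_lit 8, nat_lit 10, nat_lit 0, nat_lit 15, nat_lit 11, nat_lit 14, nat_lit 11, nat_lit 7],
   [nat_lit 4, nat_lit 10, nat_lit 15, nat_lit 0, nat_lit 15, nat_lit 0],
   [nat_lit 7, nat_lit 1, nat_lit 10, nat_lit 0, nat_lit 4, nat_lit 5],
   [nat_lit 0, nat_lit 15, nat_lit 0, nat_lit 15, nat_lit 10, nat_lit 4],
   [nat_lit 15, nat_lit 4, nat_lit 1, nat_lit 5, nat_lit 10, nat_lit 15],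
   [nat_lit 12, nat_lit 5, nat_lit 12, nat_lit 0, nat_lit 10, nat_lit 7],
   [nat_lit 4, nat_lit 1, nat_lit 5, nat_lit 15, nat_lit 10, nat_lit 15],
   [nat_lit 0, nat_lit 4, nat_lit 10, nat_lit 15, nat_lit 7, nat_lit 15],
   [nat_lit 15, nat_lit 7, nat_lit 15, nat_lit 10, nat_lit 4, nat_lit 0],
   [nat_lit 5, nat_lit 10, nat_lit 6, nat_lit 4, nat_lit 1, nat_lit 6],
   [nat_lit 1, nat_lit 10, nat_lit 5, nat_lit 3, nat_lit 4],
   [nat_lit 1, nat_lit 5, nat_lit 15, nat_lit 4, nat_lit 10, nat_lit 15],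
   [nat_lit 0, nat_lit 10, nat_lit 7, nat_lit 6, nat_lit 3, nat_lit 6],
   [nat_lit 4, nat_lit 10, nat_lit 0, nat_lit 4, nat_lit 3, nat_lit 0],
   [nat_lit 1, nat_lit 7, nat_lit 1, nat_lit 10, nat_lit 3, nat_lit 0],
   [nat_lit 15, nat_lit 1, nat_lit 3, nat_lit 10, nat_lit 15, nat_lit 1],
   [nat_lit 2, nat_lit 7, nat_lit 10, nat_lit 7, nat_lit 2],
   [nat_lit 5, nat_lit 0, nat_lit 4, nat_lit 10, nat_lit 1, nat_lit 7],
   [nat_lit 13, nat_lit 1, nat_lit 2, nat_lit 13, nat_lit 10, nat_lit 6],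
   [nat_lit 1, nat_lit 3, nat_lit 7, nat_lit 1, nat_lit 10, nat_lit 0],
   [nat_lit 0, nat_lit 10, nat_lit 1, nat_lit 7, nat_lit 3, nat_lit 1],
   [nat_lit 6, nat_lit 13, nat_lit 1, nat_lit 11, nat_lit 14, nat_lit 1, nat_lit 13, nat_lit 6, nat_lit 14, nat_lit 10, nat_lit 11],
   [nat_lit 4, nat_lit 3, nat_lit 5, nat_lit 10, nat_lit 1],
   [nat_lit 7, nat_lit 10, nat_lit 5, nat_lit 0, nat_lit 5, nat_lit 3],
   [nat_lit 1, nat_lit 5, nat_lit 10, nat_lit 3, nat_lit 5, nat_lit 1],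
   [nat_lit 0, nat_lit 10, nat_lit 1, nat_lit 7, nat_lit 1, nat_lit 3],
   [nat_lit 12, nat_lit 11, nat_lit 1, nat_lit 8, nat_lit 3, nat_lit 11, nat_lit 4, nat_lit 2, nat_lit 12, nat_lit 9],
   [nat_lit 4, nat_lit 5, nat_lit 10, nat_lit 1, nat_lit 3],
   [nat_lit 5, nat_lit 1, nat_lit 4, nat_lit 5, nat_lit 10, nat_lit 5],
   [nat_lit 1, nat_lit 7, nat_lit 10, nat_lit 4, nat_lit 5, nat_lit 0],
   [nat_lit 0, nat_lit 10, nat_lit 1, nat_lit 3, nat_lit 7, nat_lit 1],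
   [nat_lit 5, nat_lit 3, nat_lit 4, nat_lit 10, nat_lit 1],
   [nat_lit 12, nat_lit 15, nat_lit 11, nat_lit 2, nat_lit 11, nat_lit 15, nat_lit 12, nat_lit 10, nat_lit 12, nat_lit 9, nat_lit 15, nat_lit 12],
   [nat_lit 12, nat_lit 9, nat_lit 15, nat_lit 12, nat_lit 10, nat_lit 12, nat_lit 15, nat_lit 11, nat_lit 2, nat_lit 11, nat_lit 15, nat_lit 12],
   [nat_lit 1, nat_lit 7, nat_lit 10, nat_lit 5, nat_lit 0, nat_lit 4],
   [nat_lit 7, nat_lit 1, nat_lit 10, nat_lit 4, nat_lit 0, nat_lit 5],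
   [nat_lit 12, nat_lit 15, nat_lit 8, nat_lit 12, nat_lit 10, nat_lit 12, nat_lit 15, nat_lit 11, nat_lit 2, nat_lit 11, nat_lit 15, nat_lit 12],
   [nat_lit 14, nat_lit 10, nat_lit 13, nat_lit 10, nat_lit 14, nat_lit 0, nat_lit 10, nat_lit 13, nat_lit 3, nat_lit 10, nat_lit 14, nat_lit 10, nat_lit 13],
   [nat_lit 12, nat_lit 15, nat_lit 12, nat_lit 10, nat_lit 14, nat_lit 10, nat_lit 5, nat_lit 12, nat_lit 3, nat_lit 15, nat_lit 12, nat_lit 10, nat_lit 15, nat_lit 14, nat_lit 15],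
   [nat_lit 4, nat_lit 10, nat_lit 0, nat_lit 3, nat_lit 4, nat_lit 0],
   [nat_lit 0, nat_lit 6, nat_lit 3, nat_lit 6, nat_lit 10, nat_lit 7],
   [nat_lit 6, nat_lit 3, nat_lit 7, nat_lit 6, nat_lit 10, nat_lit 0],
   [nat_lit 7, nat_lit 10, nat_lit 6, nat_lit 0, nat_lit 3, nat_lit 6],
   [nat_lit 13, nat_lit 0, nat_lit 13, nat_lit 10, nat_lit 0, nat_lit 7],
   [nat_lit 3, nat_lit 1, nat_lit 10, nat_lit 5, nat_lit 4],
   [nat_lit 7, nat_lit 10, nat_lit 3, nat_lit 5, nat_lit 0, nat_lit 5],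
   [nat_lit 2, nat_lit 8, nat_lit 7, nat_lit 9, nat_lit 1, nat_lit 10, nat_lit 6],
   [nat_lit 5, nat_lit 4, nat_lit 10, nat_lit 3, nat_lit 1],
   [nat_lit 7, nat_lit 6, nat_lit 3, nat_lit 6, nat_lit 10, nat_lit 0],
   [nat_lit 5, nat_lit 10, nat_lit 6, nat_lit 1, nat_lit 4, nat_lit 6],
   [nat_lit 6, nat_lit 10, nat_lit 1, nat_lit 8, nat_lit 7, nat_lit 9, nat_lit 2],
   [nat_lit 3, nat_lit 7, nat_lit 10, nat_lit 5, nat_lit 0, nat_lit 5],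
   [nat_lit 0, nat_lit 1, nat_lit 10, nat_lit 9, nat_lit 4, nat_lit 8],
   [nat_lit 6, nat_lit 3, nat_lit 6, nat_lit 0, nat_lit 10, nat_lit 7],
   [nat_lit 5, nat_lit 1, nat_lit 10, nat_lit 1, nat_lit 5, nat_lit 3],
   [nat_lit 6, nat_lit 7, nat_lit 3, nat_lit 6, nat_lit 10, nat_lit 0],
   [nat_lit 5, nat_lit 0, nat_lit 3, nat_lit 5, nat_lit 10, nat_lit 7],
   [nat_lit 1, nat_lit 0, nat_lit 10, nat_lit 9, nat_lit 4, nat_lit 8],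
   [nat_lit 5, nat_lit 10, nat_lit 0, nat_lit 1, nat_lit 4, nat_lit 0],
   [nat_lit 5, nat_lit 4, nat_lit 3, nat_lit 10, nat_lit 1],
   [nat_lit 3, nat_lit 5, nat_lit 0, nat_lit 5, nat_lit 10, nat_lit 7],
   [nat_lit 6, nat_lit 3, nat_lit 6, nat_lit 7, nat_lit 10, nat_lit 0],
   [nat_lit 7, nat_lit 3, nat_lit 10, nat_lit 5, nat_lit 0, nat_lit 5],
   [nat_lit 7, nat_lit 10, nat_lit 0, nat_lit 6, nat_lit 3, nat_lit 6],
   [nat_lit 6, nat_lit 4, nat_lit 1, nat_lit 6, nat_lit 10, nat_lit 5],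
   [nat_lit 1, nat_lit 7, nat_lit 10, nat_lit 5, nat_lit 4, nat_lit 0],
   [nat_lit 7, nat_lit 11, nat_lit 14, nat_lit 11, nat_lit 15, nat_lit 0, nat_lit 10, nat_lit 9, nat_lit 7, nat_lit 10, nat_lit 15, nat_lit 11, nat_lit 6, nat_lit 14, nat_lit 8, nat_lit 11],
   [nat_lit 8, nat_lit 0, nat_lit 15, nat_lit 11, nat_lit 14, nat_lit 8, nat_lit 11, nat_lit 9, nat_lit 1, nat_lit 11, nat_lit 14, nat_lit 2, nat_lit 1, nat_lit 11, nat_lit 15, nat_lit 0],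
   [nat_lit 7, nat_lit 15, nat_lit 11, nat_lit 14, nat_lit 11, nat_lit 4, nat_lit 6, nat_lit 5, nat_lit 11, nat_lit 8, nat_lit 14, nat_lit 5, nat_lit 11, nat_lit 15, nat_lit 0, nat_lit 9],
   [nat_lit 8, nat_lit 0, nat_lit 15, nat_lit 11, nat_lit 5, nat_lit 14, nat_lit 9, nat_lit 11, nat_lit 5, nat_lit 6, nat_lit 4, nat_lit 11, nat_lit 14, nat_lit 11, nat_lit 15, nat_lit 7],
   [nat_lit 1, nat_lit 3, nat_lit 10, nat_lit 4, nat_lit 5],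
   [nat_lit 7, nat_lit 0, nat_lit 10, nat_lit 13, nat_lit 0, nat_lit 13],
   [nat_lit 0, nat_lit 3, nat_lit 10, nat_lit 1, nat_lit 7, nat_lit 1],
   [nat_lit 1, nat_lit 7, nat_lit 3, nat_lit 1, nat_lit 10, nat_lit 0],
   [nat_lit 11, nat_lit 10, nat_lit 14, nat_lit 6, nat_lit 13, nat_lit 1, nat_lit 14, nat_lit 11, nat_lit 1, nat_lit 13, nat_lit 6],
   [nat_lit 8, nat_lit 4, nat_lit 11, nat_lit 3, nat_lit 11, nat_lit 1, nat_lit 5, nat_lit 9],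
   [nat_lit 4, nat_lit 0, nat_lit 10, nat_lit 15, nat_lit 7, nat_lit 15],
   [nat_lit 5, nat_lit 15, nat_lit 10, nat_lit 15, nat_lit 5],
   [nat_lit 11, nat_lit 10, nat_lit 14, nat_lit 2, nat_lit 1, nat_lit 0, nat_lit 14, nat_lit 10, nat_lit 11, nat_lit 0, nat_lit 2],
   [nat_lit 9, nat_lit 4, nat_lit 8, nat_lit 10, nat_lit 1, nat_lit 0],
   [nat_lit 9, nat_lit 4, nat_lit 8, nat_lit 10, nat_lit 0, nat_lit 1],
   [nat_lit 5, nat_lit 1, nat_lit 4, nat_lit 15, nat_lit 10, nat_lit 15],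
   [nat_lit 1, nat_lit 5, nat_lit 3, nat_lit 10, nat_lit 5, nat_lit 1],
   [nat_lit 3, nat_lit 1, nat_lit 10, nat_lit 4, nat_lit 5],
   [nat_lit 0, nat_lit 10, nat_lit 13, nat_lit 12, nat_lit 5, nat_lit 12, nat_lit 13],
   [nat_lit 1, nat_lit 7, nat_lit 1, nat_lit 10, nat_lit 0, nat_lit 3],
   [nat_lit 5, nat_lit 4, nat_lit 0, nat_lit 10, nat_lit 1, nat_lit 7],
   [nat_lit 14, nat_lit 12, nat_lit 5, nat_lit 12, nat_lit 14, nat_lit 10, nat_lit 1],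
   [nat_lit 5, nat_lit 0, nat_lit 5, nat_lit 10, nat_lit 3, nat_lit 7],
   [nat_lit 15, nat_lit 1, nat_lit 10, nat_lit 3, nat_lit 1, nat_lit 15],
   [nat_lit 7, nat_lit 12, nat_lit 5, nat_lit 12, nat_lit 10, nat_lit 0],
   [nat_lit 14, nat_lit 4, nat_lit 1, nat_lit 14, nat_lit 10, nat_lit 5],
   [nat_lit 6, nat_lit 0, nat_lit 3, nat_lit 6, nat_lit 10, nat_lit 7],
   [nat_lit 7, nat_lit 10, nat_lit 5, nat_lit 3, nat_lit 0, nat_lit 5],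
   [nat_lit 15, nat_lit 7, nat_lit 15, nat_lit 10, nat_lit 0, nat_lit 4],
   [nat_lit 6, nat_lit 3, nat_lit 0, nat_lit 6, nat_lit 10, nat_lit 7],
   [nat_lit 0, nat_lit 10, nat_lit 12, nat_lit 5, nat_lit 12, nat_lit 7],
   [nat_lit 7, nat_lit 10, nat_lit 6, nat_lit 3, nat_lit 0, nat_lit 6],
   [nat_lit 3, nat_lit 0, nat_lit 10, nat_lit 1, nat_lit 7, nat_lit 1],
   [nat_lit 6, nat_lit 1, nat_lit 4, nat_lit 6, nat_lit 10, nat_lit 5],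
   [nat_lit 3, nat_lit 1, nat_lit 5, nat_lit 10, nat_lit 5, nat_lit 1],
   [nat_lit 0, nat_lit 5, nat_lit 4, nat_lit 10, nat_lit 7, nat_lit 1],
   [nat_lit 11, nat_lit 10, nat_lit 5, nat_lit 11, nat_lit 14, nat_lit 9, nat_lit 0, nat_lit 8, nat_lit 14, nat_lit 11, nat_lit 5],
   [nat_lit 14, nat_lit 10, nat_lit 5, nat_lit 12, nat_lit 3, nat_lit 15, nat_lit 12, nat_lit 10, nat_lit 15, nat_lit 14, nat_lit 15, nat_lit 10, nat_lit 12, nat_lit 15, nat_lit 12],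
   [nat_lit 15, nat_lit 14, nat_lit 15, nat_lit 10, nat_lit 12, nat_lit 15, nat_lit 3, nat_lit 12, nat_lit 5, nat_lit 10, nat_lit 14, nat_lit 10, nat_lit 12, nat_lit 15, nat_lit 12],
   [nat_lit 13, nat_lit 0, nat_lit 13, nat_lit 10, nat_lit 7, nat_lit 0],
   [nat_lit 1, nat_lit 8, nat_lit 7, nat_lit 9, nat_lit 2, nat_lit 10, nat_lit 6],
   [nat_lit 0, nat_lit 7, nat_lit 10, nat_lit 13, nat_lit 0, nat_lit 13],
   [nat_lit 13, nat_lit 10, nat_lit 14, nat_lit 13, nat_lit 14, nat_lit 10, nat_lit 13, nat_lit 10, nat_lit 13],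
   [nat_lit 3, nat_lit 1, nat_lit 7, nat_lit 1, nat_lit 10, nat_lit 0],
   [nat_lit 5, nat_lit 10, nat_lit 14, nat_lit 4, nat_lit 1, nat_lit 14],
   [nat_lit 15, nat_lit 0, nat_lit 15, nat_lit 0, nat_lit 10, nat_lit 4],
   [nat_lit 0, nat_lit 10, nat_lit 3, nat_lit 1, nat_lit 7, nat_lit 1],
   [nat_lit 1, nat_lit 3, nat_lit 15, nat_lit 10, nat_lit 1, nat_lit 15],
   [nat_lit 4, nat_lit 0, nat_lit 5, nat_lit 10, nat_lit 7, nat_lit 1],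
   [nat_lit 15, nat_lit 1, nat_lit 10, nat_lit 15, nat_lit 3, nat_lit 1],
   [nat_lit 0, nat_lit 10, nat_lit 7, nat_lit 12, nat_lit 5, nat_lit 12],
   [nat_lit 5, nat_lit 0, nat_lit 5, nat_lit 10, nat_lit 7, nat_lit 3],
   [nat_lit 12, nat_lit 5, nat_lit 12, nat_lit 7, nat_lit 10, nat_lit 0],
   [nat_lit 0, nat_lit 12, nat_lit 5, nat_lit 12, nat_lit 10, nat_lit 7],
   [nat_lit 1, nat_lit 4, nat_lit 5, nat_lit 15, nat_lit 10, nat_lit 15],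
   [nat_lit 5, nat_lit 0, nat_lit 5, nat_lit 3, nat_lit 10, nat_lit 7],
   [nat_lit 14, nat_lit 13, nat_lit 14, nat_lit 10, nat_lit 13, nat_lit 10, nat_lit 13, nat_lit 10, nat_lit 13],
   [nat_lit 3, nat_lit 5, nat_lit 1, nat_lit 10, nat_lit 1, nat_lit 5],
   [nat_lit 5, nat_lit 3, nat_lit 0, nat_lit 5, nat_lit 10, nat_lit 7],
   [nat_lit 3, nat_lit 1, nat_lit 15, nat_lit 10, nat_lit 1, nat_lit 15],
   [nat_lit 14, nat_lit 1, nat_lit 4, nat_lit 14, nat_lit 10, nat_lit 5],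
   [nat_lit 5, nat_lit 10, nat_lit 14, nat_lit 1, nat_lit 4, nat_lit 14],
   [nat_lit 4, nat_lit 10, nat_lit 0, nat_lit 15, nat_lit 0, nat_lit 15],
   [nat_lit 13, nat_lit 12, nat_lit 5, nat_lit 12, nat_lit 13, nat_lit 10, nat_lit 0],
   [nat_lit 5, nat_lit 1, nat_lit 10, nat_lit 3, nat_lit 1, nat_lit 5],
   [nat_lit 5, nat_lit 1, nat_lit 3, nat_lit 10, nat_lit 1, nat_lit 5],
   [nat_lit 5, nat_lit 10, nat_lit 0, nat_lit 4, nat_lit 1, nat_lit 0],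
   [nat_lit 5, nat_lit 4, nat_lit 1, nat_lit 5, nat_lit 10, nat_lit 5],
   [nat_lit 3, nat_lit 1, nat_lit 15, nat_lit 10, nat_lit 15, nat_lit 1],
   [nat_lit 1, nat_lit 7, nat_lit 1, nat_lit 3, nat_lit 10, nat_lit 0]],
  [[nat_lit 13, nat_lit 11, nat_lit 13],
   [nat_lit 5, nat_lit 11, nat_lit 5, nat_lit 11, nat_lit 5],
   [nat_lit 15, nat_lit 5, nat_lit 11, nat_lit 15, nat_lit 5, nat_lit 11, nat_lit 5, nat_lit 15],
   [nat_lit 2, nat_lit 11, nat_lit 5, nat_lit 11, nat_lit 2, nat_lit 11, nat_lit 5, nat_lit 2],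
   [nat_lit 0, nat_lit 9, nat_lit 11, nat_lit 12, nat_lit 15, nat_lit 1, nat_lit 15, nat_lit 12, nat_lit 11, nat_lit 8, nat_lit 0],
   [nat_lit 9, nat_lit 11, nat_lit 12, nat_lit 0, nat_lit 1, nat_lit 2, nat_lit 12, nat_lit 11, nat_lit 8],
   [nat_lit 5, nat_lit 9, nat_lit 11, nat_lit 5, nat_lit 0, nat_lit 10, nat_lit 7, nat_lit 9],
   [nat_lit 5, nat_lit 2, nat_lit 11, nat_lit 2, nat_lit 11, nat_lit 5, nat_lit 11, nat_lit 2],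
   [nat_lit 9, nat_lit 11, nat_lit 12, nat_lit 2, nat_lit 1, nat_lit 0, nat_lit 12, nat_lit 11, nat_lit 8],
   [nat_lit 10, nat_lit 5, nat_lit 11, nat_lit 14, nat_lit 9, nat_lit 0, nat_lit 8, nat_lit 14, nat_lit 11, nat_lit 5, nat_lit 10],
   [nat_lit 5, nat_lit 0, nat_lit 11, nat_lit 14, nat_lit 4, nat_lit 10, nat_lit 0, nat_lit 10, nat_lit 14, nat_lit 11, nat_lit 0, nat_lit 5],
   [nat_lit 3, nat_lit 0, nat_lit 11, nat_lit 14, nat_lit 11, nat_lit 15, nat_lit 1, nat_lit 9, nat_lit 4, nat_lit 0, nat_lit 15, nat_lit 11, nat_lit 0, nat_lit 14, nat_lit 8, nat_lit 0],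
   [nat_lit 2, nat_lit 10, nat_lit 0, nat_lit 11, nat_lit 1, nat_lit 4, nat_lit 5],
   [nat_lit 0, nat_lit 10, nat_lit 2, nat_lit 11, nat_lit 5, nat_lit 4, nat_lit 1],
   [nat_lit 1, nat_lit 4, nat_lit 5, nat_lit 11, nat_lit 2, nat_lit 10, nat_lit 0],
   [nat_lit 8, nat_lit 5, nat_lit 11, nat_lit 8, nat_lit 7, nat_lit 10, nat_lit 0, nat_lit 5],
   [nat_lit 0, nat_lit 11, nat_lit 0, nat_lit 11, nat_lit 0, nat_lit 11, nat_lit 0],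
   [nat_lit 3, nat_lit 11, nat_lit 10, nat_lit 11, nat_lit 3, nat_lit 11, nat_lit 10],
   [nat_lit 2, nat_lit 11, nat_lit 2, nat_lit 11, nat_lit 2, nat_lit 11, nat_lit 2],
   [nat_lit 3, nat_lit 11, nat_lit 1, nat_lit 5, nat_lit 9, nat_lit 10, nat_lit 8, nat_lit 4],
   [nat_lit 2, nat_lit 11, nat_lit 2, nat_lit 5, nat_lit 11, nat_lit 2, nat_lit 11, nat_lit 5],
   [nat_lit 4, nat_lit 9, nat_lit 10, nat_lit 8, nat_lit 5, nat_lit 1, nat_lit 11, nat_lit 3],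
   [nat_lit 2, nat_lit 11, nat_lit 5, nat_lit 11, nat_lit 2, nat_lit 11, nat_lit 2, nat_lit 5],
   [nat_lit 8, nat_lit 7, nat_lit 10, nat_lit 0, nat_lit 5, nat_lit 11, nat_lit 8, nat_lit 5],
   [nat_lit 2, nat_lit 5, nat_lit 11, nat_lit 2, nat_lit 11, nat_lit 5, nat_lit 11, nat_lit 2],
   [nat_lit 3, nat_lit 11, nat_lit 4, nat_lit 9, nat_lit 10, nat_lit 8, nat_lit 5, nat_lit 1],
   [nat_lit 0, nat_lit 11, nat_lit 12, nat_lit 11, nat_lit 0, nat_lit 11, nat_lit 12, nat_lit 2],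
   [nat_lit 15, nat_lit 5, nat_lit 11, nat_lit 5, nat_lit 15, nat_lit 11, nat_lit 5, nat_lit 15],
   [nat_lit 2, nat_lit 11, nat_lit 0, nat_lit 11, nat_lit 2, nat_lit 11, nat_lit 0],
   [nat_lit 0, nat_lit 11, nat_lit 2, nat_lit 11, nat_lit 0, nat_lit 11, nat_lit 2],
   [nat_lit 10, nat_lit 14, nat_lit 6, nat_lit 13, nat_lit 1, nat_lit 14, nat_lit 11, nat_lit 1, nat_lit 13, nat_lit 6, nat_lit 10],
   [nat_lit 10, nat_lit 11, nat_lit 10, nat_lit 11, nat_lit 10, nat_lit 11, nat_lit 10],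
   [nat_lit 5, nat_lit 4, nat_lit 1, nat_lit 11, nat_lit 0, nat_lit 10, nat_lit 2],
   [nat_lit 12, nat_lit 1, nat_lit 11, nat_lit 12, nat_lit 8, nat_lit 11, nat_lit 2, nat_lit 1, nat_lit 11, nat_lit 12, nat_lit 8],
   [nat_lit 2, nat_lit 11, nat_lit 8, nat_lit 12, nat_lit 11, nat_lit 14, nat_lit 1, nat_lit 6, nat_lit 14, nat_lit 11, nat_lit 12, nat_lit 9],
   [nat_lit 5, nat_lit 0, nat_lit 11, nat_lit 14, nat_lit 10, nat_lit 0, nat_lit 10, nat_lit 4, nat_lit 14, nat_lit 11, nat_lit 0, nat_lit 5],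
   [nat_lit 9, nat_lit 7, nat_lit 11, nat_lit 14, nat_lit 3, nat_lit 6, nat_lit 3, nat_lit 0, nat_lit 14, nat_lit 11, nat_lit 7, nat_lit 8],
   [nat_lit 9, nat_lit 7, nat_lit 11, nat_lit 14, nat_lit 0, nat_lit 3, nat_lit 6, nat_lit 3, nat_lit 14, nat_lit 11, nat_lit 7, nat_lit 8],
   [nat_lit 7, nat_lit 5, nat_lit 11, nat_lit 14, nat_lit 10, nat_lit 6, nat_lit 0, nat_lit 10, nat_lit 1, nat_lit 14, nat_lit 11, nat_lit 5, nat_lit 7],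
   [nat_lit 7, nat_lit 5, nat_lit 11, nat_lit 14, nat_lit 1, nat_lit 10, nat_lit 0, nat_lit 6, nat_lit 10, nat_lit 14, nat_lit 11, nat_lit 5, nat_lit 7],
   [nat_lit 17],
   [nat_lit 15, nat_lit 5, nat_lit 11, nat_lit 5, nat_lit 15, nat_lit 11, nat_lit 15, nat_lit 5],
   [nat_lit 4, nat_lit 2, nat_lit 12, nat_lit 9, nat_lit 10, nat_lit 12, nat_lit 11, nat_lit 1, nat_lit 8, nat_lit 3],
   [nat_lit 10, nat_lit 11, nat_lit 3, nat_lit 11, nat_lit 10, nat_lit 11, nat_lit 3],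
   [nat_lit 5, nat_lit 0, nat_lit 10, nat_lit 7, nat_lit 9, nat_lit 11, nat_lit 5, nat_lit 9],
   [nat_lit 1, nat_lit 5, nat_lit 9, nat_lit 10, nat_lit 8, nat_lit 4, nat_lit 11, nat_lit 3],
   [nat_lit 0, nat_lit 11, nat_lit 1, nat_lit 11, nat_lit 0, nat_lit 11, nat_lit 0, nat_lit 2, nat_lit 6],
   [nat_lit 2, nat_lit 11, nat_lit 15, nat_lit 12, nat_lit 10, nat_lit 12, nat_lit 15, nat_lit 8, nat_lit 12, nat_lit 10, nat_lit 12, nat_lit 15],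
   [nat_lit 12, nat_lit 2, nat_lit 11, nat_lit 0, nat_lit 11, nat_lit 12, nat_lit 11, nat_lit 0],
   [nat_lit 1, nat_lit 12, nat_lit 11, nat_lit 9, nat_lit 12, nat_lit 11, nat_lit 1, nat_lit 2, nat_lit 11, nat_lit 9, nat_lit 12],
   [nat_lit 0, nat_lit 11, nat_lit 12, nat_lit 11, nat_lit 0, nat_lit 11, nat_lit 2, nat_lit 12],
   [nat_lit 3, nat_lit 11, nat_lit 15, nat_lit 11, nat_lit 4, nat_lit 14, nat_lit 9, nat_lit 11, nat_lit 9, nat_lit 6, nat_lit 11, nat_lit 10, nat_lit 14, nat_lit 11, nat_lit 15],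
   [nat_lit 0, nat_lit 11, nat_lit 3, nat_lit 2, nat_lit 11, nat_lit 0, nat_lit 11, nat_lit 7],
   [nat_lit 0, nat_lit 11, nat_lit 2, nat_lit 3, nat_lit 11, nat_lit 0, nat_lit 11, nat_lit 7],
   [nat_lit 2, nat_lit 11, nat_lit 5, nat_lit 2, nat_lit 11, nat_lit 2, nat_lit 11, nat_lit 5],
   [nat_lit 7, nat_lit 11, nat_lit 0, nat_lit 11, nat_lit 3, nat_lit 2, nat_lit 11, nat_lit 0],
   [nat_lit 0, nat_lit 11, nat_lit 7, nat_lit 11, nat_lit 0, nat_lit 11, nat_lit 2, nat_lit 3],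
   [nat_lit 7, nat_lit 11, nat_lit 0, nat_lit 11, nat_lit 2, nat_lit 3, nat_lit 11, nat_lit 0],
   [nat_lit 3, nat_lit 2, nat_lit 11, nat_lit 0, nat_lit 11, nat_lit 7, nat_lit 11, nat_lit 0],
   [nat_lit 0, nat_lit 11, nat_lit 1, nat_lit 11, nat_lit 0, nat_lit 11, nat_lit 6, nat_lit 2, nat_lit 0],
   [nat_lit 1, nat_lit 11, nat_lit 0, nat_lit 11, nat_lit 0, nat_lit 2, nat_lit 6, nat_lit 11, nat_lit 0],
   [nat_lit 6, nat_lit 2, nat_lit 0, nat_lit 11, nat_lit 0, nat_lit 11, nat_lit 1, nat_lit 11, nat_lit 0],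
   [nat_lit 9, nat_lit 1, nat_lit 11, nat_lit 14, nat_lit 2, nat_lit 1, nat_lit 11, nat_lit 15, nat_lit 0, nat_lit 10, nat_lit 8, nat_lit 0, nat_lit 15, nat_lit 11, nat_lit 14, nat_lit 8],
   [nat_lit 10, nat_lit 7, nat_lit 11, nat_lit 14, nat_lit 11, nat_lit 15, nat_lit 0, nat_lit 10, nat_lit 9, nat_lit 7, nat_lit 10, nat_lit 15, nat_lit 11, nat_lit 6, nat_lit 14, nat_lit 8],
   [nat_lit 12, nat_lit 13, nat_lit 3, nat_lit 11, nat_lit 1, nat_lit 9, nat_lit 1, nat_lit 15, nat_lit 11, nat_lit 13, nat_lit 12, nat_lit 13, nat_lit 11, nat_lit 15, nat_lit 13, nat_lit 4, nat_lit 2],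
   [nat_lit 0, nat_lit 11, nat_lit 12, nat_lit 2, nat_lit 11, nat_lit 0, nat_lit 11, nat_lit 12],
   [nat_lit 12, nat_lit 11, nat_lit 0, nat_lit 11, nat_lit 2, nat_lit 12, nat_lit 11, nat_lit 0],
   [nat_lit 2, nat_lit 3, nat_lit 7, nat_lit 11, nat_lit 12, nat_lit 7, nat_lit 3, nat_lit 12],
   [nat_lit 2, nat_lit 3, nat_lit 11, nat_lit 0, nat_lit 11, nat_lit 7, nat_lit 11, nat_lit 0],
   [nat_lit 0, nat_lit 11, nat_lit 0, nat_lit 2, nat_lit 6, nat_lit 11, nat_lit 0, nat_lit 11, nat_lit 1],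
   [nat_lit 10, nat_lit 2, nat_lit 0, nat_lit 11, nat_lit 14, nat_lit 2, nat_lit 0, nat_lit 1, nat_lit 14],
   [nat_lit 12, nat_lit 8, nat_lit 11, nat_lit 2, nat_lit 1, nat_lit 11, nat_lit 12, nat_lit 8, nat_lit 11, nat_lit 12, nat_lit 1],
   [nat_lit 7, nat_lit 3, nat_lit 2, nat_lit 11, nat_lit 12, nat_lit 3, nat_lit 7, nat_lit 12],
   [nat_lit 12, nat_lit 11, nat_lit 0, nat_lit 11, nat_lit 12, nat_lit 2, nat_lit 11, nat_lit 0],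
   [nat_lit 12, nat_lit 10, nat_lit 8, nat_lit 12, nat_lit 2, nat_lit 4, nat_lit 11, nat_lit 3, nat_lit 9, nat_lit 1],
   [nat_lit 2, nat_lit 1, nat_lit 11, nat_lit 12, nat_lit 8, nat_lit 11, nat_lit 12, nat_lit 1, nat_lit 11, nat_lit 12, nat_lit 8],
   [nat_lit 14, nat_lit 1, nat_lit 0, nat_lit 2, nat_lit 14, nat_lit 11, nat_lit 0, nat_lit 2, nat_lit 10],
   [nat_lit 14, nat_lit 12, nat_lit 14, nat_lit 2, nat_lit 4, nat_lit 11, nat_lit 8, nat_lit 7, nat_lit 1, nat_lit 14, nat_lit 12, nat_lit 14],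
   [nat_lit 9, nat_lit 12, nat_lit 11, nat_lit 1, nat_lit 2, nat_lit 11, nat_lit 9, nat_lit 12, nat_lit 11, nat_lit 1, nat_lit 12],
   [nat_lit 5, nat_lit 15, nat_lit 11, nat_lit 15, nat_lit 5, nat_lit 11, nat_lit 5, nat_lit 15],
   [nat_lit 14, nat_lit 11, nat_lit 14, nat_lit 11, nat_lit 14, nat_lit 11, nat_lit 14, nat_lit 11, nat_lit 14],
   [nat_lit 0, nat_lit 11, nat_lit 2, nat_lit 12, nat_lit 11, nat_lit 0, nat_lit 11, nat_lit 12],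
   [nat_lit 8, nat_lit 11, nat_lit 9, nat_lit 11, nat_lit 12, nat_lit 2, nat_lit 1, nat_lit 0, nat_lit 12],
   [nat_lit 10, nat_lit 6, nat_lit 13, nat_lit 1, nat_lit 11, nat_lit 14, nat_lit 1, nat_lit 13, nat_lit 6, nat_lit 14, nat_lit 10],
   [nat_lit 0, nat_lit 11, nat_lit 6, nat_lit 2, nat_lit 0, nat_lit 11, nat_lit 0, nat_lit 11, nat_lit 1],
   [nat_lit 5, nat_lit 15, nat_lit 11, nat_lit 15, nat_lit 5, nat_lit 11, nat_lit 15, nat_lit 5],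
   [nat_lit 12, nat_lit 3, nat_lit 7, nat_lit 12, nat_lit 11, nat_lit 7, nat_lit 3, nat_lit 2],
   [nat_lit 10, nat_lit 2, nat_lit 0, nat_lit 11, nat_lit 12, nat_lit 10, nat_lit 14, nat_lit 3, nat_lit 6, nat_lit 3, nat_lit 14, nat_lit 10, nat_lit 12],
   [nat_lit 14, nat_lit 12, nat_lit 14, nat_lit 1, nat_lit 7, nat_lit 9, nat_lit 11, nat_lit 4, nat_lit 2, nat_lit 14, nat_lit 12, nat_lit 14],
   [nat_lit 8, nat_lit 7, nat_lit 1, nat_lit 14, nat_lit 12, nat_lit 14, nat_lit 11, nat_lit 14, nat_lit 12, nat_lit 14, nat_lit 2, nat_lit 4],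
   [nat_lit 12, nat_lit 7, nat_lit 3, nat_lit 12, nat_lit 11, nat_lit 2, nat_lit 3, nat_lit 7],
   [nat_lit 15, nat_lit 12, nat_lit 10, nat_lit 12, nat_lit 15, nat_lit 8, nat_lit 12, nat_lit 10, nat_lit 12, nat_lit 15, nat_lit 11, nat_lit 2],
   [nat_lit 0, nat_lit 11, nat_lit 7, nat_lit 11, nat_lit 0, nat_lit 11, nat_lit 3, nat_lit 2],
   [nat_lit 1, nat_lit 11, nat_lit 0, nat_lit 11, nat_lit 6, nat_lit 2, nat_lit 0, nat_lit 11, nat_lit 0],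
   [nat_lit 0, nat_lit 2, nat_lit 10, nat_lit 11, nat_lit 14, nat_lit 1, nat_lit 0, nat_lit 2, nat_lit 14],
   [nat_lit 10, nat_lit 2, nat_lit 0, nat_lit 11, nat_lit 10, nat_lit 14, nat_lit 0, nat_lit 1, nat_lit 2, nat_lit 14, nat_lit 10],
   [nat_lit 4, nat_lit 2, nat_lit 14, nat_lit 12, nat_lit 14, nat_lit 11, nat_lit 14, nat_lit 12, nat_lit 14, nat_lit 1, nat_lit 7, nat_lit 9],
   [nat_lit 6, nat_lit 8, nat_lit 11, nat_lit 8, nat_lit 14, nat_lit 4, nat_lit 11, nat_lit 15, nat_lit 11, nat_lit 3, nat_lit 11, nat_lit 15, nat_lit 11, nat_lit 14, nat_lit 10],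
   [nat_lit 3, nat_lit 11, nat_lit 15, nat_lit 11, nat_lit 14, nat_lit 10, nat_lit 11, nat_lit 6, nat_lit 8, nat_lit 11, nat_lit 8, nat_lit 14, nat_lit 4, nat_lit 11, nat_lit 15],
   [nat_lit 0, nat_lit 2, nat_lit 6, nat_lit 11, nat_lit 0, nat_lit 11, nat_lit 1, nat_lit 11, nat_lit 0],
   [nat_lit 10, nat_lit 14, nat_lit 11, nat_lit 15, nat_lit 11, nat_lit 3, nat_lit 11, nat_lit 15, nat_lit 11, nat_lit 4, nat_lit 14, nat_lit 9, nat_lit 11, nat_lit 9, nat_lit 6],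
   [nat_lit 14, nat_lit 11, nat_lit 15, nat_lit 0, nat_lit 10, nat_lit 9, nat_lit 7, nat_lit 10, nat_lit 15, nat_lit 11, nat_lit 6, nat_lit 14, nat_lit 8, nat_lit 11, nat_lit 10, nat_lit 7],
   [nat_lit 7, nat_lit 10, nat_lit 11, nat_lit 9, nat_lit 14, nat_lit 6, nat_lit 11, nat_lit 15, nat_lit 10, nat_lit 7, nat_lit 8, nat_lit 10, nat_lit 0, nat_lit 15, nat_lit 11, nat_lit 14],
   [nat_lit 9, nat_lit 14, nat_lit 11, nat_lit 15, nat_lit 0, nat_lit 9, nat_lit 10, nat_lit 0, nat_lit 15, nat_lit 11, nat_lit 1, nat_lit 2, nat_lit 14, nat_lit 11, nat_lit 1, nat_lit 8],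
   [nat_lit 0, nat_lit 3, nat_lit 11, nat_lit 0, nat_lit 9, nat_lit 14, nat_lit 0, nat_lit 11, nat_lit 15, nat_lit 0, nat_lit 4, nat_lit 8, nat_lit 1, nat_lit 15, nat_lit 11, nat_lit 14],
   [nat_lit 1, nat_lit 8, nat_lit 11, nat_lit 9, nat_lit 14, nat_lit 11, nat_lit 15, nat_lit 0, nat_lit 9, nat_lit 10, nat_lit 0, nat_lit 15, nat_lit 11, nat_lit 1, nat_lit 2, nat_lit 14],
   [nat_lit 14, nat_lit 11, nat_lit 15, nat_lit 7, nat_lit 10, nat_lit 8, nat_lit 0, nat_lit 15, nat_lit 11, nat_lit 5, nat_lit 14, nat_lit 9, nat_lit 11, nat_lit 5, nat_lit 6, nat_lit 4],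
   [nat_lit 9, nat_lit 6, nat_lit 11, nat_lit 10, nat_lit 14, nat_lit 11, nat_lit 15, nat_lit 11, nat_lit 3, nat_lit 11, nat_lit 15, nat_lit 11, nat_lit 4, nat_lit 14, nat_lit 9],
   [nat_lit 4, nat_lit 2, nat_lit 4, nat_lit 0, nat_lit 11, nat_lit 14, nat_lit 7, nat_lit 3, nat_lit 6, nat_lit 5, nat_lit 0, nat_lit 14],
   [nat_lit 0, nat_lit 3, nat_lit 11, nat_lit 2, nat_lit 9, nat_lit 14, nat_lit 11, nat_lit 15, nat_lit 0, nat_lit 8, nat_lit 7, nat_lit 10, nat_lit 15, nat_lit 11, nat_lit 6, nat_lit 14],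
   [nat_lit 4, nat_lit 6, nat_lit 5, nat_lit 11, nat_lit 8, nat_lit 14, nat_lit 5, nat_lit 11, nat_lit 15, nat_lit 0, nat_lit 9, nat_lit 10, nat_lit 7, nat_lit 15, nat_lit 11, nat_lit 14],
   [nat_lit 5, nat_lit 6, nat_lit 4, nat_lit 11, nat_lit 14, nat_lit 11, nat_lit 15, nat_lit 7, nat_lit 10, nat_lit 8, nat_lit 0, nat_lit 15, nat_lit 11, nat_lit 5, nat_lit 14, nat_lit 9],
   [nat_lit 3, nat_lit 0, nat_lit 11, nat_lit 14, nat_lit 6, nat_lit 11, nat_lit 15, nat_lit 10, nat_lit 7, nat_lit 9, nat_lit 0, nat_lit 15, nat_lit 11, nat_lit 14, nat_lit 8, nat_lit 2],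
   [nat_lit 14, nat_lit 2, nat_lit 0, nat_lit 1, nat_lit 14, nat_lit 11, nat_lit 10, nat_lit 2, nat_lit 0],
   [nat_lit 12, nat_lit 0, nat_lit 1, nat_lit 2, nat_lit 12, nat_lit 11, nat_lit 8, nat_lit 11, nat_lit 9],
   [nat_lit 8, nat_lit 11, nat_lit 9, nat_lit 11, nat_lit 12, nat_lit 0, nat_lit 1, nat_lit 2, nat_lit 12],
   [nat_lit 2, nat_lit 12, nat_lit 11, nat_lit 0, nat_lit 11, nat_lit 12, nat_lit 11, nat_lit 0],
   [nat_lit 0, nat_lit 4, nat_lit 2, nat_lit 4, nat_lit 11, nat_lit 14, nat_lit 0, nat_lit 5, nat_lit 6, nat_lit 3, nat_lit 7, nat_lit 14],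
   [nat_lit 10, nat_lit 14, nat_lit 2, nat_lit 1, nat_lit 0, nat_lit 14, nat_lit 10, nat_lit 11, nat_lit 0, nat_lit 2, nat_lit 10],
   [nat_lit 10, nat_lit 14, nat_lit 0, nat_lit 1, nat_lit 2, nat_lit 14, nat_lit 10, nat_lit 11, nat_lit 10, nat_lit 2, nat_lit 0],
   [nat_lit 5, nat_lit 11, nat_lit 2, nat_lit 11, nat_lit 2, nat_lit 5, nat_lit 11, nat_lit 2],
   [nat_lit 5, nat_lit 15, nat_lit 11, nat_lit 5, nat_lit 15, nat_lit 11, nat_lit 15, nat_lit 5],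
   [nat_lit 5, nat_lit 11, nat_lit 2, nat_lit 11, nat_lit 5, nat_lit 2, nat_lit 11, nat_lit 2],
   [nat_lit 12, nat_lit 2, nat_lit 1, nat_lit 0, nat_lit 12, nat_lit 11, nat_lit 8, nat_lit 11, nat_lit 9],
   [nat_lit 1, nat_lit 8, nat_lit 3, nat_lit 11, nat_lit 4, nat_lit 2, nat_lit 12, nat_lit 9, nat_lit 10, nat_lit 12]],
  [[nat_lit 4, nat_lit 12, nat_lit 1, nat_lit 4, nat_lit 3],
   [nat_lit 3, nat_lit 12, nat_lit 0, nat_lit 5, nat_lit 0],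
   [nat_lit 4, nat_lit 12, nat_lit 4, nat_lit 1, nat_lit 3],
   [nat_lit 4, nat_lit 12, nat_lit 4, nat_lit 3, nat_lit 1],
   [nat_lit 0, nat_lit 12, nat_lit 7, nat_lit 1, nat_lit 3, nat_lit 6],
   [nat_lit 0, nat_lit 5, nat_lit 12, nat_lit 1, nat_lit 6, nat_lit 7],
   [nat_lit 0, nat_lit 12, nat_lit 6, nat_lit 1, nat_lit 3, nat_lit 7],
   [nat_lit 3, nat_lit 6, nat_lit 7, nat_lit 1, nat_lit 12, nat_lit 0],
   [nat_lit 0, nat_lit 1, nat_lit 12, nat_lit 5, nat_lit 6, nat_lit 7],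
   [nat_lit 15, nat_lit 12, nat_lit 15, nat_lit 12, nat_lit 15, nat_lit 12, nat_lit 15],
   [nat_lit 14, nat_lit 12, nat_lit 14, nat_lit 12, nat_lit 14, nat_lit 12, nat_lit 14],
   [nat_lit 13, nat_lit 12, nat_lit 13, nat_lit 12, nat_lit 13, nat_lit 12, nat_lit 13],
   [nat_lit 14, nat_lit 15, nat_lit 12, nat_lit 15, nat_lit 14, nat_lit 12, nat_lit 14, nat_lit 15, nat_lit 12, nat_lit 15, nat_lit 14],
   [nat_lit 9, nat_lit 12, nat_lit 5, nat_lit 11, nat_lit 14, nat_lit 0, nat_lit 3, nat_lit 4, nat_lit 14, nat_lit 11, nat_lit 5, nat_lit 12, nat_lit 8],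
   [nat_lit 9, nat_lit 3, nat_lit 12, nat_lit 11, nat_lit 14, nat_lit 0, nat_lit 3, nat_lit 4, nat_lit 14, nat_lit 11, nat_lit 12, nat_lit 3, nat_lit 8],
   [nat_lit 9, nat_lit 12, nat_lit 5, nat_lit 11, nat_lit 14, nat_lit 4, nat_lit 3, nat_lit 0, nat_lit 14, nat_lit 11, nat_lit 5, nat_lit 12, nat_lit 8],
   [nat_lit 4, nat_lit 9, nat_lit 12, nat_lit 11, nat_lit 14, nat_lit 8, nat_lit 7, nat_lit 9, nat_lit 14, nat_lit 11, nat_lit 12, nat_lit 8, nat_lit 4],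
   [nat_lit 3, nat_lit 12, nat_lit 11, nat_lit 10, nat_lit 14, nat_lit 13, nat_lit 1, nat_lit 13, nat_lit 6, nat_lit 14, nat_lit 11, nat_lit 5, nat_lit 10],
   [nat_lit 9, nat_lit 3, nat_lit 12, nat_lit 11, nat_lit 14, nat_lit 4, nat_lit 3, nat_lit 0, nat_lit 14, nat_lit 11, nat_lit 12, nat_lit 3, nat_lit 8],
   [nat_lit 4, nat_lit 12, nat_lit 1, nat_lit 3, nat_lit 4],
   [nat_lit 6, nat_lit 3, nat_lit 6, nat_lit 12, nat_lit 5],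
   [nat_lit 2, nat_lit 12, nat_lit 2],
   [nat_lit 3, nat_lit 1, nat_lit 12, nat_lit 3, nat_lit 1],
   [nat_lit 5, nat_lit 3, nat_lit 12, nat_lit 3, nat_lit 5],
   [nat_lit 5, nat_lit 12, nat_lit 6, nat_lit 3, nat_lit 6],
   [nat_lit 1, nat_lit 5, nat_lit 12, nat_lit 1, nat_lit 5],
   [nat_lit 5, nat_lit 3, nat_lit 12, nat_lit 5, nat_lit 3],
   [nat_lit 1, nat_lit 5, nat_lit 12, nat_lit 5, nat_lit 1],
   [nat_lit 1, nat_lit 4, nat_lit 3, nat_lit 12, nat_lit 4],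
   [nat_lit 3, nat_lit 5, nat_lit 12, nat_lit 5, nat_lit 3],
   [nat_lit 3, nat_lit 4, nat_lit 1, nat_lit 12, nat_lit 4],
   [nat_lit 5, nat_lit 1, nat_lit 12, nat_lit 1, nat_lit 5],
   [nat_lit 4, nat_lit 12, nat_lit 3, nat_lit 4, nat_lit 1],
   [nat_lit 6, nat_lit 7, nat_lit 1, nat_lit 12, nat_lit 5, nat_lit 0],
   [nat_lit 7, nat_lit 6, nat_lit 1, nat_lit 12, nat_lit 5, nat_lit 0],
   [nat_lit 4, nat_lit 1, nat_lit 3, nat_lit 12, nat_lit 4],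
   [nat_lit 4, nat_lit 12, nat_lit 3, nat_lit 1, nat_lit 4],
   [nat_lit 1, nat_lit 3, nat_lit 4, nat_lit 12, nat_lit 4],
   [nat_lit 0, nat_lit 5, nat_lit 0, nat_lit 12, nat_lit 3],
   [nat_lit 3, nat_lit 1, nat_lit 12, nat_lit 1, nat_lit 3],
   [nat_lit 0, nat_lit 12, nat_lit 3, nat_lit 7, nat_lit 1, nat_lit 6],
   [nat_lit 1, nat_lit 3, nat_lit 12, nat_lit 1, nat_lit 3],
   [nat_lit 6, nat_lit 7, nat_lit 5, nat_lit 12, nat_lit 1, nat_lit 0],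
   [nat_lit 0, nat_lit 12, nat_lit 6, nat_lit 3, nat_lit 1, nat_lit 7],
   [nat_lit 3, nat_lit 5, nat_lit 12, nat_lit 3, nat_lit 5],
   [nat_lit 7, nat_lit 6, nat_lit 5, nat_lit 12, nat_lit 1, nat_lit 0],
   [nat_lit 7, nat_lit 1, nat_lit 12, nat_lit 2, nat_lit 1, nat_lit 7],
   [nat_lit 0, nat_lit 12, nat_lit 7, nat_lit 3, nat_lit 6, nat_lit 1],
   [nat_lit 6, nat_lit 7, nat_lit 5, nat_lit 12, nat_lit 0, nat_lit 1],
   [nat_lit 0, nat_lit 1, nat_lit 12, nat_lit 7, nat_lit 6, nat_lit 5],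
   [nat_lit 1, nat_lit 3, nat_lit 12, nat_lit 3, nat_lit 1],
   [nat_lit 0, nat_lit 1, nat_lit 12, nat_lit 6, nat_lit 5, nat_lit 7],
   [nat_lit 7, nat_lit 1, nat_lit 12, nat_lit 1, nat_lit 2, nat_lit 7],
   [nat_lit 6, nat_lit 1, nat_lit 3, nat_lit 7, nat_lit 12, nat_lit 0],
   [nat_lit 7, nat_lit 1, nat_lit 12, nat_lit 1, nat_lit 7, nat_lit 2],
   [nat_lit 0, nat_lit 12, nat_lit 1, nat_lit 7, nat_lit 6, nat_lit 3],
   [nat_lit 7, nat_lit 1, nat_lit 2, nat_lit 12, nat_lit 1, nat_lit 7],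
   [nat_lit 5, nat_lit 12, nat_lit 14, nat_lit 10, nat_lit 1, nat_lit 10, nat_lit 14],
   [nat_lit 1, nat_lit 0, nat_lit 12, nat_lit 6, nat_lit 7, nat_lit 5],
   [nat_lit 5, nat_lit 12, nat_lit 0, nat_lit 10, nat_lit 7, nat_lit 10],
   [nat_lit 5, nat_lit 12, nat_lit 7, nat_lit 10, nat_lit 0, nat_lit 10],
   [nat_lit 5, nat_lit 12, nat_lit 10, nat_lit 7, nat_lit 10, nat_lit 0],
   [nat_lit 1, nat_lit 0, nat_lit 12, nat_lit 7, nat_lit 6, nat_lit 5],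
   [nat_lit 0, nat_lit 12, nat_lit 6, nat_lit 1, nat_lit 7, nat_lit 3],
   [nat_lit 11, nat_lit 9, nat_lit 12, nat_lit 11, nat_lit 1, nat_lit 2, nat_lit 11, nat_lit 9, nat_lit 12, nat_lit 11, nat_lit 1],
   [nat_lit 5, nat_lit 12, nat_lit 10, nat_lit 0, nat_lit 10, nat_lit 7],
   [nat_lit 4, nat_lit 3, nat_lit 1, nat_lit 12, nat_lit 4],
   [nat_lit 7, nat_lit 10, nat_lit 0, nat_lit 10, nat_lit 12, nat_lit 5],
   [nat_lit 13, nat_lit 9, nat_lit 12, nat_lit 9, nat_lit 5, nat_lit 3, nat_lit 0, nat_lit 14, nat_lit 9, nat_lit 14, nat_lit 9, nat_lit 12, nat_lit 13, nat_lit 8],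
   [nat_lit 5, nat_lit 6, nat_lit 7, nat_lit 12, nat_lit 0, nat_lit 1],
   [nat_lit 13, nat_lit 12, nat_lit 8, nat_lit 15, nat_lit 13, nat_lit 12, nat_lit 15, nat_lit 9, nat_lit 12, nat_lit 13, nat_lit 15, nat_lit 13, nat_lit 9],
   [nat_lit 0, nat_lit 12, nat_lit 3, nat_lit 6, nat_lit 7, nat_lit 1],
   [nat_lit 17],
   [nat_lit 5, nat_lit 1, nat_lit 12, nat_lit 5, nat_lit 1],
   [nat_lit 0, nat_lit 12, nat_lit 7, nat_lit 3, nat_lit 1, nat_lit 6],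
   [nat_lit 1, nat_lit 7, nat_lit 12, nat_lit 7, nat_lit 2, nat_lit 1],
   [nat_lit 0, nat_lit 12, nat_lit 1, nat_lit 6, nat_lit 7, nat_lit 3],
   [nat_lit 0, nat_lit 12, nat_lit 3, nat_lit 7, nat_lit 6, nat_lit 1],
   [nat_lit 11, nat_lit 0, nat_lit 11, nat_lit 2, nat_lit 12, nat_lit 11, nat_lit 0, nat_lit 11],
   [nat_lit 11, nat_lit 1, nat_lit 12, nat_lit 11, nat_lit 9, nat_lit 12, nat_lit 11, nat_lit 1, nat_lit 2, nat_lit 11, nat_lit 9],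
   [nat_lit 10, nat_lit 8, nat_lit 12, nat_lit 2, nat_lit 4, nat_lit 11, nat_lit 3, nat_lit 9, nat_lit 1, nat_lit 11],
   [nat_lit 9, nat_lit 10, nat_lit 12, nat_lit 11, nat_lit 1, nat_lit 8, nat_lit 3, nat_lit 11, nat_lit 4, nat_lit 2],
   [nat_lit 8, nat_lit 11, nat_lit 2, nat_lit 1, nat_lit 11, nat_lit 12, nat_lit 8, nat_lit 11, nat_lit 12, nat_lit 1, nat_lit 11],
   [nat_lit 11, nat_lit 1, nat_lit 2, nat_lit 11, nat_lit 9, nat_lit 12, nat_lit 11, nat_lit 1, nat_lit 12, nat_lit 11, nat_lit 9],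
   [nat_lit 1, nat_lit 11, nat_lit 12, nat_lit 8, nat_lit 11, nat_lit 2, nat_lit 1, nat_lit 11, nat_lit 12, nat_lit 8, nat_lit 11],
   [nat_lit 10, nat_lit 12, nat_lit 15, nat_lit 8, nat_lit 12, nat_lit 10, nat_lit 12, nat_lit 15, nat_lit 11, nat_lit 2, nat_lit 11, nat_lit 15],
   [nat_lit 3, nat_lit 1, nat_lit 4, nat_lit 12, nat_lit 4],
   [nat_lit 2, nat_lit 1, nat_lit 7, nat_lit 12, nat_lit 7, nat_lit 1],
   [nat_lit 7, nat_lit 6, nat_lit 5, nat_lit 12, nat_lit 0, nat_lit 1],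
   [nat_lit 11, nat_lit 14, nat_lit 0, nat_lit 3, nat_lit 4, nat_lit 14, nat_lit 11, nat_lit 12, nat_lit 3, nat_lit 8, nat_lit 12, nat_lit 9, nat_lit 3],
   [nat_lit 1, nat_lit 0, nat_lit 12, nat_lit 7, nat_lit 5, nat_lit 6],
   [nat_lit 11, nat_lit 0, nat_lit 11, nat_lit 12, nat_lit 11, nat_lit 0, nat_lit 11, nat_lit 2],
   [nat_lit 7, nat_lit 2, nat_lit 1, nat_lit 12, nat_lit 1, nat_lit 7],
   [nat_lit 1, nat_lit 7, nat_lit 2, nat_lit 12, nat_lit 7, nat_lit 1],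
   [nat_lit 2, nat_lit 7, nat_lit 1, nat_lit 12, nat_lit 1, nat_lit 7],
   [nat_lit 10, nat_lit 15, nat_lit 14, nat_lit 15, nat_lit 10, nat_lit 12, nat_lit 15, nat_lit 3, nat_lit 12, nat_lit 5, nat_lit 10, nat_lit 14, nat_lit 10, nat_lit 12, nat_lit 15],
   [nat_lit 1, nat_lit 6, nat_lit 7, nat_lit 12, nat_lit 0, nat_lit 5],
   [nat_lit 0, nat_lit 5, nat_lit 12, nat_lit 1, nat_lit 7, nat_lit 6],
   [nat_lit 15, nat_lit 12, nat_lit 10, nat_lit 15, nat_lit 14, nat_lit 15, nat_lit 10, nat_lit 12, nat_lit 15, nat_lit 3, nat_lit 12, nat_lit 5, nat_lit 10, nat_lit 14, nat_lit 10],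
   [nat_lit 1, nat_lit 7, nat_lit 12, nat_lit 2, nat_lit 7, nat_lit 1],
   [nat_lit 5, nat_lit 6, nat_lit 7, nat_lit 12, nat_lit 1, nat_lit 0],
   [nat_lit 14, nat_lit 2, nat_lit 4, nat_lit 11, nat_lit 8, nat_lit 7, nat_lit 1, nat_lit 14, nat_lit 12, nat_lit 14, nat_lit 11, nat_lit 14],
   [nat_lit 14, nat_lit 11, nat_lit 14, nat_lit 12, nat_lit 14, nat_lit 2, nat_lit 4, nat_lit 11, nat_lit 8, nat_lit 7, nat_lit 1, nat_lit 14],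
   [nat_lit 10, nat_lit 0, nat_lit 10, nat_lit 7, nat_lit 12, nat_lit 5],
   [nat_lit 5, nat_lit 7, nat_lit 6, nat_lit 12, nat_lit 0, nat_lit 1],
   [nat_lit 13, nat_lit 11, nat_lit 15, nat_lit 13, nat_lit 4, nat_lit 2, nat_lit 11, nat_lit 12, nat_lit 13, nat_lit 3, nat_lit 11, nat_lit 1, nat_lit 9, nat_lit 1, nat_lit 15, nat_lit 11, nat_lit 13],
   [nat_lit 13, nat_lit 11, nat_lit 15, nat_lit 1, nat_lit 8, nat_lit 1, nat_lit 11, nat_lit 3, nat_lit 13, nat_lit 12, nat_lit 11, nat_lit 2, nat_lit 4, nat_lit 13, nat_lit 15, nat_lit 11, nat_lit 13],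
   [nat_lit 11, nat_lit 2, nat_lit 4, nat_lit 13, nat_lit 15, nat_lit 11, nat_lit 13, nat_lit 12, nat_lit 13, nat_lit 11, nat_lit 15, nat_lit 1, nat_lit 8, nat_lit 1, nat_lit 11, nat_lit 3, nat_lit 13],
   [nat_lit 1, nat_lit 7, nat_lit 6, nat_lit 12, nat_lit 0, nat_lit 5],
   [nat_lit 11, nat_lit 1, nat_lit 8, nat_lit 3, nat_lit 11, nat_lit 4, nat_lit 2, nat_lit 12, nat_lit 9, nat_lit 10],
   [nat_lit 11, nat_lit 7, nat_lit 3, nat_lit 2, nat_lit 11, nat_lit 12, nat_lit 3, nat_lit 7],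
   [nat_lit 7, nat_lit 3, nat_lit 6, nat_lit 1, nat_lit 12, nat_lit 0],
   [nat_lit 8, nat_lit 11, nat_lit 12, nat_lit 1, nat_lit 11, nat_lit 12, nat_lit 8, nat_lit 11, nat_lit 2, nat_lit 1, nat_lit 11],
   [nat_lit 2, nat_lit 11, nat_lit 0, nat_lit 11, nat_lit 12, nat_lit 11, nat_lit 0, nat_lit 11],
   [nat_lit 11, nat_lit 2, nat_lit 3, nat_lit 7, nat_lit 11, nat_lit 12, nat_lit 7, nat_lit 3],
   [nat_lit 13, nat_lit 15, nat_lit 13, nat_lit 9, nat_lit 12, nat_lit 13, nat_lit 12, nat_lit 8, nat_lit 15, nat_lit 13, nat_lit 12, nat_lit 15, nat_lit 9],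
   [nat_lit 11, nat_lit 0, nat_lit 11, nat_lit 12, nat_lit 2, nat_lit 11, nat_lit 0, nat_lit 11],
   [nat_lit 9, nat_lit 11, nat_lit 14, nat_lit 6, nat_lit 3, nat_lit 7, nat_lit 14, nat_lit 11, nat_lit 12, nat_lit 9, nat_lit 5, nat_lit 3, nat_lit 10],
   [nat_lit 13, nat_lit 12, nat_lit 8, nat_lit 13, nat_lit 15, nat_lit 13, nat_lit 12, nat_lit 8, nat_lit 15, nat_lit 12, nat_lit 13, nat_lit 15, nat_lit 9],
   [nat_lit 13, nat_lit 12, nat_lit 7, nat_lit 12, nat_lit 13, nat_lit 12, nat_lit 7],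
   [nat_lit 13, nat_lit 10, nat_lit 0, nat_lit 10, nat_lit 13, nat_lit 12, nat_lit 5],
   [nat_lit 8, nat_lit 15, nat_lit 13, nat_lit 12, nat_lit 15, nat_lit 13, nat_lit 15, nat_lit 13, nat_lit 12, nat_lit 13, nat_lit 0, nat_lit 8, nat_lit 0, nat_lit 15],
   [nat_lit 5, nat_lit 0, nat_lit 12, nat_lit 7, nat_lit 6, nat_lit 1],
   [nat_lit 2, nat_lit 4, nat_lit 11, nat_lit 3, nat_lit 9, nat_lit 1, nat_lit 11, nat_lit 12, nat_lit 10, nat_lit 8],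
   [nat_lit 15, nat_lit 14, nat_lit 12, nat_lit 14, nat_lit 15, nat_lit 12, nat_lit 15, nat_lit 14, nat_lit 12, nat_lit 14, nat_lit 15],
   [nat_lit 7, nat_lit 3, nat_lit 12, nat_lit 11, nat_lit 2, nat_lit 3, nat_lit 7, nat_lit 11],
   [nat_lit 1, nat_lit 6, nat_lit 3, nat_lit 7, nat_lit 12, nat_lit 0],
   [nat_lit 5, nat_lit 0, nat_lit 12, nat_lit 6, nat_lit 7, nat_lit 1],
   [nat_lit 5, nat_lit 12, nat_lit 13, nat_lit 10, nat_lit 0, nat_lit 10, nat_lit 13],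
   [nat_lit 6, nat_lit 5, nat_lit 7, nat_lit 12, nat_lit 0, nat_lit 1],
   [nat_lit 7, nat_lit 3, nat_lit 1, nat_lit 6, nat_lit 12, nat_lit 0],
   [nat_lit 1, nat_lit 7, nat_lit 12, nat_lit 7, nat_lit 1, nat_lit 2],
   [nat_lit 3, nat_lit 7, nat_lit 1, nat_lit 6, nat_lit 12, nat_lit 0],
   [nat_lit 7, nat_lit 1, nat_lit 6, nat_lit 12, nat_lit 5, nat_lit 0],
   [nat_lit 10, nat_lit 7, nat_lit 10, nat_lit 0, nat_lit 12, nat_lit 5],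
   [nat_lit 14, nat_lit 3, nat_lit 12, nat_lit 5, nat_lit 13, nat_lit 12, nat_lit 14, nat_lit 12, nat_lit 13, nat_lit 12, nat_lit 14, nat_lit 12, nat_lit 13],
   [nat_lit 14, nat_lit 1, nat_lit 7, nat_lit 9, nat_lit 11, nat_lit 4, nat_lit 2, nat_lit 14, nat_lit 12, nat_lit 14, nat_lit 11, nat_lit 14],
   [nat_lit 13, nat_lit 5, nat_lit 12, nat_lit 3, nat_lit 14, nat_lit 12, nat_lit 13, nat_lit 12, nat_lit 14, nat_lit 12, nat_lit 13, nat_lit 12, nat_lit 14],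
   [nat_lit 11, nat_lit 8, nat_lit 11, nat_lit 9, nat_lit 11, nat_lit 12, nat_lit 2, nat_lit 1, nat_lit 0],
   [nat_lit 6, nat_lit 3, nat_lit 1, nat_lit 7, nat_lit 12, nat_lit 0],
   [nat_lit 0, nat_lit 5, nat_lit 12, nat_lit 6, nat_lit 1, nat_lit 7],
   [nat_lit 0, nat_lit 1, nat_lit 2, nat_lit 12, nat_lit 11, nat_lit 8, nat_lit 11, nat_lit 9, nat_lit 11],
   [nat_lit 14, nat_lit 12, nat_lit 13, nat_lit 5, nat_lit 12, nat_lit 3, nat_lit 14, nat_lit 12, nat_lit 13, nat_lit 12, nat_lit 14, nat_lit 12, nat_lit 13],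
   [nat_lit 14, nat_lit 12, nat_lit 13, nat_lit 12, nat_lit 14, nat_lit 3, nat_lit 12, nat_lit 5, nat_lit 13, nat_lit 12, nat_lit 14, nat_lit 12, nat_lit 13],
   [nat_lit 14, nat_lit 11, nat_lit 14, nat_lit 12, nat_lit 14, nat_lit 1, nat_lit 7, nat_lit 9, nat_lit 11, nat_lit 4, nat_lit 2, nat_lit 14],
   [nat_lit 0, nat_lit 10, nat_lit 7, nat_lit 10, nat_lit 12, nat_lit 5],
   [nat_lit 5, nat_lit 7, nat_lit 6, nat_lit 12, nat_lit 1, nat_lit 0],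
   [nat_lit 7, nat_lit 5, nat_lit 6, nat_lit 12, nat_lit 1, nat_lit 0],
   [nat_lit 14, nat_lit 10, nat_lit 1, nat_lit 10, nat_lit 14, nat_lit 12, nat_lit 5],
   [nat_lit 0, nat_lit 1, nat_lit 12, nat_lit 5, nat_lit 7, nat_lit 6],
   [nat_lit 15, nat_lit 12, nat_lit 10, nat_lit 14, nat_lit 10, nat_lit 5, nat_lit 12, nat_lit 3, nat_lit 15, nat_lit 12, nat_lit 10, nat_lit 15, nat_lit 14, nat_lit 15, nat_lit 10],
   [nat_lit 15, nat_lit 3, nat_lit 12, nat_lit 5, nat_lit 10, nat_lit 14, nat_lit 10, nat_lit 12, nat_lit 15, nat_lit 12, nat_lit 10, nat_lit 15, nat_lit 14, nat_lit 15, nat_lit 10],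
   [nat_lit 3, nat_lit 15, nat_lit 12, nat_lit 10, nat_lit 15, nat_lit 14, nat_lit 15, nat_lit 10, nat_lit 12, nat_lit 15, nat_lit 12, nat_lit 10, nat_lit 14, nat_lit 10, nat_lit 5],
   [nat_lit 10, nat_lit 14, nat_lit 10, nat_lit 5, nat_lit 12, nat_lit 3, nat_lit 15, nat_lit 12, nat_lit 10, nat_lit 15, nat_lit 14, nat_lit 15, nat_lit 10, nat_lit 12, nat_lit 15],
   [nat_lit 1, nat_lit 2, nat_lit 7, nat_lit 12, nat_lit 7, nat_lit 1],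
   [nat_lit 0, nat_lit 12, nat_lit 1, nat_lit 6, nat_lit 3, nat_lit 7],
   [nat_lit 5, nat_lit 0, nat_lit 12, nat_lit 7, nat_lit 1, nat_lit 6],
   [nat_lit 1, nat_lit 7, nat_lit 6, nat_lit 3, nat_lit 12, nat_lit 0],
   [nat_lit 1, nat_lit 0, nat_lit 12, nat_lit 5, nat_lit 6, nat_lit 7],
   [nat_lit 6, nat_lit 1, nat_lit 7, nat_lit 12, nat_lit 0, nat_lit 5],
   [nat_lit 15, nat_lit 11, nat_lit 2, nat_lit 11, nat_lit 15, nat_lit 12, nat_lit 10, nat_lit 12, nat_lit 9, nat_lit 15, nat_lit 12, nat_lit 10],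
   [nat_lit 10, nat_lit 12, nat_lit 15, nat_lit 11, nat_lit 2, nat_lit 11, nat_lit 15, nat_lit 12, nat_lit 10, nat_lit 12, nat_lit 9, nat_lit 15],
   [nat_lit 1, nat_lit 6, nat_lit 7, nat_lit 3, nat_lit 12, nat_lit 0],
   [nat_lit 3, nat_lit 7, nat_lit 6, nat_lit 1, nat_lit 12, nat_lit 0],
   [nat_lit 6, nat_lit 1, nat_lit 7, nat_lit 3, nat_lit 12, nat_lit 0],
   [nat_lit 7, nat_lit 1, nat_lit 3, nat_lit 6, nat_lit 12, nat_lit 0],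
   [nat_lit 7, nat_lit 12, nat_lit 13, nat_lit 12, nat_lit 7, nat_lit 12, nat_lit 13],
   [nat_lit 2, nat_lit 1, nat_lit 0, nat_lit 12, nat_lit 11, nat_lit 8, nat_lit 11, nat_lit 9, nat_lit 11],
   [nat_lit 0, nat_lit 1, nat_lit 12, nat_lit 6, nat_lit 7, nat_lit 5],
   [nat_lit 1, nat_lit 0, nat_lit 12, nat_lit 5, nat_lit 7, nat_lit 6],
   [nat_lit 3, nat_lit 7, nat_lit 12, nat_lit 11, nat_lit 7, nat_lit 3, nat_lit 2, nat_lit 11]],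
  [[nat_lit 14, nat_lit 13, nat_lit 14],
   [nat_lit 11, nat_lit 13, nat_lit 11],
   [nat_lit 4, nat_lit 13, nat_lit 4],
   [nat_lit 6, nat_lit 13, nat_lit 6],
   [nat_lit 7, nat_lit 13, nat_lit 7],
   [nat_lit 5, nat_lit 13, nat_lit 5],
   [nat_lit 0, nat_lit 13, nat_lit 0, nat_lit 7],
   [nat_lit 2, nat_lit 13, nat_lit 7, nat_lit 2],
   [nat_lit 7, nat_lit 0, nat_lit 13, nat_lit 0],
   [nat_lit 3, nat_lit 13, nat_lit 7, nat_lit 3],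
   [nat_lit 7, nat_lit 3, nat_lit 13, nat_lit 3],
   [nat_lit 3, nat_lit 13, nat_lit 3, nat_lit 7],
   [nat_lit 2, nat_lit 13, nat_lit 2, nat_lit 7],
   [nat_lit 0, nat_lit 13, nat_lit 7, nat_lit 0],
   [nat_lit 7, nat_lit 2, nat_lit 13, nat_lit 2],
   [nat_lit 8, nat_lit 7, nat_lit 13, nat_lit 9, nat_lit 7],
   [nat_lit 9, nat_lit 13, nat_lit 7, nat_lit 8, nat_lit 7],
   [nat_lit 8, nat_lit 13, nat_lit 7, nat_lit 9, nat_lit 7],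
   [nat_lit 7, nat_lit 9, nat_lit 13, nat_lit 7, nat_lit 8],
   [nat_lit 7, nat_lit 8, nat_lit 13, nat_lit 7, nat_lit 9],
   [nat_lit 1, nat_lit 8, nat_lit 13, nat_lit 9, nat_lit 1],
   [nat_lit 7, nat_lit 9, nat_lit 7, nat_lit 13, nat_lit 8],
   [nat_lit 7, nat_lit 8, nat_lit 7, nat_lit 13, nat_lit 9],
   [nat_lit 9, nat_lit 7, nat_lit 13, nat_lit 8, nat_lit 7],
   [nat_lit 0, nat_lit 9, nat_lit 13, nat_lit 7, nat_lit 8, nat_lit 0],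
   [nat_lit 1, nat_lit 9, nat_lit 13, nat_lit 8, nat_lit 1, nat_lit 7],
   [nat_lit 0, nat_lit 9, nat_lit 7, nat_lit 13, nat_lit 8, nat_lit 0],
   [nat_lit 2, nat_lit 0, nat_lit 13, nat_lit 0, nat_lit 2],
   [nat_lit 15, nat_lit 13, nat_lit 15, nat_lit 13, nat_lit 15, nat_lit 13, nat_lit 15],
   [nat_lit 15, nat_lit 14, nat_lit 15, nat_lit 13, nat_lit 15, nat_lit 14, nat_lit 15],
   [nat_lit 12, nat_lit 13, nat_lit 12, nat_lit 13, nat_lit 12, nat_lit 13, nat_lit 12],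
   [nat_lit 14, nat_lit 9, nat_lit 15, nat_lit 13, nat_lit 14, nat_lit 15, nat_lit 8, nat_lit 6],
   [nat_lit 14, nat_lit 15, nat_lit 8, nat_lit 6, nat_lit 13, nat_lit 14, nat_lit 9, nat_lit 15],
   [nat_lit 15, nat_lit 8, nat_lit 14, nat_lit 13, nat_lit 6, nat_lit 9, nat_lit 15, nat_lit 14],
   [nat_lit 9, nat_lit 1, nat_lit 13, nat_lit 1, nat_lit 8],
   [nat_lit 3, nat_lit 2, nat_lit 13, nat_lit 3, nat_lit 2],
   [nat_lit 3, nat_lit 7, nat_lit 13, nat_lit 3],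
   [nat_lit 0, nat_lit 7, nat_lit 13, nat_lit 0],
   [nat_lit 3, nat_lit 2, nat_lit 13, nat_lit 2, nat_lit 3],
   [nat_lit 2, nat_lit 7, nat_lit 13, nat_lit 2],
   [nat_lit 0, nat_lit 13, nat_lit 10, nat_lit 7, nat_lit 0, nat_lit 10],
   [nat_lit 8, nat_lit 1, nat_lit 13, nat_lit 7, nat_lit 1, nat_lit 9],
   [nat_lit 8, nat_lit 1, nat_lit 7, nat_lit 13, nat_lit 1, nat_lit 9],
   [nat_lit 12, nat_lit 9, nat_lit 13, nat_lit 12, nat_lit 8, nat_lit 14, nat_lit 8, nat_lit 14, nat_lit 0, nat_lit 3, nat_lit 5, nat_lit 8, nat_lit 12, nat_lit 8],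
   [nat_lit 9, nat_lit 12, nat_lit 13, nat_lit 9, nat_lit 7, nat_lit 12, nat_lit 9, nat_lit 13, nat_lit 12, nat_lit 9, nat_lit 13, nat_lit 12, nat_lit 8, nat_lit 13, nat_lit 8, nat_lit 12],
   [nat_lit 12, nat_lit 8, nat_lit 13, nat_lit 15, nat_lit 13, nat_lit 12, nat_lit 8, nat_lit 15, nat_lit 12, nat_lit 13, nat_lit 15, nat_lit 9, nat_lit 12],
   [nat_lit 12, nat_lit 13, nat_lit 0, nat_lit 8, nat_lit 0, nat_lit 15, nat_lit 12, nat_lit 8, nat_lit 15, nat_lit 13, nat_lit 12, nat_lit 15, nat_lit 13, nat_lit 15],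
   [nat_lit 10, nat_lit 7, nat_lit 0, nat_lit 10, nat_lit 13, nat_lit 0],
   [nat_lit 1, nat_lit 2, nat_lit 13, nat_lit 10, nat_lit 6, nat_lit 10],
   [nat_lit 10, nat_lit 13, nat_lit 10, nat_lit 13, nat_lit 10, nat_lit 14, nat_lit 13, nat_lit 14, nat_lit 10],
   [nat_lit 12, nat_lit 13, nat_lit 11, nat_lit 15, nat_lit 1, nat_lit 8, nat_lit 1, nat_lit 11, nat_lit 3, nat_lit 13, nat_lit 12, nat_lit 11, nat_lit 2, nat_lit 4, nat_lit 13, nat_lit 15, nat_lit 11],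
   [nat_lit 11, nat_lit 15, nat_lit 1, nat_lit 8, nat_lit 1, nat_lit 11, nat_lit 3, nat_lit 13, nat_lit 12, nat_lit 11, nat_lit 2, nat_lit 4, nat_lit 13, nat_lit 15, nat_lit 11, nat_lit 13, nat_lit 12],
   [nat_lit 12, nat_lit 11, nat_lit 2, nat_lit 4, nat_lit 13, nat_lit 15, nat_lit 11, nat_lit 13, nat_lit 12, nat_lit 13, nat_lit 11, nat_lit 15, nat_lit 1, nat_lit 8, nat_lit 1, nat_lit 11, nat_lit 3],
   [nat_lit 17],
   [nat_lit 12, nat_lit 7, nat_lit 12, nat_lit 13, nat_lit 12, nat_lit 7, nat_lit 12],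
   [nat_lit 12, nat_lit 15, nat_lit 13, nat_lit 15, nat_lit 13, nat_lit 12, nat_lit 13, nat_lit 0, nat_lit 8, nat_lit 0, nat_lit 15, nat_lit 12, nat_lit 8, nat_lit 15],
   [nat_lit 2, nat_lit 1, nat_lit 13, nat_lit 10, nat_lit 6, nat_lit 10],
   [nat_lit 10, nat_lit 6, nat_lit 10, nat_lit 13, nat_lit 1, nat_lit 2],
   [nat_lit 6, nat_lit 9, nat_lit 15, nat_lit 14, nat_lit 13, nat_lit 15, nat_lit 8, nat_lit 14],
   [nat_lit 0, nat_lit 2, nat_lit 13, nat_lit 0, nat_lit 2],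
   [nat_lit 10, nat_lit 13, nat_lit 10, nat_lit 14, nat_lit 13, nat_lit 14, nat_lit 10, nat_lit 13, nat_lit 10],
   [nat_lit 6, nat_lit 10, nat_lit 11, nat_lit 10, nat_lit 14, nat_lit 6, nat_lit 13, nat_lit 1, nat_lit 14, nat_lit 11, nat_lit 1],
   [nat_lit 2, nat_lit 0, nat_lit 13, nat_lit 2, nat_lit 0],
   [nat_lit 10, nat_lit 6, nat_lit 10, nat_lit 13, nat_lit 2, nat_lit 1],
   [nat_lit 9, nat_lit 0, nat_lit 13, nat_lit 0, nat_lit 8, nat_lit 7],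
   [nat_lit 10, nat_lit 14, nat_lit 13, nat_lit 14, nat_lit 10, nat_lit 13, nat_lit 10, nat_lit 13, nat_lit 10],
   [nat_lit 0, nat_lit 2, nat_lit 13, nat_lit 2, nat_lit 0],
   [nat_lit 7, nat_lit 1, nat_lit 9, nat_lit 13, nat_lit 8, nat_lit 1],
   [nat_lit 2, nat_lit 3, nat_lit 13, nat_lit 2, nat_lit 3],
   [nat_lit 3, nat_lit 0, nat_lit 13, nat_lit 3, nat_lit 0],
   [nat_lit 7, nat_lit 5, nat_lit 0, nat_lit 13, nat_lit 0, nat_lit 5],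
   [nat_lit 10, nat_lit 0, nat_lit 7, nat_lit 10, nat_lit 13, nat_lit 0],
   [nat_lit 10, nat_lit 0, nat_lit 10, nat_lit 13, nat_lit 12, nat_lit 5, nat_lit 12],
   [nat_lit 6, nat_lit 14, nat_lit 10, nat_lit 11, nat_lit 10, nat_lit 6, nat_lit 13, nat_lit 1, nat_lit 11, nat_lit 14, nat_lit 1],
   [nat_lit 12, nat_lit 5, nat_lit 12, nat_lit 13, nat_lit 10, nat_lit 0, nat_lit 10],
   [nat_lit 14, nat_lit 10, nat_lit 11, nat_lit 12, nat_lit 3, nat_lit 12, nat_lit 10, nat_lit 5, nat_lit 11, nat_lit 14, nat_lit 6, nat_lit 13, nat_lit 1],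
   [nat_lit 3, nat_lit 0, nat_lit 13, nat_lit 0, nat_lit 3],
   [nat_lit 5, nat_lit 0, nat_lit 13, nat_lit 0, nat_lit 5, nat_lit 7],
   [nat_lit 7, nat_lit 8, nat_lit 0, nat_lit 13, nat_lit 0, nat_lit 9],
   [nat_lit 0, nat_lit 8, nat_lit 13, nat_lit 7, nat_lit 9, nat_lit 0],
   [nat_lit 0, nat_lit 13, nat_lit 10, nat_lit 0, nat_lit 7, nat_lit 10],
   [nat_lit 0, nat_lit 8, nat_lit 7, nat_lit 13, nat_lit 9, nat_lit 0],
   [nat_lit 7, nat_lit 9, nat_lit 0, nat_lit 13, nat_lit 0, nat_lit 8],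
   [nat_lit 2, nat_lit 3, nat_lit 13, nat_lit 3, nat_lit 2],
   [nat_lit 0, nat_lit 3, nat_lit 13, nat_lit 0, nat_lit 3],
   [nat_lit 0, nat_lit 3, nat_lit 13, nat_lit 3, nat_lit 0],
   [nat_lit 0, nat_lit 5, nat_lit 7, nat_lit 13, nat_lit 5, nat_lit 0]],
  [[nat_lit 6, nat_lit 4, nat_lit 0, nat_lit 14, nat_lit 0],
   [nat_lit 2, nat_lit 14, nat_lit 2, nat_lit 5, nat_lit 6],
   [nat_lit 2, nat_lit 14, nat_lit 8, nat_lit 1, nat_lit 9],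
   [nat_lit 2, nat_lit 14, nat_lit 6, nat_lit 5, nat_lit 2],
   [nat_lit 13, nat_lit 14, nat_lit 13],
   [nat_lit 2, nat_lit 5, nat_lit 14, nat_lit 6, nat_lit 2],
   [nat_lit 0, nat_lit 14, nat_lit 0, nat_lit 4, nat_lit 6],
   [nat_lit 6, nat_lit 5, nat_lit 2, nat_lit 14, nat_lit 2],
   [nat_lit 1, nat_lit 14, nat_lit 1],
   [nat_lit 2, nat_lit 14, nat_lit 6, nat_lit 2, nat_lit 5],
   [nat_lit 15, nat_lit 13, nat_lit 15, nat_lit 14, nat_lit 15, nat_lit 13, nat_lit 15],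
   [nat_lit 11, nat_lit 14, nat_lit 11, nat_lit 14, nat_lit 11, nat_lit 14, nat_lit 11, nat_lit 14, nat_lit 11],
   [nat_lit 7, nat_lit 14, nat_lit 7],
   [nat_lit 4, nat_lit 14, nat_lit 4],
   [nat_lit 6, nat_lit 14, nat_lit 6],
   [nat_lit 15, nat_lit 12, nat_lit 15, nat_lit 14, nat_lit 12, nat_lit 14, nat_lit 15, nat_lit 12, nat_lit 15, nat_lit 14, nat_lit 12],
   [nat_lit 13, nat_lit 15, nat_lit 8, nat_lit 14, nat_lit 13, nat_lit 6, nat_lit 9, nat_lit 15],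
   [nat_lit 5, nat_lit 14, nat_lit 5],
   [nat_lit 0, nat_lit 4, nat_lit 14, nat_lit 6, nat_lit 0],
   [nat_lit 0, nat_lit 14, nat_lit 4, nat_lit 0, nat_lit 6],
   [nat_lit 2, nat_lit 14, nat_lit 5, nat_lit 2, nat_lit 6],
   [nat_lit 2, nat_lit 6, nat_lit 14, nat_lit 5, nat_lit 2],
   [nat_lit 0, nat_lit 14, nat_lit 6, nat_lit 4, nat_lit 0],
   [nat_lit 0, nat_lit 14, nat_lit 6, nat_lit 0, nat_lit 4],
   [nat_lit 3, nat_lit 14, nat_lit 0, nat_lit 5, nat_lit 4, nat_lit 3, nat_lit 0],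
   [nat_lit 2, nat_lit 5, nat_lit 6, nat_lit 14, nat_lit 2],
   [nat_lit 9, nat_lit 14, nat_lit 9, nat_lit 12, nat_lit 13, nat_lit 8, nat_lit 12, nat_lit 13, nat_lit 9, nat_lit 12, nat_lit 9, nat_lit 5, nat_lit 3, nat_lit 0],
   [nat_lit 13, nat_lit 6, nat_lit 9, nat_lit 15, nat_lit 14, nat_lit 13, nat_lit 15, nat_lit 8],
   [nat_lit 9, nat_lit 1, nat_lit 8, nat_lit 14, nat_lit 2, nat_lit 1],
   [nat_lit 3, nat_lit 14, nat_lit 0, nat_lit 3, nat_lit 4, nat_lit 5, nat_lit 0],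
   [nat_lit 2, nat_lit 4, nat_lit 11, nat_lit 8, nat_lit 7, nat_lit 1, nat_lit 14, nat_lit 12, nat_lit 14, nat_lit 11, nat_lit 14, nat_lit 12],
   [nat_lit 2, nat_lit 14, nat_lit 9, nat_lit 1, nat_lit 8, nat_lit 1],
   [nat_lit 0, nat_lit 5, nat_lit 4, nat_lit 3, nat_lit 0, nat_lit 14, nat_lit 3],
   [nat_lit 5, nat_lit 2, nat_lit 14, nat_lit 2, nat_lit 6],
   [nat_lit 12, nat_lit 14, nat_lit 2, nat_lit 4, nat_lit 11, nat_lit 8, nat_lit 7, nat_lit 1, nat_lit 14, nat_lit 12, nat_lit 14, nat_lit 11],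
   [nat_lit 10, nat_lit 13, nat_lit 10, nat_lit 14, nat_lit 0, nat_lit 10, nat_lit 13, nat_lit 3, nat_lit 10, nat_lit 14, nat_lit 10, nat_lit 13, nat_lit 10],
   [nat_lit 0, nat_lit 3, nat_lit 5, nat_lit 8, nat_lit 12, nat_lit 8, nat_lit 13, nat_lit 12, nat_lit 9, nat_lit 13, nat_lit 12, nat_lit 8, nat_lit 14, nat_lit 8],
   [nat_lit 12, nat_lit 14, nat_lit 11, nat_lit 14, nat_lit 12, nat_lit 14, nat_lit 1, nat_lit 7, nat_lit 9, nat_lit 11, nat_lit 4, nat_lit 2],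
   [nat_lit 0, nat_lit 3, nat_lit 4, nat_lit 5, nat_lit 0, nat_lit 14, nat_lit 3],
   [nat_lit 9, nat_lit 15, nat_lit 13, nat_lit 14, nat_lit 15, nat_lit 8, nat_lit 6, nat_lit 13],
   [nat_lit 8, nat_lit 1, nat_lit 9, nat_lit 14, nat_lit 2],
   [nat_lit 9, nat_lit 12, nat_lit 13, nat_lit 8, nat_lit 12, nat_lit 13, nat_lit 9, nat_lit 12, nat_lit 9, nat_lit 5, nat_lit 3, nat_lit 0, nat_lit 14, nat_lit 9],
   [nat_lit 8, nat_lit 14, nat_lit 0, nat_lit 3, nat_lit 5, nat_lit 8, nat_lit 12, nat_lit 8, nat_lit 13, nat_lit 12, nat_lit 9, nat_lit 13, nat_lit 12, nat_lit 8],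
   [nat_lit 12, nat_lit 14, nat_lit 12, nat_lit 14, nat_lit 12, nat_lit 14, nat_lit 12],
   [nat_lit 11, nat_lit 14, nat_lit 12, nat_lit 14, nat_lit 1, nat_lit 7, nat_lit 9, nat_lit 11, nat_lit 4, nat_lit 2, nat_lit 14, nat_lit 12],
   [nat_lit 6, nat_lit 2, nat_lit 14, nat_lit 2, nat_lit 5],
   [nat_lit 6, nat_lit 0, nat_lit 14, nat_lit 0, nat_lit 4],
   [nat_lit 12, nat_lit 14, nat_lit 11, nat_lit 14, nat_lit 12, nat_lit 14, nat_lit 2, nat_lit 4, nat_lit 11, nat_lit 8, nat_lit 7, nat_lit 1],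
   [nat_lit 10, nat_lit 5, nat_lit 10, nat_lit 14, nat_lit 1, nat_lit 4],
   [nat_lit 9, nat_lit 2, nat_lit 8, nat_lit 14, nat_lit 6, nat_lit 1],
   [nat_lit 4, nat_lit 0, nat_lit 14, nat_lit 0, nat_lit 6],
   [nat_lit 0, nat_lit 4, nat_lit 6, nat_lit 14, nat_lit 0],
   [nat_lit 11, nat_lit 14, nat_lit 12, nat_lit 14, nat_lit 2, nat_lit 4, nat_lit 11, nat_lit 8, nat_lit 7, nat_lit 1, nat_lit 14, nat_lit 12],
   [nat_lit 6, nat_lit 2, nat_lit 5, nat_lit 14, nat_lit 2],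
   [nat_lit 12, nat_lit 14, nat_lit 15, nat_lit 12, nat_lit 15, nat_lit 14, nat_lit 12, nat_lit 14, nat_lit 15, nat_lit 12, nat_lit 15],
   [nat_lit 10, nat_lit 11, nat_lit 14, nat_lit 2, nat_lit 0, nat_lit 14, nat_lit 1, nat_lit 11, nat_lit 14, nat_lit 0, nat_lit 4, nat_lit 2, nat_lit 5],
   [nat_lit 6, nat_lit 0, nat_lit 4, nat_lit 14, nat_lit 0],
   [nat_lit 0, nat_lit 6, nat_lit 14, nat_lit 4, nat_lit 0],
   [nat_lit 12, nat_lit 14, nat_lit 1, nat_lit 7, nat_lit 9, nat_lit 11, nat_lit 4, nat_lit 2, nat_lit 14, nat_lit 12, nat_lit 14, nat_lit 11],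
   [nat_lit 9, nat_lit 2, nat_lit 8, nat_lit 14, nat_lit 1, nat_lit 6],
   [nat_lit 10, nat_lit 12, nat_lit 15, nat_lit 12, nat_lit 10, nat_lit 15, nat_lit 14, nat_lit 15, nat_lit 10, nat_lit 12, nat_lit 15, nat_lit 3, nat_lit 12, nat_lit 5, nat_lit 10],
   [nat_lit 5, nat_lit 2, nat_lit 6, nat_lit 14, nat_lit 2],
   [nat_lit 11, nat_lit 4, nat_lit 6, nat_lit 5, nat_lit 11, nat_lit 8, nat_lit 14, nat_lit 5, nat_lit 11, nat_lit 15, nat_lit 0, nat_lit 9, nat_lit 10, nat_lit 7, nat_lit 15, nat_lit 11],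
   [nat_lit 17],
   [nat_lit 1, nat_lit 2, nat_lit 14, nat_lit 9, nat_lit 1, nat_lit 8],
   [nat_lit 15, nat_lit 8, nat_lit 6, nat_lit 13, nat_lit 14, nat_lit 9, nat_lit 15, nat_lit 13],
   [nat_lit 9, nat_lit 1, nat_lit 8, nat_lit 14, nat_lit 1, nat_lit 2],
   [nat_lit 12, nat_lit 5, nat_lit 12, nat_lit 14, nat_lit 10, nat_lit 1, nat_lit 10],
   [nat_lit 10, nat_lit 1, nat_lit 10, nat_lit 14, nat_lit 12, nat_lit 5, nat_lit 12],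
   [nat_lit 4, nat_lit 0, nat_lit 6, nat_lit 14, nat_lit 0],
   [nat_lit 1, nat_lit 9, nat_lit 1, nat_lit 8, nat_lit 14, nat_lit 2],
   [nat_lit 1, nat_lit 4, nat_lit 14, nat_lit 10, nat_lit 5, nat_lit 10],
   [nat_lit 10, nat_lit 5, nat_lit 10, nat_lit 14, nat_lit 4, nat_lit 1],
   [nat_lit 2, nat_lit 1, nat_lit 14, nat_lit 9, nat_lit 1, nat_lit 8],
   [nat_lit 1, nat_lit 6, nat_lit 14, nat_lit 9, nat_lit 2, nat_lit 8],
   [nat_lit 4, nat_lit 1, nat_lit 14, nat_lit 10, nat_lit 5, nat_lit 10],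
   [nat_lit 6, nat_lit 1, nat_lit 14, nat_lit 9, nat_lit 2, nat_lit 8],
   [nat_lit 2, nat_lit 0, nat_lit 1, nat_lit 14, nat_lit 11, nat_lit 10, nat_lit 2, nat_lit 0, nat_lit 11],
   [nat_lit 11, nat_lit 10, nat_lit 2, nat_lit 0, nat_lit 11, nat_lit 14, nat_lit 2, nat_lit 0, nat_lit 1],
   [nat_lit 9, nat_lit 1, nat_lit 8, nat_lit 1, nat_lit 14, nat_lit 2],
   [nat_lit 2, nat_lit 14, nat_lit 1, nat_lit 9, nat_lit 1, nat_lit 8],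
   [nat_lit 1, nat_lit 0, nat_lit 2, nat_lit 14, nat_lit 11, nat_lit 0, nat_lit 2, nat_lit 10, nat_lit 11],
   [nat_lit 11, nat_lit 0, nat_lit 2, nat_lit 10, nat_lit 11, nat_lit 14, nat_lit 1, nat_lit 0, nat_lit 2]],
  [[nat_lit 6, nat_lit 15, nat_lit 6, nat_lit 5],
   [nat_lit 6, nat_lit 15, nat_lit 5, nat_lit 6],
   [nat_lit 3, nat_lit 15, nat_lit 3],
   [nat_lit 5, nat_lit 15, nat_lit 5],
   [nat_lit 0, nat_lit 15, nat_lit 0, nat_lit 3, nat_lit 4],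
   [nat_lit 10, nat_lit 5, nat_lit 15, nat_lit 10, nat_lit 5],
   [nat_lit 10, nat_lit 15, nat_lit 5, nat_lit 10, nat_lit 5],
   [nat_lit 2, nat_lit 15, nat_lit 1, nat_lit 2, nat_lit 5],
   [nat_lit 1, nat_lit 15, nat_lit 1],
   [nat_lit 9, nat_lit 15, nat_lit 9],
   [nat_lit 4, nat_lit 3, nat_lit 0, nat_lit 15, nat_lit 0],
   [nat_lit 5, nat_lit 10, nat_lit 5, nat_lit 15, nat_lit 10],
   [nat_lit 0, nat_lit 15, nat_lit 4, nat_lit 3, nat_lit 0],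
   [nat_lit 5, nat_lit 10, nat_lit 15, nat_lit 5, nat_lit 10],
   [nat_lit 5, nat_lit 2, nat_lit 1, nat_lit 15, nat_lit 2],
   [nat_lit 0, nat_lit 4, nat_lit 15, nat_lit 3, nat_lit 0],
   [nat_lit 7, nat_lit 15, nat_lit 10, nat_lit 0, nat_lit 4, nat_lit 10],
   [nat_lit 10, nat_lit 3, nat_lit 1, nat_lit 15, nat_lit 10, nat_lit 1],
   [nat_lit 11, nat_lit 15, nat_lit 5, nat_lit 11, nat_lit 15, nat_lit 5, nat_lit 11, nat_lit 5],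
   [nat_lit 8, nat_lit 6, nat_lit 9, nat_lit 15, nat_lit 6],
   [nat_lit 13, nat_lit 14, nat_lit 15, nat_lit 8, nat_lit 6, nat_lit 13, nat_lit 14, nat_lit 9],
   [nat_lit 5, nat_lit 11, nat_lit 15, nat_lit 5, nat_lit 11, nat_lit 5, nat_lit 15, nat_lit 11],
   [nat_lit 13, nat_lit 12, nat_lit 8, nat_lit 15, nat_lit 12, nat_lit 13, nat_lit 15, nat_lit 9, nat_lit 12, nat_lit 13, nat_lit 12, nat_lit 8, nat_lit 13],
   [nat_lit 11, nat_lit 15, nat_lit 5, nat_lit 11, nat_lit 5, nat_lit 15, nat_lit 11, nat_lit 5],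
   [nat_lit 2, nat_lit 15, nat_lit 5, nat_lit 2, nat_lit 1],
   [nat_lit 2, nat_lit 15, nat_lit 5, nat_lit 1, nat_lit 2],
   [nat_lit 10, nat_lit 0, nat_lit 4, nat_lit 10, nat_lit 15, nat_lit 7],
   [nat_lit 10, nat_lit 15, nat_lit 1, nat_lit 3, nat_lit 10, nat_lit 1],
   [nat_lit 8, nat_lit 15, nat_lit 8],
   [nat_lit 4, nat_lit 15, nat_lit 4],
   [nat_lit 0, nat_lit 15, nat_lit 3, nat_lit 0, nat_lit 4],
   [nat_lit 2, nat_lit 15, nat_lit 2, nat_lit 1, nat_lit 5],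
   [nat_lit 0, nat_lit 3, nat_lit 4, nat_lit 15, nat_lit 0],
   [nat_lit 0, nat_lit 15, nat_lit 4, nat_lit 0, nat_lit 3],
   [nat_lit 2, nat_lit 1, nat_lit 5, nat_lit 15, nat_lit 2],
   [nat_lit 2, nat_lit 5, nat_lit 15, nat_lit 2, nat_lit 1],
   [nat_lit 10, nat_lit 15, nat_lit 4, nat_lit 1, nat_lit 5, nat_lit 10],
   [nat_lit 7, nat_lit 1, nat_lit 15, nat_lit 7, nat_lit 4, nat_lit 1],
   [nat_lit 10, nat_lit 1, nat_lit 4, nat_lit 5, nat_lit 15, nat_lit 10],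
   [nat_lit 10, nat_lit 15, nat_lit 5, nat_lit 4, nat_lit 1, nat_lit 10],
   [nat_lit 10, nat_lit 1, nat_lit 5, nat_lit 15, nat_lit 4, nat_lit 10],
   [nat_lit 10, nat_lit 15, nat_lit 5, nat_lit 1, nat_lit 4, nat_lit 10],
   [nat_lit 7, nat_lit 15, nat_lit 10, nat_lit 4, nat_lit 0, nat_lit 10],
   [nat_lit 13, nat_lit 15, nat_lit 13, nat_lit 15, nat_lit 13, nat_lit 15, nat_lit 13],
   [nat_lit 13, nat_lit 15, nat_lit 14, nat_lit 15, nat_lit 13, nat_lit 15, nat_lit 14],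
   [nat_lit 10, nat_lit 15, nat_lit 10, nat_lit 5, nat_lit 1, nat_lit 4],
   [nat_lit 3, nat_lit 0, nat_lit 4, nat_lit 15, nat_lit 0],
   [nat_lit 5, nat_lit 11, nat_lit 5, nat_lit 15, nat_lit 11, nat_lit 15, nat_lit 5, nat_lit 11],
   [nat_lit 5, nat_lit 11, nat_lit 5, nat_lit 15, nat_lit 11, nat_lit 5, nat_lit 15, nat_lit 11],
   [nat_lit 8, nat_lit 6, nat_lit 13, nat_lit 14, nat_lit 9, nat_lit 15, nat_lit 13, nat_lit 14],
   [nat_lit 5, nat_lit 1, nat_lit 2, nat_lit 15, nat_lit 2],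
   [nat_lit 8, nat_lit 14, nat_lit 13, nat_lit 6, nat_lit 9, nat_lit 15, nat_lit 14, nat_lit 13],
   [nat_lit 12, nat_lit 15, nat_lit 12, nat_lit 15, nat_lit 12, nat_lit 15, nat_lit 12],
   [nat_lit 14, nat_lit 15, nat_lit 13, nat_lit 15, nat_lit 14, nat_lit 15, nat_lit 13],
   [nat_lit 5, nat_lit 6, nat_lit 15, nat_lit 6],
   [nat_lit 6, nat_lit 5, nat_lit 15, nat_lit 6],
   [nat_lit 8, nat_lit 6, nat_lit 15, nat_lit 8, nat_lit 6],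
   [nat_lit 10, nat_lit 4, nat_lit 15, nat_lit 5, nat_lit 1, nat_lit 10],
   [nat_lit 5, nat_lit 2, nat_lit 15, nat_lit 1, nat_lit 2],
   [nat_lit 1, nat_lit 7, nat_lit 4, nat_lit 1, nat_lit 15, nat_lit 7],
   [nat_lit 1, nat_lit 4, nat_lit 7, nat_lit 15, nat_lit 1, nat_lit 7],
   [nat_lit 7, nat_lit 1, nat_lit 15, nat_lit 7, nat_lit 1, nat_lit 4],
   [nat_lit 7, nat_lit 1, nat_lit 4, nat_lit 15, nat_lit 7, nat_lit 1],
   [nat_lit 13, nat_lit 12, nat_lit 15, nat_lit 9, nat_lit 12, nat_lit 13, nat_lit 15, nat_lit 13, nat_lit 9, nat_lit 12, nat_lit 13, nat_lit 12, nat_lit 8],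
   [nat_lit 12, nat_lit 8, nat_lit 15, nat_lit 13, nat_lit 12, nat_lit 15, nat_lit 13, nat_lit 15, nat_lit 13, nat_lit 12, nat_lit 13, nat_lit 0, nat_lit 8, nat_lit 0],
   [nat_lit 12, nat_lit 10, nat_lit 14, nat_lit 10, nat_lit 5, nat_lit 12, nat_lit 3, nat_lit 15, nat_lit 12, nat_lit 10, nat_lit 15, nat_lit 14, nat_lit 15, nat_lit 10, nat_lit 12],
   [nat_lit 12, nat_lit 10, nat_lit 12, nat_lit 15, nat_lit 8, nat_lit 12, nat_lit 10, nat_lit 12, nat_lit 15, nat_lit 11, nat_lit 2, nat_lit 11],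
   [nat_lit 7, nat_lit 15, nat_lit 4, nat_lit 1, nat_lit 7, nat_lit 1],
   [nat_lit 1, nat_lit 10, nat_lit 15, nat_lit 3, nat_lit 1, nat_lit 10],
   [nat_lit 11, nat_lit 5, nat_lit 15, nat_lit 11, nat_lit 15, nat_lit 5, nat_lit 11, nat_lit 5],
   [nat_lit 7, nat_lit 15, nat_lit 1, nat_lit 7, nat_lit 1, nat_lit 4],
   [nat_lit 12, nat_lit 10, nat_lit 12, nat_lit 15, nat_lit 11, nat_lit 2, nat_lit 11, nat_lit 15, nat_lit 12, nat_lit 10, nat_lit 12, nat_lit 9],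
   [nat_lit 1, nat_lit 10, nat_lit 15, nat_lit 1, nat_lit 3, nat_lit 10],
   [nat_lit 12, nat_lit 10, nat_lit 15, nat_lit 14, nat_lit 15, nat_lit 10, nat_lit 12, nat_lit 15, nat_lit 3, nat_lit 12, nat_lit 5, nat_lit 10, nat_lit 14, nat_lit 10, nat_lit 12],
   [nat_lit 4, nat_lit 0, nat_lit 3, nat_lit 15, nat_lit 0],
   [nat_lit 4, nat_lit 1, nat_lit 7, nat_lit 15, nat_lit 1, nat_lit 7],
   [nat_lit 9, nat_lit 12, nat_lit 13, nat_lit 15, nat_lit 13, nat_lit 9, nat_lit 12, nat_lit 13, nat_lit 12, nat_lit 8, nat_lit 15, nat_lit 13, nat_lit 12],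
   [nat_lit 3, nat_lit 0, nat_lit 15, nat_lit 0, nat_lit 4],
   [nat_lit 4, nat_lit 0, nat_lit 15, nat_lit 0, nat_lit 3],
   [nat_lit 14, nat_lit 13, nat_lit 15, nat_lit 8, nat_lit 14, nat_lit 13, nat_lit 6, nat_lit 9],
   [nat_lit 7, nat_lit 15, nat_lit 1, nat_lit 4, nat_lit 7, nat_lit 1],
   [nat_lit 8, nat_lit 12, nat_lit 10, nat_lit 12, nat_lit 15, nat_lit 11, nat_lit 2, nat_lit 11, nat_lit 15, nat_lit 12, nat_lit 10, nat_lit 12],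
   [nat_lit 9, nat_lit 5, nat_lit 8, nat_lit 15, nat_lit 6],
   [nat_lit 10, nat_lit 5, nat_lit 1, nat_lit 4, nat_lit 15, nat_lit 10],
   [nat_lit 2, nat_lit 1, nat_lit 15, nat_lit 2, nat_lit 5],
   [nat_lit 1, nat_lit 2, nat_lit 5, nat_lit 15, nat_lit 2],
   [nat_lit 12, nat_lit 10, nat_lit 12, nat_lit 9, nat_lit 15, nat_lit 12, nat_lit 10, nat_lit 12, nat_lit 15, nat_lit 11, nat_lit 2, nat_lit 11],
   [nat_lit 7, nat_lit 15, nat_lit 1, nat_lit 7, nat_lit 4, nat_lit 1],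
   [nat_lit 2, nat_lit 6, nat_lit 1, nat_lit 15, nat_lit 6, nat_lit 2],
   [nat_lit 10, nat_lit 4, nat_lit 1, nat_lit 5, nat_lit 15, nat_lit 10],
   [nat_lit 0, nat_lit 15, nat_lit 0, nat_lit 10, nat_lit 4, nat_lit 10],
   [nat_lit 4, nat_lit 1, nat_lit 5, nat_lit 10, nat_lit 15, nat_lit 10],
   [nat_lit 14, nat_lit 12, nat_lit 14, nat_lit 15, nat_lit 12, nat_lit 15, nat_lit 14, nat_lit 12, nat_lit 14, nat_lit 15, nat_lit 12],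
   [nat_lit 0, nat_lit 3, nat_lit 15, nat_lit 4, nat_lit 0],
   [nat_lit 7, nat_lit 4, nat_lit 1, nat_lit 15, nat_lit 7, nat_lit 1],
   [nat_lit 1, nat_lit 2, nat_lit 15, nat_lit 5, nat_lit 2],
   [nat_lit 6, nat_lit 15, nat_lit 9, nat_lit 5, nat_lit 8],
   [nat_lit 4, nat_lit 10, nat_lit 15, nat_lit 10, nat_lit 1, nat_lit 5],
   [nat_lit 10, nat_lit 15, nat_lit 1, nat_lit 10, nat_lit 3, nat_lit 1],
   [nat_lit 10, nat_lit 15, nat_lit 10, nat_lit 4, nat_lit 1, nat_lit 5],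
   [nat_lit 2, nat_lit 6, nat_lit 15, nat_lit 1, nat_lit 6, nat_lit 2],
   [nat_lit 4, nat_lit 1, nat_lit 7, nat_lit 1, nat_lit 15, nat_lit 7],
   [nat_lit 2, nat_lit 8, nat_lit 15, nat_lit 1, nat_lit 8, nat_lit 6],
   [nat_lit 12, nat_lit 15, nat_lit 14, nat_lit 12, nat_lit 14, nat_lit 15, nat_lit 12, nat_lit 15, nat_lit 14, nat_lit 12, nat_lit 14],
   [nat_lit 1, nat_lit 7, nat_lit 1, nat_lit 4, nat_lit 15, nat_lit 7],
   [nat_lit 9, nat_lit 5, nat_lit 15, nat_lit 9, nat_lit 6],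
   [nat_lit 0, nat_lit 15, nat_lit 10, nat_lit 4, nat_lit 10, nat_lit 0],
   [nat_lit 10, nat_lit 4, nat_lit 0, nat_lit 10, nat_lit 15, nat_lit 7],
   [nat_lit 6, nat_lit 9, nat_lit 15, nat_lit 6, nat_lit 9],
   [nat_lit 5, nat_lit 8, nat_lit 15, nat_lit 6, nat_lit 8],
   [nat_lit 9, nat_lit 6, nat_lit 15, nat_lit 9, nat_lit 5],
   [nat_lit 3, nat_lit 1, nat_lit 10, nat_lit 15, nat_lit 1, nat_lit 10],
   [nat_lit 1, nat_lit 7, nat_lit 15, nat_lit 1, nat_lit 4, nat_lit 7],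
   [nat_lit 9, nat_lit 2, nat_lit 15, nat_lit 6, nat_lit 9, nat_lit 1],
   [nat_lit 1, nat_lit 8, nat_lit 6, nat_lit 15, nat_lit 2, nat_lit 8],
   [nat_lit 10, nat_lit 4, nat_lit 10, nat_lit 0, nat_lit 15, nat_lit 0],
   [nat_lit 10, nat_lit 1, nat_lit 15, nat_lit 10, nat_lit 3, nat_lit 1],
   [nat_lit 1, nat_lit 4, nat_lit 7, nat_lit 1, nat_lit 15, nat_lit 7],
   [nat_lit 6, nat_lit 8, nat_lit 15, nat_lit 5, nat_lit 8],
   [nat_lit 1, nat_lit 6, nat_lit 2, nat_lit 15, nat_lit 2, nat_lit 6],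
   [nat_lit 6, nat_lit 15, nat_lit 8, nat_lit 6, nat_lit 9],
   [nat_lit 1, nat_lit 10, nat_lit 3, nat_lit 1, nat_lit 15, nat_lit 10],
   [nat_lit 10, nat_lit 1, nat_lit 3, nat_lit 15, nat_lit 10, nat_lit 1],
   [nat_lit 6, nat_lit 2, nat_lit 15, nat_lit 2, nat_lit 6, nat_lit 1],
   [nat_lit 5, nat_lit 1, nat_lit 4, nat_lit 10, nat_lit 15, nat_lit 10],
   [nat_lit 10, nat_lit 15, nat_lit 10, nat_lit 1, nat_lit 4, nat_lit 5],
   [nat_lit 10, nat_lit 1, nat_lit 15, nat_lit 10, nat_lit 1, nat_lit 3],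
   [nat_lit 5, nat_lit 4, nat_lit 1, nat_lit 10, nat_lit 15, nat_lit 10],
   [nat_lit 2, nat_lit 6, nat_lit 15, nat_lit 1, nat_lit 2, nat_lit 6],
   [nat_lit 1, nat_lit 3, nat_lit 10, nat_lit 1, nat_lit 15, nat_lit 10],
   [nat_lit 5, nat_lit 1, nat_lit 10, nat_lit 15, nat_lit 10, nat_lit 4]],
  []]

def HT : List (List (Nat × Nat × Nat)) := [
  [(0, 16, 1), (0, 22, 1), (0, 29, 1), (0, 19, 1), (0, 34, 1), (0, 17, 1), (1, 90, 0), (0, 90, 1), (1, 90, 2), (1, 161, 3), (0, 161, 4), (0, 187, 4), (0, 185, 1), (0, 94, 1), (1, 185, 0), (0, 186, 1), (1, 278, 0), (1, 187, 3), (0, 188, 5), (0, 118, 1), (1, 51, 0), (0, 185, 5), (0, 122, 1), (1, 121, 3), (0, 90, 4), (0, 121, 1), (0, 226, 1), (0, 105, 1), (1, 229, 0), (0, 127, 1), (0, 121, 5), (0, 230, 1), (1, 217, 0), (1, 104, 0), (0, 49, 1), (0, 237, 1), (1, 81, 0), (1, 127, 0), (0, 219, 1), (0, 128, 1), (0, 281,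 1), (1, 147, 0), (0, 108, 1), (0, 130, 1), (0, 63, 1), (0, 62, 1), (0, 78, 1), (0, 69, 6), (2, 0, 0), (1, 78, 4), (1, 234, 2), (0, 140, 1), (1, 185, 2), (0, 239, 1), (1, 49, 0), (1, 118, 2), (0, 238, 1), (1, 281, 0), (1, 226, 0), (1, 50, 0), (0, 218, 1), (1, 56, 0), (0, 189, 5), (1, 238, 0), (1, 219, 0), (0, 229, 1), (1, 235, 0), (1, 239, 0), (1, 128, 0), (1, 94, 0), (0, 234, 6), (1, 69, 4), (0, 292, 1), (1, 292, 0), (1, 40, 3), (0, 157, 10), (1, 157, 5), (0, 51, 1), (1, 76, 0), (1, 215, 0), (0, 76, 1), (1, 78, 0), (0, 106, 1), (1, 222, 4), (0, 189, 1), (0, 118, 5), (1, 188, 0), (0, 278, 5), (0, 188, 1), (1, 278, 2), (0, 191, 1), (0, 57, 1), (0, 191, 5), (1, 57, 0), (1, 187, 0), (1, 188, 2), (1, 230, 0), (0, 278, 1), (0, 56, 1), (0, 224, 1), (1, 237, 0), (1, 166, 0), (0, 220, 1), (1, 106, 0), (1, 221, 0), (0, 73, 3), (0, 221, 1), (1, 161, 0), (0, 166,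 1), (0, 235, 1), (1, 122, 0), (0, 236, 1), (0, 103, 1), (0, 73, 1), (0, 147, 1), (1, 220, 0), (0, 184, 1), (0, 225, 1), (0, 214, 1), (1, 108, 0), (0, 256, 1), (1, 214, 0), (1, 165, 0), (0, 289, 1), (0, 50, 1), (1, 218, 0), (1, 289, 0), (0, 217, 1), (0, 61, 1), (1, 184, 0), (1, 236, 0), (0, 187, 1), (1, 103, 0), (0, 104, 1), (1, 225, 0), (1, 118, 0), (1, 105, 0), (1, 256, 0), (0, 165, 1), (1, 233, 2), (1, 232, 2), (0, 81, 1), (0, 131, 1), (0, 222, 4), (0, 123, 5), (0, 296, 5), (0, 78, 6), (0, 60, 1), (1, 60, 0), (1, 227, 0), (1, 223, 0), (0, 40, 1), (1, 292, 4), (1, 71, 6), (0, 223, 1), (0, 40, 6), (0, 227, 1), (0, 109, 1), (1, 215, 4), (1, 224, 0), (0, 280, 1), (1, 107, 0), (1, 40, 0), (1, 137, 4), (0, 139, 1), (1, 280, 0), (1, 109, 0), (0, 71, 9), (0, 69, 1), (1, 186, 0), (0, 107, 1), (0, 216, 4), (0, 149, 1), (1, 69, 0), (0, 232, 1), (0, 232, 6),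 (1, 216, 0), (0, 71, 5), (1, 71, 2), (0, 149, 10), (0, 161, 1), (0, 307, 1), (1, 305, 14), (0, 304, 1), (0, 155, 1), (0, 296, 1), (0, 176, 1), (0, 68, 1), (0, 131, 5), (0, 215, 1), (1, 123, 0), (1, 68, 0), (0, 231, 1), (1, 231, 0), (0, 216, 1), (1, 228, 0), (0, 215, 4), (1, 304, 0), (1, 61, 0), (1, 307, 0), (0, 292, 7), (1, 234, 0), (0, 304, 10), (1, 228, 2), (0, 137, 1), (1, 216, 4), (1, 121, 0), (0, 234, 1), (1, 222, 0), (1, 123, 4), (1, 71, 0), (0, 123, 1), (1, 232, 0)],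
  [(0, 18, 1), (0, 30, 1), (0, 112, 1), (0, 177, 1), (0, 20, 1), (0, 16, 0), (0, 23, 1), (0, 25, 1), (0, 47, 1), (0, 54, 1), (1, 47, 0), (0, 125, 1), (1, 193, 2), (0, 273, 1), (0, 99, 1), (0, 98, 1), (0, 99, 5), (1, 97, 0), (0, 97, 1), (0, 197, 5), (0, 190, 1), (0, 200, 1), (1, 196, 0), (1, 95, 0), (0, 95, 1), (0, 196, 1), (1, 95, 3), (1, 98, 0), (1, 144, 0), (0, 200, 5), (0, 197, 1), (0, 195, 1), (0, 168, 1), (0, 262, 1), (0, 108, 4), (1, 248, 3), (0, 244, 1), (1, 267, 0), (1, 239, 3), (0, 257, 1), (0, 247, 1), (1, 49, 6), (0, 220, 2), (0, 244, 5), (1, 288, 0), (0, 214, 2), (1, 127, 6), (0, 166, 4), (0, 291, 4), (1, 244, 3), (0, 286, 6), (0, 106, 2), (1, 106, 6), (0, 248, 1), (0, 239, 5), (1, 302, 0), (0, 50, 2), (0, 133, 1), (1, 60, 2), (0, 257, 5), (2, 1, 0), (1, 54, 0), (0, 71, 7), (1, 262, 0), (0, 127, 2), (0, 193, 5), (1, 273, 0), (0, 258, 1),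 (1, 145, 0), (1, 74, 0), (0, 290, 1), (1, 281, 3), (0, 147, 3), (1, 56, 2), (0, 175, 1), (0, 193, 1), (0, 95, 4), (1, 193, 0), (0, 285, 1), (0, 134, 1), (1, 247, 3), (0, 60, 7), (0, 100, 1), (1, 194, 0), (0, 198, 1), (0, 96, 1), (0, 163, 1), (0, 74, 1), (1, 100, 0), (0, 162, 1), (0, 48, 1), (1, 192, 0), (1, 201, 0), (0, 201, 1), (0, 202, 1), (1, 96, 0), (1, 203, 0), (1, 202, 0), (0, 192, 1), (1, 163, 0), (0, 144, 1), (1, 134, 0), (0, 299, 1), (1, 241, 2), (1, 221, 6), (1, 199, 0), (1, 162, 0), (1, 282, 3), (1, 168, 0), (0, 288, 1), (0, 145, 1), (0, 203, 1), (0, 262, 5), (1, 105, 6), (1, 262, 3), (0, 219, 2), (1, 266, 2), (1, 167, 3), (0, 77, 6), (1, 48, 0), (1, 61, 2), (1, 280, 2), (0, 291, 1), (1, 77, 2), (1, 249, 3), (0, 266, 6), (1, 291, 0), (1, 220, 6), (0, 240, 1), (1, 286, 2), (0, 249, 5), (0, 224, 6), (0, 280, 6), (0, 265, 6), (1, 242, 0), (0,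 42, 6), (1, 245, 4), (1, 257, 3), (0, 281, 5), (1, 238, 4), (0, 128, 5), (1, 76, 5), (0, 76, 3), (1, 147, 5), (0, 250, 1), (0, 194, 1), (0, 215, 2), (1, 224, 2), (1, 103, 6), (0, 83, 1), (1, 84, 6), (0, 152, 1), (0, 264, 1), (1, 175, 0), (0, 305, 11), (1, 259, 0), (1, 243, 4), (0, 282, 5), (0, 241, 6), (1, 245, 0), (0, 61, 6), (0, 167, 5), (1, 284, 0), (1, 257, 0), (0, 105, 2), (1, 291, 4), (0, 237, 3), (1, 71, 4), (1, 292, 9), (1, 167, 0), (1, 83, 0), (1, 195, 0), (0, 224, 4), (0, 221, 2), (1, 290, 0), (0, 56, 3), (1, 261, 0), (1, 108, 4), (1, 230, 3), (1, 148, 0), (1, 219, 6), (1, 151, 0), (0, 165, 3), (1, 225, 5), (0, 283, 1), (1, 244, 0), (1, 198, 0), (1, 165, 5), (1, 265, 2), (1, 166, 4), (0, 243, 4), (0, 217, 2), (1, 299, 0), (0, 84, 7), (1, 240, 0), (1, 67, 0), (0, 246, 4), (0, 240, 6), (0, 230, 5), (1, 56, 5), (0, 159, 10), (1, 303, 0), (0,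 148, 1), (1, 159, 5), (0, 255, 1), (0, 247, 5), (1, 224, 4), (1, 256, 5), (0, 281, 3), (0, 251, 1), (1, 289, 5), (1, 283, 0), (1, 216, 6), (0, 249, 1), (0, 276, 6), (1, 287, 0), (0, 265, 1), (1, 240, 2), (0, 58, 1), (1, 250, 0), (1, 249, 0), (1, 281, 5), (1, 305, 7), (1, 255, 4), (1, 104, 6), (0, 49, 2), (0, 287, 1), (0, 218, 2), (1, 215, 6), (0, 302, 1), (1, 285, 0), (0, 104, 2), (0, 248, 5), (1, 286, 0), (1, 243, 0), (0, 225, 3), (0, 238, 4), (1, 229, 4), (0, 229, 4), (0, 286, 1), (1, 190, 0), (0, 245, 4), (0, 167, 1), (1, 246, 4), (1, 237, 5), (0, 77, 1), (1, 77, 0), (0, 103, 2), (0, 259, 1), (0, 56, 6), (1, 217, 6), (1, 42, 3), (1, 218, 6), (0, 216, 2), (1, 302, 5), (1, 255, 0), (0, 255, 4), (0, 261, 1), (1, 254, 0), (0, 67, 1), (1, 253, 0), (0, 267, 1), (1, 265, 0), (0, 42, 1), (0, 302, 3), (0, 292, 2), (1, 128, 3), (0, 303, 1), (0, 263, 6), (1,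 248, 0), (1, 50, 6), (0, 199, 1), (1, 251, 0), (0, 300, 1), (1, 241, 0), (0, 260, 1), (0, 263, 1)],
  [(0, 31, 1), (0, 72, 1), (0, 26, 1), (0, 21, 1), (0, 17, 0), (0, 18, 0), (0, 35, 1), (0, 47, 4), (0, 91, 1), (1, 47, 2), (1, 91, 0), (1, 91, 2), (0, 125, 4), (0, 101, 1), (1, 119, 0), (0, 205, 5), (0, 146, 4), (1, 146, 3), (1, 193, 5), (1, 95, 5), (1, 194, 3), (0, 193, 2), (0, 145, 4), (0, 194, 4), (1, 144, 3), (0, 192, 2), (0, 119, 5), (0, 190, 2), (0, 194, 2), (1, 145, 3), (0, 162, 5), (1, 195, 5), (1, 194, 5), (1, 119, 2), (1, 195, 2), (1, 168, 6), (1, 244, 6), (0, 287, 4), (1, 286, 5), (0, 242, 2), (1, 302, 3), (1, 292, 5), (2, 2, 0), (0, 63, 3), (0, 64, 1), (1, 48, 2), (0, 91, 4), (0, 120, 5), (1, 190, 2), (1, 249, 5), (1, 57, 2), (0, 191, 4), (0, 120, 1), (1, 199, 2), (1, 190, 5), (1, 216, 2), (0, 216, 6), (0, 57, 2), (0, 144, 4), (1, 143, 11),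 (1, 152, 6), (0, 152, 8), (1, 158, 5), (0, 170, 2), (0, 279, 1), (0, 95, 2), (0, 48, 2), (0, 284, 5), (0, 144, 2), (1, 40, 7), (1, 145, 5), (0, 190, 5), (0, 198, 4), (0, 162, 3), (1, 192, 2), (0, 195, 5), (0, 195, 2), (0, 191, 2), (1, 192, 5), (1, 101, 0), (0, 192, 5), (1, 205, 2), (0, 204, 1), (1, 162, 2), (0, 48, 5), (0, 205, 1), (1, 144, 5), (1, 205, 0), (1, 203, 3), (1, 146, 0), (1, 48, 5), (0, 131, 2), (1, 184, 2), (0, 184, 2), (0, 199, 5), (1, 77, 6), (1, 279, 0), (0, 240, 2), (0, 203, 4), (0, 285, 5), (0, 243, 2), (0, 300, 2), (0, 168, 2), (0, 60, 3), (1, 60, 6), (0, 77, 2), (0, 250, 5), (0, 251, 6), (1, 198, 3), (0, 119, 1), (1, 243, 6), (0, 302, 5), (1, 251, 2), (1, 80, 0), (0, 80, 1), (1, 41, 0), (1, 42, 7), (0, 292, 6), (0, 40, 2), (1, 70, 0), (0, 70, 8), (0, 292, 0), (0, 201, 3), (1, 292, 1), (1, 137, 5), (0, 137, 8), (1, 70, 6), (0, 143,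 3), (0, 42, 2), (0, 131, 4), (0, 148, 6), (0, 158, 10), (1, 170, 13), (0, 202, 3), (1, 285, 3), (0, 242, 5), (0, 41, 1), (1, 42, 5), (0, 42, 4), (0, 41, 4), (0, 282, 2), (0, 70, 1), (0, 283, 5), (0, 69, 3), (0, 40, 4), (1, 287, 4), (0, 145, 2), (1, 300, 3), (1, 288, 4), (1, 301, 4), (0, 259, 6), (0, 249, 3), (1, 58, 4), (0, 58, 5), (0, 244, 2), (0, 300, 5), (1, 303, 3), (1, 308, 10), (0, 290, 5), (1, 202, 4), (0, 301, 4), (1, 148, 8), (1, 41, 5), (0, 146, 1), (1, 204, 0), (0, 288, 4), (1, 162, 4), (0, 303, 5), (1, 259, 2), (1, 240, 6), (1, 70, 2), (0, 78, 3), (0, 284, 3), (1, 290, 3), (1, 201, 4), (1, 266, 4), (1, 40, 5), (0, 241, 2), (1, 242, 3), (1, 250, 3), (0, 271, 1), (0, 258, 5), (0, 70, 4), (0, 271, 5), (1, 283, 3), (0, 286, 3), (1, 69, 7), (1, 284, 3), (1, 282, 6), (1, 242, 6), (1, 167, 6), (1, 78, 7), (1, 284, 5), (0, 167, 2), (1, 82, 8)],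
  [(0, 52, 1), (0, 178, 1), (0, 24, 1), (0, 27, 1), (0, 36, 1), (0, 21, 0), (0, 20, 0), (0, 19, 0), (0, 53, 1), (0, 92, 1), (1, 92, 0), (1, 92, 2), (0, 92, 4), (0, 188, 2), (1, 188, 5), (0, 73, 5), (1, 185, 5), (0, 196, 2), (0, 197, 2), (1, 79, 0), (0, 75, 1), (0, 197, 4), (0, 79, 1), (1, 74, 5), (0, 100, 3), (1, 196, 2), (1, 256, 2), (1, 247, 6), (1, 248, 6), (0, 217, 4), (0, 81, 4), (0, 104, 4), (1, 123, 2), (0, 65, 1), (0, 80, 2), (1, 80, 8), (2, 3, 0), (0, 206, 1), (0, 206, 5), (1, 217, 4), (1, 50, 3), (1, 49, 3), (1, 103, 2), (1, 104, 4), (0, 123, 7), (1, 53, 0), (0, 56, 4), (1, 69, 6), (0, 172, 1), (1, 214, 2), (0, 297, 1), (1, 297, 0), (1, 67, 2), (0, 67, 8), (0, 256, 6), (1, 265, 5), (0, 273, 2), (1, 273, 5), (0, 96, 3), (1, 96, 4), (0, 74, 2), (0, 187, 2), (0, 299, 2), (1, 134, 5), (0, 185, 2), (1, 187, 5), (0, 225, 5), (0, 218, 5), (0, 163,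 4), (1, 165, 3), (0, 289, 6), (0, 214, 6), (1, 218, 3), (0, 49, 5), (0, 218, 0), (0, 103, 6), (0, 165, 5), (0, 107, 2), (1, 224, 6), (1, 225, 3), (1, 289, 6), (1, 218, 1), (0, 289, 2), (0, 214, 3), (1, 165, 6), (1, 289, 2), (0, 50, 3), (0, 217, 0), (1, 214, 5), (1, 217, 1), (1, 235, 4), (1, 186, 2), (0, 296, 4), (1, 231, 5), (1, 123, 7), (0, 123, 2), (0, 76, 5), (0, 271, 4), (0, 186, 2), (1, 80, 3), (0, 80, 7), (0, 204, 2), (0, 235, 4), (1, 204, 2), (0, 223, 2), (1, 107, 6), (1, 236, 4), (1, 81, 4), (1, 41, 3), (0, 151, 10), (1, 151, 4), (0, 236, 4), (0, 175, 8), (0, 307, 2), (1, 307, 16), (0, 238, 5), (0, 224, 2), (1, 281, 2), (1, 239, 4), (1, 227, 5), (1, 237, 2), (1, 50, 5), (0, 165, 2), (0, 231, 3), (1, 76, 3), (0, 239, 4), (1, 56, 4), (1, 163, 3), (1, 299, 5), (1, 100, 4), (1, 128, 5), (0, 50, 5), (1, 41, 7), (1, 153, 11), (0, 304, 2), (0, 227,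 3), (1, 304, 16), (1, 238, 3), (1, 175, 7), (0, 69, 4), (0, 134, 2), (0, 295, 1), (1, 156, 6), (1, 222, 6), (0, 271, 2), (1, 223, 6), (0, 281, 6), (0, 41, 6), (0, 296, 2), (0, 237, 6), (0, 247, 2), (1, 147, 2), (0, 147, 6), (0, 248, 2), (1, 245, 6), (0, 222, 2), (1, 83, 9)],
  [(0, 85, 1), (0, 113, 1), (0, 32, 1), (0, 179, 1), (0, 24, 0), (0, 37, 1), (0, 28, 1), (0, 23, 0), (0, 22, 0), (0, 53, 4), (1, 45, 0), (1, 54, 4), (1, 53, 2), (0, 53, 2), (1, 53, 4), (0, 45, 1), (0, 278, 2), (1, 118, 5), (0, 96, 2), (1, 96, 2), (0, 188, 4), (0, 74, 5), (1, 188, 3), (1, 273, 3), (0, 96, 5), (0, 273, 0), (0, 273, 4), (1, 96, 5), (1, 234, 5), (0, 105, 5), (1, 257, 6), (1, 262, 6), (0, 218, 4), (0, 61, 2), (0, 104, 0), (1, 289, 3), (1, 226, 6), (0, 290, 6), (2, 4, 0), (0, 118, 2), (1, 74, 2), (1, 105, 3), (1, 60, 3), (0, 60, 6), (0, 143, 2), (0, 225, 6), (0, 54,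 2), (0, 187, 0), (1, 74, 4), (0, 74, 3), (1, 185, 4), (1, 187, 1), (0, 257, 2), (0, 185, 3), (1, 102, 0), (0, 134, 5), (1, 104, 1), (0, 104, 5), (1, 61, 6), (1, 278, 5), (0, 164, 1), (1, 287, 3), (0, 287, 5), (1, 288, 2), (1, 222, 2), (1, 165, 2), (1, 207, 0), (1, 103, 5), (0, 165, 6), (0, 207, 1), (0, 102, 1), (1, 217, 3), (1, 49, 5), (1, 290, 2), (1, 225, 2), (0, 217, 5), (1, 256, 6), (1, 259, 6), (1, 254, 6), (0, 103, 3), (0, 222, 6), (0, 42, 3), (0, 255, 2), (0, 49, 3), (0, 256, 5), (0, 50, 6), (0, 288, 6), (0, 280, 3), (0, 166, 2), (0, 267, 4), (0, 41, 3), (0, 41, 0), (0, 161, 2), (0, 299, 4), (0, 42, 0), (1, 126, 0), (1, 49, 2), (1, 123, 6), (1, 161, 5), (0, 215, 3), (1, 273, 1), (0, 240, 3), (0, 49, 6), (0, 289, 5), (1, 261, 6), (0, 100, 4), (1, 134, 2), (0, 249, 2), (1, 280, 5), (1, 166, 6), (1, 103, 3), (0, 234, 3), (1, 67, 4), (0, 163, 3),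 (1, 260, 6), (1, 225, 6), (0, 67, 6), (1, 164, 0), (1, 104, 3), (1, 249, 6), (0, 256, 2), (1, 263, 6), (1, 256, 3), (1, 42, 6), (1, 40, 6), (1, 218, 4), (1, 253, 6), (1, 50, 2), (0, 226, 2), (1, 100, 3), (1, 143, 10), (1, 255, 6), (0, 214, 5), (0, 306, 9), (1, 163, 4), (0, 126, 1), (1, 258, 6), (1, 283, 5), (0, 250, 2), (0, 225, 2), (0, 143, 4), (0, 123, 3), (1, 41, 1), (1, 306, 9), (0, 103, 5), (0, 260, 2), (1, 304, 7), (0, 148, 5), (1, 215, 5), (1, 250, 6), (1, 214, 3), (0, 263, 2), (1, 299, 3), (0, 254, 2), (1, 222, 5), (1, 267, 4), (0, 283, 3), (0, 259, 2), (0, 262, 2), (0, 261, 2)],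
  [(0, 33, 1), (0, 86, 1), (0, 114, 1), (0, 44, 1), (0, 180, 1), (0, 38, 1), (0, 25, 0), (0, 27, 0), (0, 28, 0), (0, 26, 0), (1, 54, 2), (0, 182, 1), (0, 124, 1), (0, 45, 3), (0, 54, 4), (0, 124, 4), (0, 46, 1), (1, 124, 2), (1, 46, 0), (1, 124, 0), (1, 45, 3), (1, 119, 5), (1, 210, 0), (0, 183, 1), (0, 205, 2), (0, 206, 4), (0, 200, 2), (1, 95, 2), (0, 210, 1), (1, 195, 3), (0, 195, 4), (0, 75, 4), (0, 192, 4), (0, 206, 2), (0, 200, 4), (0, 73, 2), (1, 134, 3), (1, 192, 3), (1, 193, 3), (0, 193, 4), (0, 144, 5), (0, 97, 2), (1, 97, 2), (1, 230, 6), (0, 109, 6), (1, 122, 3), (1, 267, 6), (0, 219, 4), (0, 280, 2), (0, 127, 5), (1, 127, 3), (0, 229, 2), (0, 130, 5), (0, 133, 5), (1, 274, 4), (0, 198, 5), (1, 70, 4), (0, 274, 6), (2, 5, 0), (0, 70, 6), (1, 79, 2), (1, 61, 5), (1, 251, 5), (1, 109, 2), (0, 68, 5), (0, 60, 5), (0, 183, 3), (0, 122, 5),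 (1, 182, 0), (0, 79, 2), (0, 203, 3), (0, 199, 4), (1, 144, 2), (1, 198, 2), (1, 146, 5), (1, 198, 5), (1, 108, 6), (1, 254, 3), (1, 221, 2), (1, 227, 6), (0, 108, 2), (1, 229, 6), (0, 81, 0), (1, 252, 3), (0, 228, 5), (0, 252, 5), (1, 261, 3), (1, 215, 2), (0, 215, 6), (0, 134, 4), (0, 59, 1), (1, 220, 2), (0, 106, 4), (1, 68, 5), (1, 70, 8), (1, 274, 0), (1, 227, 1), (0, 70, 2), (1, 40, 2), (0, 40, 5), (1, 205, 5), (1, 306, 7), (1, 60, 4), (0, 274, 1), (0, 119, 2), (1, 40, 4), (0, 40, 7), (0, 241, 3), (0, 95, 5), (1, 81, 6), (0, 261, 5), (0, 61, 3), (0, 166, 0), (0, 254, 5), (0, 265, 5), (0, 81, 2), (0, 245, 0), (0, 209, 1), (1, 175, 6), (0, 230, 2), (0, 198, 2), (1, 201, 3), (0, 68, 2), (0, 274, 3), (0, 107, 0), (0, 102, 2), (1, 219, 4), (0, 260, 0), (0, 139, 5), (1, 208, 0), (0, 300, 3), (0, 283, 2), (0, 126, 2), (0, 194, 0), (1, 194, 1), (1, 203,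 4), (1, 126, 5), (1, 107, 1), (1, 68, 8), (1, 199, 5), (1, 199, 3), (1, 172, 13), (0, 163, 5), (0, 266, 2), (1, 81, 1), (0, 227, 2), (0, 208, 1), (0, 250, 3), (0, 201, 4), (0, 306, 11), (1, 260, 1), (1, 67, 8), (0, 245, 5), (1, 228, 3), (1, 265, 3), (0, 67, 2), (1, 107, 5), (0, 190, 3), (1, 252, 5), (1, 299, 2), (1, 100, 2), (1, 166, 1), (0, 221, 6), (1, 274, 7), (1, 102, 5), (1, 190, 4), (0, 107, 3), (0, 146, 2), (0, 251, 3), (0, 299, 5), (0, 220, 6), (0, 228, 2), (0, 100, 5), (0, 202, 5), (1, 202, 2), (1, 264, 1), (1, 123, 5), (1, 250, 5), (1, 252, 1), (1, 228, 6), (0, 265, 2), (1, 280, 6), (0, 252, 3), (1, 163, 2), (0, 252, 0), (0, 227, 0), (0, 264, 0)],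
  [(0, 87, 1), (0, 115, 1), (0, 44, 3), (0, 39, 1), (0, 29, 0), (0, 31, 0), (0, 32, 0), (0, 30, 0), (0, 182, 2), (1, 124, 4), (0, 33, 0), (1, 182, 2), (1, 47, 4), (1, 46, 4), (1, 182, 4), (0, 46, 4), (0, 47, 2), (0, 182, 4), (1, 278, 3), (0, 278, 4), (0, 205, 4), (0, 212, 4), (0, 211, 1), (1, 205, 3), (1, 211, 0), (0, 209, 4), (1, 207, 2), (1, 46, 2), (1, 203, 2), (0, 212, 1), (0, 168, 5), (1, 168, 3), (1, 303, 5), (0, 303, 3), (0, 230, 4), (1, 237, 3), (0, 272, 1), (0, 71, 3), (2, 6, 0), (1, 219, 3), (0, 239, 3), (0, 221, 5), (0, 229, 6), (0, 238, 3), (1, 284, 2), (0, 128, 6), (0, 207, 2), (1, 128, 2), (0, 126, 0), (0, 124, 2), (0, 75, 2), (1, 146, 1), (0, 46, 2), (0, 146, 0), (1, 119, 4), (0, 75, 0), (1, 127, 4), (0, 219, 5), (1, 106, 2), (0, 220, 4), (1, 220, 4), (0, 106, 6), (1, 221, 3), (0, 119, 3), (0, 108, 5), (1, 230, 4), (1, 229, 2), (1, 108,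 3), (0, 127, 4), (0, 237, 5), (0, 300, 6), (0, 235, 5), (1, 76, 4), (1, 238, 5), (0, 76, 4), (0, 223, 0), (1, 231, 6), (1, 239, 5), (0, 58, 7), (1, 58, 2), (0, 147, 4), (1, 236, 2), (0, 161, 0), (1, 259, 4), (1, 223, 5), (1, 41, 2), (1, 223, 1), (0, 48, 3), (0, 152, 2), (1, 152, 12), (1, 161, 1), (0, 118, 3), (1, 242, 5), (0, 231, 4), (1, 235, 3), (0, 254, 0), (1, 231, 4), (0, 236, 3), (1, 126, 1), (0, 231, 2), (1, 138, 2), (1, 235, 5), (1, 143, 5), (0, 223, 3), (0, 143, 9), (0, 155, 2), (1, 155, 13), (1, 236, 5), (1, 297, 7), (0, 306, 10), (0, 236, 6), (1, 162, 5), (0, 145, 0), (1, 202, 3), (1, 145, 1), (0, 202, 4), (1, 201, 2), (0, 301, 5), (0, 164, 3), (1, 164, 4), (1, 138, 7), (0, 162, 2), (0, 284, 2), (0, 203, 5), (1, 71, 8), (0, 138, 11), (0, 235, 3), (1, 102, 4), (0, 102, 3), (1, 48, 4), (0, 254, 3), (0, 258, 4), (1, 208, 3), (0, 297, 10), (1,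 306, 8), (0, 259, 4), (0, 41, 7), (0, 266, 3), (1, 41, 4), (1, 207, 5), (0, 216, 3), (1, 216, 5), (1, 118, 4), (0, 207, 5), (1, 147, 4), (1, 285, 6), (1, 242, 2), (1, 282, 5), (1, 167, 1), (1, 241, 4), (0, 208, 4), (0, 201, 5), (0, 242, 6), (0, 284, 6), (1, 272, 0), (0, 242, 3), (1, 284, 6), (1, 258, 4), (1, 254, 1), (1, 301, 3), (0, 167, 0)],
  [(0, 88, 1), (0, 116, 1), (0, 34, 0), (0, 35, 0), (0, 36, 0), (1, 90, 4), (1, 91, 4), (0, 90, 2), (0, 91, 2), (1, 45, 2), (1, 92, 4), (0, 92, 2), (0, 37, 0), (0, 38, 0), (0, 39, 0), (0, 45, 4), (0, 93, 1), (0, 120, 4), (0, 93, 3), (1, 213, 3), (1, 213, 0), (0, 213, 4), (0, 213, 1), (1, 93, 0), (1, 93, 4), (0, 189, 4), (1, 109, 5), (0, 226, 5), (1, 226, 3), (1, 229, 3), (0, 243, 0), (1, 291, 6), (0, 221, 4), (1, 166, 3), (0, 76, 6), (0, 291, 2), (0, 262, 4), (0, 237, 4), (0, 220, 5), (0, 243, 5), (0, 132, 1),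 (0, 68, 8), (1, 121, 6), (0, 77, 5), (1, 69, 2), (0, 169, 9), (2, 7, 0), (1, 262, 4), (1, 243, 3), (1, 263, 4), (0, 286, 2), (1, 101, 2), (1, 287, 6), (1, 107, 3), (0, 288, 2), (1, 94, 2), (0, 263, 4), (1, 77, 3), (1, 255, 2), (1, 290, 6), (1, 223, 3), (0, 107, 5), (0, 281, 4), (1, 77, 5), (1, 58, 6), (1, 224, 3), (0, 80, 6), (0, 147, 5), (1, 127, 2), (1, 236, 3), (0, 121, 2), (1, 126, 3), (1, 280, 3), (0, 94, 2), (0, 101, 2), (0, 189, 2), (0, 102, 5), (0, 120, 2), (0, 126, 4), (1, 164, 2), (0, 207, 4), (1, 207, 3), (1, 286, 3), (0, 77, 3), (1, 286, 6), (1, 102, 2), (0, 109, 3), (1, 108, 2), (0, 290, 2), (0, 262, 0), (1, 288, 6), (1, 257, 2), (0, 257, 6), (0, 231, 6), (0, 286, 5), (1, 243, 1), (0, 255, 6), (1, 227, 3), (1, 81, 3), (0, 287, 2), (0, 166, 5), (0, 229, 5), (0, 227, 5), (1, 231, 2), (0, 280, 5), (0, 230, 6), (0, 127, 6), (1, 61, 3), (1,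 221, 4), (1, 219, 2), (0, 61, 5), (0, 81, 5), (1, 257, 5), (1, 262, 1), (1, 76, 2), (0, 238, 6), (0, 223, 5), (0, 58, 3), (1, 239, 2), (1, 238, 2), (1, 56, 3), (1, 251, 3), (0, 128, 4), (0, 251, 5), (0, 283, 6), (0, 56, 5), (1, 220, 3), (1, 106, 3), (0, 164, 5), (1, 250, 2), (1, 80, 4), (1, 80, 7), (1, 281, 4), (0, 236, 5), (0, 240, 5), (1, 122, 5), (0, 42, 7), (1, 169, 6), (1, 230, 2), (1, 147, 3), (1, 258, 2), (0, 106, 5), (0, 257, 3), (1, 287, 2), (0, 263, 0), (0, 224, 5), (1, 263, 1), (1, 235, 2), (0, 174, 7), (0, 249, 6), (1, 128, 4), (0, 287, 6), (1, 290, 4), (0, 301, 6), (1, 240, 3), (0, 290, 4), (0, 288, 5), (0, 259, 5), (0, 80, 3), (1, 68, 2), (0, 307, 11), (1, 298, 5), (1, 306, 14), (1, 307, 7), (0, 306, 4), (0, 239, 6), (1, 249, 2), (0, 228, 3), (0, 122, 3), (0, 108, 6), (1, 228, 5), (0, 258, 6), (1, 288, 3), (1, 259, 3), (1, 283, 2), (0,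 69, 8), (1, 155, 6), (0, 298, 13), (0, 235, 6), (1, 42, 2), (0, 150, 7), (0, 219, 6), (1, 255, 5), (1, 237, 4), (1, 232, 5), (0, 255, 3)],
  [(1, 181, 0), (1, 43, 0), (1, 47, 1), (0, 44, 2), (0, 124, 3), (0, 47, 3), (1, 46, 3), (1, 124, 1), (0, 45, 2), (1, 45, 1), (1, 98, 1), (1, 51, 1), (1, 48, 3), (0, 211, 2), (0, 93, 5), (1, 102, 1), (0, 99, 4), (0, 240, 4), (0, 244, 4), (1, 291, 1), (0, 105, 4), (1, 244, 2), (0, 241, 5), (0, 272, 2), (0, 67, 3), (1, 272, 3), (2, 8, 0), (1, 213, 5), (1, 68, 6), (0, 126, 3), (0, 46, 0), (1, 207, 1), (0, 213, 5), (1, 50, 1), (1, 164, 3), (0, 193, 3), (1, 288, 1), (0, 48, 0), (0, 102, 4), (0, 104, 6), (0, 291, 5), (1, 258, 1), (0, 256, 0), (1, 105, 2), (1, 55, 0), (1, 83, 10), (1, 67, 5), (1, 157, 4), (1, 93, 5), (0, 95, 3), (1, 162, 3), (1, 95, 1), (0, 297, 9), (0, 83, 8), (1, 104, 5), (1, 145, 4), (1, 144, 4), (0,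 207, 3), (1, 126, 2), (1, 290, 1), (0, 249, 4), (0, 201, 2), (0, 218, 3), (0, 214, 4), (0, 288, 3), (1, 68, 3), (1, 225, 4), (0, 287, 3), (1, 214, 1), (0, 58, 4), (0, 157, 9), (1, 103, 4), (1, 193, 1), (0, 49, 0), (1, 164, 1), (0, 103, 0), (1, 283, 1), (1, 165, 1), (0, 198, 3), (1, 303, 2), (0, 192, 0), (1, 198, 1), (0, 225, 0), (0, 290, 3), (0, 50, 4), (0, 144, 0), (1, 256, 4), (1, 279, 1), (1, 203, 1), (0, 199, 3), (0, 162, 0), (1, 289, 1), (0, 202, 2), (0, 251, 4), (1, 216, 1), (0, 250, 4), (1, 201, 1), (1, 58, 7), (1, 287, 1), (1, 282, 2), (1, 199, 1), (1, 305, 6), (0, 305, 2), (0, 285, 4), (1, 82, 5), (0, 277, 7), (0, 173, 10), (1, 176, 2), (1, 301, 1), (0, 302, 0), (0, 84, 4), (0, 148, 3), (0, 212, 2), (0, 145, 5), (0, 203, 2), (1, 202, 1), (1, 285, 2), (1, 164, 5), (0, 84, 10), (1, 192, 4), (1, 49, 4), (1, 233, 3), (1, 249, 1), (1, 218, 2),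 (0, 282, 4), (0, 125, 2), (1, 303, 6), (1, 259, 1), (0, 165, 4), (0, 217, 3), (0, 301, 3), (0, 298, 3), (0, 259, 3), (0, 232, 5), (0, 283, 4), (0, 167, 4), (0, 216, 5), (1, 217, 2), (1, 266, 1), (1, 208, 5), (0, 209, 0), (0, 82, 8), (1, 232, 6), (1, 208, 2), (0, 300, 0), (1, 302, 6), (0, 289, 4), (0, 266, 5)],
  [(0, 43, 0), (0, 181, 1), (0, 44, 0), (0, 46, 3), (0, 45, 0), (1, 45, 4), (0, 47, 0), (0, 99, 2), (0, 162, 4), (0, 202, 0), (0, 98, 0), (1, 46, 1), (1, 162, 1), (1, 145, 2), (0, 208, 5), (1, 48, 1), (0, 164, 4), (0, 291, 0), (0, 290, 0), (1, 272, 8), (1, 93, 2), (0, 68, 4), (1, 83, 4), (1, 124, 3), (0, 124, 0), (0, 279, 0), (1, 213, 2), (0, 199, 0), (0, 55, 1), (0, 213, 2), (1, 103, 1), (0, 93, 2), (0, 102, 0), (0, 225, 4), (0, 51, 0), (0, 214, 0), (1, 49, 1), (1, 288, 5), (0, 272, 7), (0, 82, 6), (1, 82, 3), (0, 49, 4), (1, 256, 1), (0, 164,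 0), (0, 83, 2), (0, 192, 3), (1, 47, 3), (0, 198, 0), (1, 171, 5), (0, 48, 4), (1, 290, 5), (0, 145, 3), (0, 95, 0), (1, 198, 4), (0, 251, 0), (1, 105, 4), (1, 203, 5), (0, 207, 0), (0, 193, 0), (1, 214, 4), (0, 201, 0), (0, 305, 12), (1, 144, 1), (1, 193, 4), (1, 289, 4), (1, 95, 4), (0, 144, 3), (1, 50, 4), (0, 105, 6), (1, 199, 4), (0, 287, 0), (1, 225, 1), (1, 202, 5), (0, 165, 0), (0, 216, 0), (1, 240, 4), (0, 164, 2), (1, 251, 4), (0, 68, 7), (1, 258, 5), (1, 305, 16), (0, 304, 12), (1, 201, 5), (0, 176, 14), (1, 192, 1), (1, 84, 3), (1, 277, 7), (0, 150, 8), (1, 148, 11), (0, 203, 0), (0, 125, 0), (0, 50, 0), (1, 126, 4), (1, 283, 4), (1, 207, 4), (0, 212, 0), (0, 126, 5), (0, 303, 6), (0, 289, 0), (0, 208, 2), (1, 291, 3), (1, 287, 5), (0, 303, 2), (0, 288, 0), (1, 165, 4), (1, 241, 3), (1, 217, 5), (0, 217, 6), (0, 244, 6), (1, 176, 7), (1,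 104, 2), (0, 249, 0), (0, 218, 6), (1, 249, 4), (0, 258, 0), (1, 301, 5), (1, 250, 4), (0, 58, 2), (1, 102, 3), (1, 84, 9), (0, 266, 0), (0, 103, 4), (1, 211, 2), (1, 58, 5), (0, 67, 5), (1, 266, 3), (0, 209, 2), (0, 302, 2), (0, 256, 4), (0, 167, 6), (1, 233, 6), (1, 216, 3), (0, 285, 6), (1, 285, 4), (1, 244, 4), (0, 233, 5), (0, 283, 0), (1, 67, 7), (1, 259, 5), (1, 282, 4), (1, 218, 5), (1, 302, 1), (1, 232, 3), (1, 167, 4), (0, 250, 0), (0, 300, 4), (0, 104, 3)],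
  [(0, 53, 3), (0, 54, 3), (0, 53, 0), (0, 54, 0), (0, 52, 0), (1, 54, 1), (1, 55, 1), (0, 55, 0), (1, 53, 1), (1, 134, 1), (0, 183, 5), (0, 163, 0), (0, 168, 4), (1, 267, 3), (0, 107, 4), (0, 109, 2), (0, 248, 4), (0, 189, 3), (0, 65, 3), (0, 60, 2), (0, 210, 2), (1, 67, 6), (0, 138, 8), (1, 60, 7), (1, 210, 2), (1, 54, 3), (1, 57, 1), (1, 53, 3), (0, 280, 4), (0, 133, 0), (1, 168, 4), (2, 10, 0), (0, 66, 1), (0, 267, 5), (1, 100, 5), (0, 134, 0), (1, 94, 1), (0, 134, 3), (0, 120, 3), (0, 260, 3), (0, 191, 3), (1, 231, 1), (0, 100, 2), (1, 267, 1), (1, 260, 3), (0, 253, 5), (0, 264, 4), (1, 253, 1), (1, 247, 2), (0, 260, 5), (0, 100, 0), (1, 264, 2), (0, 94, 0), (1, 236, 6), (0, 246, 6), (1, 248, 4), (0, 236, 0), (0, 247, 3), (0, 57, 0), (1, 253, 3), (0, 215, 0), (1, 222, 3), (1, 101, 1), (0, 191, 0), (0, 222, 0), (1, 68, 1), (0, 68, 0), (0, 101,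 0), (0, 135, 1), (0, 292, 5), (1, 292, 6), (1, 215, 3), (0, 135, 3), (1, 83, 3), (1, 109, 4), (1, 58, 1), (1, 168, 2), (0, 189, 0), (0, 235, 0), (1, 280, 4), (0, 61, 0), (0, 158, 9), (1, 169, 8), (1, 298, 6), (0, 234, 2), (0, 61, 4), (1, 234, 6), (1, 264, 4), (0, 109, 4), (1, 260, 5), (0, 226, 0), (1, 226, 1), (1, 254, 2), (1, 163, 5), (0, 267, 0), (1, 235, 6), (1, 222, 1), (1, 224, 1), (0, 247, 6), (0, 120, 0), (0, 166, 6), (0, 168, 6), (0, 56, 2), (1, 56, 6), (0, 138, 10), (0, 163, 2), (0, 227, 4), (1, 265, 1), (0, 281, 0), (0, 83, 9), (0, 299, 3), (0, 252, 6), (1, 280, 1), (0, 56, 0), (1, 163, 1), (0, 277, 10), (0, 277, 5), (0, 166, 3), (1, 166, 2), (1, 277, 4), (0, 153, 9), (1, 295, 7), (0, 222, 5), (0, 231, 0), (0, 236, 2), (0, 223, 4), (0, 121, 3), (1, 299, 4), (1, 227, 2), (1, 58, 3), (1, 299, 1), (1, 235, 1), (0, 254, 4), (0, 58, 6), (0, 81,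 3), (0, 105, 0), (1, 231, 3), (0, 265, 4), (1, 236, 1), (0, 107, 6), (1, 105, 5), (0, 215, 5), (1, 100, 1), (1, 227, 4), (0, 235, 2), (1, 81, 2), (0, 231, 5), (1, 254, 4), (1, 61, 1), (0, 298, 12), (1, 305, 15), (0, 306, 3), (1, 306, 15), (0, 299, 0), (1, 121, 5), (0, 224, 0), (1, 56, 1), (1, 138, 3), (0, 67, 4), (1, 226, 5), (0, 183, 2), (1, 137, 6), (1, 105, 1), (0, 105, 3), (0, 264, 6), (0, 265, 0), (1, 134, 4), (0, 130, 0), (0, 224, 3), (1, 61, 4), (0, 133, 2), (0, 81, 6), (1, 246, 2), (0, 122, 2), (1, 261, 4), (0, 223, 6), (1, 107, 2), (0, 226, 3), (1, 223, 4), (1, 122, 6), (1, 223, 2), (1, 224, 5), (0, 254, 6), (1, 245, 5), (0, 280, 0), (0, 139, 6), (1, 295, 11), (0, 295, 10), (1, 121, 1), (0, 58, 0), (0, 121, 0), (0, 135, 5), (1, 281, 1), (1, 261, 2), (0, 234, 4), (1, 281, 6), (0, 248, 0), (1, 166, 5), (1, 248, 1), (0, 122, 0), (1, 81, 5), (1,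 122, 1), (1, 109, 6), (0, 253, 0), (0, 227, 6), (0, 135, 7), (1, 265, 4), (1, 107, 4), (1, 247, 5), (0, 261, 6), (0, 261, 4), (1, 234, 4), (0, 130, 2), (1, 245, 2), (0, 245, 6), (1, 215, 1), (1, 252, 4), (1, 246, 5), (0, 281, 2)],
  [(0, 89, 1), (0, 59, 0), (1, 274, 2), (1, 70, 1), (0, 276, 0), (0, 82, 7), (1, 68, 4), (1, 70, 7), (1, 82, 4), (0, 139, 7), (0, 149, 3), (1, 304, 15), (1, 60, 5), (0, 60, 0), (1, 60, 1), (0, 68, 3), (0, 62, 0), (0, 65, 0), (0, 64, 0), (0, 67, 7), (0, 70, 7), (1, 67, 3), (0, 70, 3), (0, 68, 6), (0, 70, 0), (1, 67, 1), (1, 78, 8), (0, 274, 8), (0, 63, 2), (0, 63, 0), (1, 138, 4), (0, 66, 0), (0, 60, 4), (1, 84, 4), (0, 152, 7), (1, 149, 11), (1, 150, 5), (0, 150, 9), (1, 155, 7), (0, 155, 8), (2, 11, 0), (1, 274, 5), (0, 83, 4), (0, 65, 2), (1, 68, 7), (0, 67, 0), (0, 71, 4), (1, 277, 12), (1, 78, 5), (0, 84, 6), (0, 78,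 5), (0, 297, 0), (1, 69, 3), (0, 69, 0), (1, 70, 5), (1, 69, 1), (0, 69, 5), (0, 69, 7), (1, 69, 5), (1, 71, 1), (0, 71, 6), (1, 71, 7), (1, 305, 5), (0, 298, 11), (1, 308, 11), (1, 78, 3), (0, 78, 7), (0, 80, 0), (0, 69, 2), (0, 71, 8), (0, 292, 4), (1, 84, 7), (1, 80, 6), (1, 78, 1), (1, 83, 1), (1, 84, 10), (1, 292, 7), (1, 148, 4), (0, 84, 9), (0, 274, 5), (0, 136, 1), (0, 78, 0), (1, 82, 2), (0, 138, 9), (1, 71, 5), (1, 274, 8), (1, 80, 1), (1, 170, 11), (0, 148, 10), (1, 148, 10), (0, 80, 4), (1, 277, 1), (1, 69, 8), (1, 71, 3), (1, 292, 3), (0, 137, 6), (0, 148, 4), (1, 297, 6), (1, 297, 15), (0, 71, 0), (0, 297, 11), (0, 298, 14), (1, 298, 4), (0, 305, 13), (0, 304, 0), (0, 305, 10), (1, 306, 10), (0, 297, 8), (1, 143, 9), (0, 307, 0), (0, 306, 8), (1, 306, 6), (1, 307, 15), (0, 292, 8), (0, 82, 9), (0, 82, 5), (0, 78, 2), (0, 143, 0), (1,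 137, 7), (0, 137, 10), (0, 70, 5), (0, 274, 2), (1, 70, 3), (1, 82, 6), (0, 83, 0)],
  [(0, 96, 4), (0, 73, 4), (0, 273, 3), (1, 74, 1), (1, 239, 6), (0, 108, 0), (0, 238, 0), (1, 237, 1), (0, 219, 0), (0, 268, 1), (0, 129, 1), (0, 110, 1), (0, 275, 1), (0, 171, 9), (0, 173, 9), (1, 171, 6), (0, 174, 0), (0, 156, 8), (1, 173, 6), (0, 74, 4), (0, 75, 5), (0, 72, 0), (1, 196, 1), (0, 206, 3), (0, 75, 3), (0, 97, 0), (1, 79, 1), (0, 200, 0), (0, 96, 0), (0, 206, 0), (1, 96, 3), (0, 200, 3), (1, 96, 1), (1, 229, 1), (1, 108, 1), (0, 273, 5), (1, 273, 2), (0, 74, 0), (0, 73, 0), (0, 197, 3), (0, 128, 0), (0, 196, 0), (1, 106, 1), (0, 239, 0), (0, 79, 0), (1, 219, 1), (1, 243, 2), (1, 76, 6), (0, 220, 3), (0, 221, 0), (0, 197, 0), (0, 127, 0), (0, 77, 4), (0, 238, 2), (0, 286, 4), (0, 237, 0), (0, 243, 6), (0, 133, 4), (1, 106, 5), (0, 109, 5), (1, 122,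 2), (1, 109, 1), (1, 219, 5), (1, 128, 6), (0, 84, 8), (0, 122, 4), (1, 74, 3), (1, 122, 4), (1, 176, 8), (0, 219, 3), (1, 293, 1), (1, 237, 6), (2, 12, 0), (1, 97, 1), (1, 238, 6), (1, 77, 1), (0, 147, 0), (1, 147, 6), (0, 78, 8), (0, 84, 5), (1, 83, 2), (0, 83, 7), (1, 84, 8), (0, 84, 11), (1, 84, 5), (1, 277, 3), (1, 273, 4), (1, 243, 5), (0, 221, 3), (0, 173, 12), (1, 127, 5), (0, 78, 4), (1, 77, 4), (0, 286, 0), (1, 286, 4), (0, 295, 9), (0, 108, 3), (0, 229, 0), (0, 295, 7), (1, 286, 1), (1, 221, 1), (1, 148, 6), (1, 148, 2), (0, 122, 6), (0, 106, 3), (1, 308, 4), (0, 308, 15), (0, 308, 7), (0, 229, 3), (0, 83, 10), (1, 80, 5), (1, 76, 1), (1, 84, 2), (1, 78, 6), (0, 80, 8), (1, 293, 10), (1, 78, 2), (1, 172, 2), (0, 293, 12), (0, 132, 2), (0, 130, 6), (0, 294, 5), (1, 108, 5), (1, 83, 5), (0, 275, 4), (0, 80, 5), (0, 76, 2), (1, 229, 5), (0,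 130, 4), (0, 127, 3), (1, 238, 1), (0, 243, 3), (0, 128, 2), (1, 230, 1), (1, 109, 3), (0, 160, 13), (0, 148, 12), (1, 160, 10), (1, 82, 1), (0, 239, 2), (0, 230, 0), (0, 82, 0), (1, 160, 8), (0, 160, 9), (0, 148, 8), (0, 109, 0), (1, 220, 1), (1, 127, 1), (0, 133, 6), (0, 106, 0), (1, 295, 8), (0, 295, 15), (1, 295, 15), (1, 295, 10), (0, 77, 0), (0, 76, 0), (1, 230, 5), (0, 237, 2), (1, 221, 5), (0, 230, 3), (0, 277, 11), (0, 277, 9), (0, 147, 2), (1, 147, 1), (1, 128, 1), (1, 239, 1), (0, 132, 0), (1, 82, 7), (0, 220, 0), (1, 220, 5), (1, 80, 2)],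
  [(0, 117, 1), (0, 89, 0), (0, 85, 0), (0, 87, 0), (0, 88, 0), (0, 86, 0), (0, 90, 3), (1, 91, 1), (1, 90, 3), (1, 92, 1), (1, 92, 3), (0, 92, 3), (0, 91, 3), (1, 90, 1), (1, 91, 3), (1, 213, 1), (0, 93, 4), (1, 93, 1), (0, 213, 3), (0, 213, 0), (0, 99, 0), (1, 93, 3), (0, 93, 0), (1, 213, 4), (1, 233, 1), (0, 291, 3), (0, 233, 0), (0, 131, 3), (0, 269, 1), (0, 270, 1), (0, 110, 0), (1, 272, 1), (1, 272, 5), (0, 272, 5), (0, 99, 3), (1, 204, 1), (0, 92, 0), (0, 90, 0), (0, 271, 3), (0, 91, 0), (1, 121, 2), (1, 291, 2), (0, 291, 6), (0, 176, 7), (1, 111, 12), (0, 293, 13), (0, 294, 13), (1, 121, 4), (0, 168, 0), (0, 135, 2), (0, 308, 14), (0, 308, 16), (0, 308, 6), (2, 13, 0), (0, 132, 3), (0, 294, 8), (1, 168, 5), (0, 168, 3), (0, 272, 0), (0, 184, 0), (0, 135, 4), (1, 138, 1), (1, 184, 1), (1, 168, 1), (0, 232, 4), (0, 135, 6), (0, 131, 0), (1, 291,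 5), (0, 204, 0), (1, 186, 1), (1, 228, 4), (0, 121, 6), (0, 130, 7), (0, 138, 5), (0, 130, 3), (1, 156, 1), (0, 296, 3), (0, 228, 4), (1, 233, 4), (1, 232, 1), (0, 121, 4), (0, 232, 0), (1, 232, 4), (0, 271, 0), (0, 186, 0), (0, 296, 0), (0, 228, 0)],
  [(1, 118, 3), (0, 119, 4), (0, 125, 3), (1, 119, 1), (0, 117, 0), (0, 205, 0), (0, 118, 4), (1, 119, 3), (0, 112, 0), (0, 146, 3), (0, 270, 3), (0, 136, 0), (0, 116, 0), (0, 113, 0), (0, 115, 0), (0, 275, 2), (0, 272, 4), (0, 114, 0), (0, 278, 0), (1, 161, 2), (1, 146, 2), (1, 205, 1), (1, 118, 1), (0, 161, 3), (1, 123, 1), (0, 119, 0), (1, 176, 1), (0, 272, 8), (1, 244, 1), (0, 123, 6), (1, 148, 7), (0, 302, 4), (1, 123, 3), (1, 205, 4), (1, 148, 5), (0, 153, 10), (0, 176, 0), (0, 148, 7), (0, 123, 0), (1, 272, 2), (0, 125, 5), (1, 176, 3), (0, 176, 13), (0, 129, 0), (0, 148, 9), (0, 205, 3), (0, 278,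 3), (1, 148, 1), (0, 261, 3), (1, 285, 1), (1, 278, 4), (0, 118, 0), (1, 148, 3), (0, 146, 5), (0, 275, 0), (1, 154, 9), (0, 161, 5), (1, 278, 1), (0, 148, 11), (0, 285, 3), (0, 295, 5), (1, 146, 4), (0, 306, 7), (2, 14, 0), (0, 244, 0), (1, 272, 6), (0, 244, 3), (0, 133, 3), (0, 133, 7), (1, 161, 4), (1, 302, 4), (0, 261, 0), (1, 261, 1), (1, 244, 5), (0, 285, 0), (1, 261, 5), (1, 285, 5), (0, 292, 9), (0, 292, 3), (0, 302, 6), (1, 302, 2), (1, 292, 8), (1, 292, 2)],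
  [(1, 182, 1), (0, 182, 3), (0, 178, 0), (0, 180, 0), (0, 185, 4), (1, 210, 1), (0, 183, 4), (0, 190, 4), (0, 177, 0), (1, 181, 1), (1, 185, 3), (0, 183, 0), (1, 185, 1), (0, 210, 0), (1, 190, 3), (1, 188, 1), (0, 226, 4), (1, 247, 4), (1, 274, 1), (0, 212, 5), (1, 272, 4), (1, 274, 3), (0, 293, 3), (0, 274, 7), (1, 190, 1), (0, 194, 3), (0, 226, 6), (0, 246, 5), (0, 181, 0), (0, 179, 0), (1, 187, 2), (1, 194, 2), (0, 185, 0), (0, 187, 3), (1, 194, 4), (1, 195, 1), (1, 264, 3), (1, 257, 1), (0, 253, 6), (1, 253, 2), (0, 267, 6), (0, 260, 4), (1, 226, 2), (0, 269, 0), (0, 270, 0), (0, 264, 3), (1, 187, 4), (1, 274, 6), (0, 274, 0), (1, 272, 7), (0, 194, 5), (0, 272, 6), (0, 268, 0), (0, 270, 2), (0, 182, 0), (1, 182, 3), (1, 211, 1), (1, 267, 2), (0, 195, 3), (1, 255, 3), (0, 257, 0), (0, 262, 3), (0, 262, 6), (1, 293, 5), (0, 294, 4), (1, 295, 9),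 (1, 277, 2), (1, 263, 3), (1, 248, 2), (0, 274, 4), (0, 263, 3), (0, 277, 8), (0, 247, 4), (0, 295, 8), (0, 187, 5), (1, 262, 5), (1, 293, 8), (1, 188, 4), (0, 188, 3), (0, 272, 3), (0, 255, 5), (1, 277, 6), (0, 209, 5), (0, 264, 5), (1, 195, 4), (0, 190, 0), (0, 277, 3), (1, 255, 1), (1, 284, 4), (1, 260, 4), (0, 234, 5), (1, 264, 5), (0, 275, 5), (0, 188, 0), (1, 257, 4), (0, 195, 0), (0, 209, 3), (0, 267, 3), (1, 246, 1), (1, 260, 2), (0, 284, 4), (1, 263, 5), (0, 303, 4), (0, 275, 3), (0, 263, 5), (1, 208, 4), (1, 234, 1), (1, 226, 4), (0, 211, 0), (0, 208, 0), (1, 208, 1), (1, 248, 5), (0, 257, 4), (1, 303, 1), (0, 303, 0), (1, 234, 3), (1, 247, 1), (0, 255, 0), (0, 208, 3), (0, 284, 0), (0, 212, 3), (1, 246, 3), (0, 248, 6), (1, 284, 1), (0, 260, 6), (0, 253, 4), (0, 248, 3), (1, 253, 4), (0, 242, 4), (0, 246, 0), (1, 267, 5)],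
  []]

def W : List (List Nat) := [[0],
   [1],
   [2],
   [3],
   [4],
   [5],
   [6],
   [7],
   [8],
   [9],
   [10],
   [11],
   [12],
   [13],
   [14]]

noncomputable def P : Par := ⟨T, (nat_lit 4), (nat_lit 15), (nat_lit 522), (nat_lit 29), (nat_lit 536870911), (nat_lit 17), (nat_lit 131071), (nat_lit 16), (nat_lit 98296), (nat_lit 98304), (nat_lit 0x2307b9ac5a909398a418820), RT⟩


end Cfsg.Agent.SchurG.Co1.Top
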